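import Mathlib
import Cfsg.Prelude.Def_Blocks
import Cfsg.Agent.Blocks.Fong
import Cfsg.Agent.Blocks.CliffordCentral
import Cfsg.Agent.Blocks.CentralScalar
import Cfsg.Agent.Blocks.Basic
import Cfsg.Agent.Blocks.Local
import Cfsg.Agent.Characters.Clifford

/-!
# Block idempotents and a normal `p`-subgroup

`P` a normal `p`-subgroup of the finite group `G`, `C = C_G(P)`.

* `memLocalIdeal_centralChar`: central characters vanish modulo `M` outside `C`.
* `sameBlock_of_common_constituent`: irreducible characters of `G` with a common constituent on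
  restriction to `C` lie in the same block.
* `underSet B`: the irreducible characters of `C` under the members of `B`;
  `lyingOver_underSet`: `B` consists of all characters over them.
* `blockCoeff_eq`: the idempotent of `B` is that of `underSet B`; in particular
  `blockCoeff_eq_zero`: it vanishes outside `C`.
-/

set_option autoImplicit false

namespace Cfsg.Agent.H646.NormalSupport

open Cfsg
open Cfsg.Agent.Blocks.Fong (cj cj_apply lyingOver mem_lyingOver)

universe u

variable {G : Type u} [Group G] [Fintype G] {p : ℕ} [Fact p.Prime] {M : Ideal AlgInt}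

/-- Central characters vanish modulo `M` outside the centralizer of a normal `p`-subgroup. -/
theorem memLocalIdeal_centralChar (hM : IsPModular p M) {χ : G → ℂ} (hχ : IsIrrCharacter G χ)
    (P : Subgroup G) [P.Normal] (hP : IsPGroup p P) {g : G}
    (hg : g ∉ Subgroup.centralizer (P : Set G)) : MemLocalIdeal M (centralChar χ g) := by
  have hprime : M.IsPrime := hM.2.1.isPrime
  obtain ⟨n, c, hc, hn⟩ := Blocks.CentralScalar.pow_centralChar_eq hχ P hP g hg
  refine Blocks.Local.memLocalIdeal_of_pow (n := n)
    (Blocks.Local.memLocalRing_of_isIntegral (Blocks.CentralScalar.isIntegral_centralChar hχ g)) ?_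
  rw [hn]
  exact Blocks.Local.memLocalIdeal_mul_right (Blocks.Local.memLocalIdeal_p hM)
    (Blocks.Local.memLocalRing_of_isIntegral hc)

/-- Characters with a common constituent on the centralizer of a normal `p`-subgroup lie in the
same block. -/
theorem sameBlock_of_common_constituent (hM : IsPModular p M)
    (P : Subgroup G) [P.Normal] (hP : IsPGroup p P) (N : Subgroup G) [N.Normal] [Fintype N]
    (hN : Subgroup.centralizer (P : Set G) ≤ N)
    {χ χ' : IrrCharacter G} {θ : IrrCharacter N}
    (h : classInner (fun n : N => (χ : G → ℂ) n) (θ : N → ℂ) ≠ 0)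
    (h' : classInner (fun n : N => (χ' : G → ℂ) n) (θ : N → ℂ) ≠ 0) :
    SameBlock M (χ : G → ℂ) (χ' : G → ℂ) := by
  have hprime : M.IsPrime := hM.2.1.isPrime
  intro g
  by_cases hg : g ∈ N
  · have h1 := Blocks.CliffordCentral.centralChar_eq_inducedCentralChar N χ θ h ⟨g, hg⟩
    have h2 := Blocks.CliffordCentral.centralChar_eq_inducedCentralChar N χ' θ h' ⟨g, hg⟩
    simp only at h1 h2
    rw [h1, h2, sub_self]
    exact Blocks.Local.memLocalIdeal_zero
  · have hg' : g ∉ Subgroup.centralizer (P : Set G) := fun h => hg (hN h)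
    exact Blocks.Local.memLocalIdeal_sub (memLocalIdeal_centralChar hM χ.2 P hP hg')
      (memLocalIdeal_centralChar hM χ'.2 P hP hg')

/-- The irreducible characters of `N` under the members of `B`. -/
def underSet (N : Subgroup G) [Fintype N] (B : Set (IrrCharacter G)) : Set (IrrCharacter N) :=
  {θ | ∃ χ ∈ B, classInner (fun n : N => (χ : G → ℂ) n) (θ : N → ℂ) ≠ 0}

omit [Fintype G] in
theorem mem_underSet (N : Subgroup G) [Fintype N] (B : Set (IrrCharacter G))
    (θ : IrrCharacter N) : θ ∈ underSet N B ↔
      ∃ χ ∈ B, classInner (fun n : N => (χ : G → ℂ) n) (θ : N → ℂ) ≠ 0 := Iff.rfl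

omit [Fact p.Prime] in
theorem cj_mem_underSet (N : Subgroup G) [N.Normal] [Fintype N] (B : Set (IrrCharacter G))
    (g : G) (θ : IrrCharacter N) (hθ : θ ∈ underSet N B) : cj N g θ ∈ underSet N B := by
  obtain ⟨χ, hχ, h⟩ := hθ
  refine ⟨χ, hχ, ?_⟩
  have h1 := Characters.Clifford.classInner_restrict_conjNormal (N := N)
    (Blocks.Basic.irr_isClassFunction χ.2) (θ : N → ℂ) g
  have h2 : (cj N g θ : N → ℂ) = (θ : N → ℂ) ∘ (MulAut.conjNormal g : MulAut N) := rfl
  rw [h2, h1]
  exact h

/-- A block consists of all the characters over the characters of `N` under it, when `N` contains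
the centralizer of a normal `p`-subgroup. -/
theorem lyingOver_underSet (hM : IsPModular p M) {B : Set (IrrCharacter G)} (hB : IsPBlock M B)
    (P : Subgroup G) [P.Normal] (hP : IsPGroup p P) (N : Subgroup G) [N.Normal] [Fintype N]
    (hN : Subgroup.centralizer (P : Set G) ≤ N) :
    lyingOver N (underSet N B) = B := by
  have hprime : M.IsPrime := hM.2.1.isPrime
  ext χ
  rw [mem_lyingOver]
  constructor
  · rintro ⟨θ, ⟨χ', hχ', h'⟩, h⟩
    exact Blocks.Basic.isPBlock_mem_of_sameBlock hB hχ'
      (sameBlock_of_common_constituent hM P hP N hN h' h)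
  · intro hχ
    obtain ⟨θ, hθ⟩ := Blocks.Fong.exists_constituent N χ
    exact ⟨θ, ⟨χ, hχ, hθ⟩, hθ⟩

open scoped Classical in
/-- The idempotent of a block is supported on `N` (where `N` contains the centralizer of a normal
`p`-subgroup), and given there by the idempotent of the set of characters under the block. -/
theorem blockCoeff_eq (hM : IsPModular p M) {B : Set (IrrCharacter G)} (hB : IsPBlock M B)
    (P : Subgroup G) [P.Normal] (hP : IsPGroup p P) (N : Subgroup G) [N.Normal] [Fintype N]
    (hN : Subgroup.centralizer (P : Set G) ≤ N) (g : G) :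
    blockCoeff B g = if h : g ∈ N then blockCoeff (underSet N B) ⟨g, h⟩ else 0 := by
  have h1 := lyingOver_underSet hM hB P hP N hN
  conv_lhs => rw [← h1]
  refine Blocks.Fong.blockCoeff_lyingOver N (underSet N B) (cj_mem_underSet N B) ?_ g
  intro χ hχ ψ hψ
  rw [h1] at hχ
  exact ⟨χ, hχ, hψ⟩

/-- The idempotent of a block vanishes outside the centralizer of a normal `p`-subgroup. -/
theorem blockCoeff_eq_zero (hM : IsPModular p M) {B : Set (IrrCharacter G)} (hB : IsPBlock M B)
    (P : Subgroup G) [P.Normal] (hP : IsPGroup p P) {g : G}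
    (hg : g ∉ Subgroup.centralizer (P : Set G)) : blockCoeff B g = 0 := by
  classical
  have : (Subgroup.centralizer (P : Set G)).Normal := Subgroup.normal_centralizer
  have : Fintype (Subgroup.centralizer (P : Set G)) := Fintype.ofFinite _
  rw [blockCoeff_eq hM hB P hP _ le_rfl, dif_neg hg]

end Cfsg.Agent.H646.NormalSupport
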