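import Mathlib
import Cfsg.Prelude.Def_Blocks
import Cfsg.Prelude.Def_BlockLocal
import Cfsg.Prelude.Def_BrauerPairs
import Cfsg.Agent.Blocks.Fong
import Cfsg.Agent.Blocks.Over
import Cfsg.Agent.Blocks.Basic
import Cfsg.Agent.Blocks.Local
import Cfsg.Agent.Blocks.Covering
import Cfsg.Agent.Blocks.Orthogonality
import Cfsg.Agent.S0964
import Cfsg.Agent.H646.NormalSupport
import Cfsg.Agent.Blocks.PRegular

/-!
# Normal subgroups all of whose blocks are covered by exactly one block

`UCov M N`: any two irreducible characters of `G` over the same block of the normal subgroup `N`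
lie in the same block of `G`.  This holds when `N` contains the centralizer of a normal
`p`-subgroup (`ucov_of_centralizer_le`) and when `G/N` is a `p`-group (`ucov_of_index`).

* `blockCoeff_eq`: the idempotent of a block `B` of `G` is the one of `underSet N B` on `N` and
  vanishes off `N`;
* `mem_underSet_iff`: `underSet N B` is the union of the conjugates of any block `e` covered by `B`;
* `blockCoeff_eq_sum`: `blockCoeff B g = |T|⁻¹ ∑ x, (coefficient of e at x⁻¹ g x)`, `T` the
  stabilizer of `e`;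
* `exists_block_of_stable`: a `G`-stable block of `N` has the same idempotent as a block of `G`.
-/

set_option autoImplicit false

namespace Cfsg.Agent.H646.UCov

open Cfsg
open Cfsg.Agent.Blocks.Fong (cj cj_apply cj_cj cj_one cj_apply_one lyingOver mem_lyingOver)
open Cfsg.Agent.H646.NormalSupport
open scoped ComplexConjugate

universe u

variable {G : Type u} [Group G] {M : Ideal AlgInt}

/-- Any two characters of `G` over the same block of `N` lie in the same block. -/
def UCov (M : Ideal AlgInt) (N : Subgroup G) [Fintype N] : Prop :=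
  ∀ θ θ' : IrrCharacter N, SameBlock M (θ : N → ℂ) (θ' : N → ℂ) → ∀ χ χ' : IrrCharacter G,
    classInner (fun n : N => (χ : G → ℂ) n) (θ : N → ℂ) ≠ 0 →
    classInner (fun n : N => (χ' : G → ℂ) n) (θ' : N → ℂ) ≠ 0 →
    SameBlock M (χ : G → ℂ) (χ' : G → ℂ)

section cj

variable (N : Subgroup G) [hN : N.Normal]

theorem cj_inv_cj (g : G) (θ : IrrCharacter N) : cj N g⁻¹ (cj N g θ) = θ := by
  rw [cj_cj, mul_inv_cancel, cj_one]

theorem cj_cj_inv (g : G) (θ : IrrCharacter N) : cj N g (cj N g⁻¹ θ) = θ := by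
  rw [cj_cj, inv_mul_cancel, cj_one]

theorem sameBlock_cj (g : G) {θ ψ : IrrCharacter N} (h : SameBlock M (θ : N → ℂ) (ψ : N → ℂ)) :
    SameBlock M (cj N g θ : N → ℂ) (cj N g ψ : N → ℂ) :=
  Blocks.Covering.sameBlock_conjIrr N g h

theorem sameBlock_cj_iff (g : G) {θ ψ : IrrCharacter N} :
    SameBlock M (cj N g θ : N → ℂ) (cj N g ψ : N → ℂ) ↔
      SameBlock M (θ : N → ℂ) (ψ : N → ℂ) := by
  refine ⟨fun h => ?_, sameBlock_cj N g⟩
  have := sameBlock_cj (M := M) N g⁻¹ h
  rwa [cj_inv_cj, cj_inv_cj] at this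

theorem isConjCharOf_iff (g : G) (θ ψ : IrrCharacter N) :
    IsConjCharOf N g (θ : N → ℂ) (ψ : N → ℂ) ↔ ψ = cj N g⁻¹ θ := by
  constructor
  · intro h
    apply Subtype.ext
    funext n
    rw [cj_apply]
    refine h _ _ ?_
    rw [MulAut.conjNormal_apply]
    group
  · rintro rfl k k' hk
    rw [cj_apply]
    refine congrArg (θ : N → ℂ) (Subtype.ext ?_)
    rw [MulAut.conjNormal_apply, hk]
    group

theorem stabilizesBlock_iff_cj (e : Set (IrrCharacter N)) (g : G) :
    StabilizesBlock N e g ↔ ∀ θ ∈ e, cj N g⁻¹ θ ∈ e := by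
  unfold StabilizesBlock
  constructor
  · rintro ⟨-, h⟩ θ hθ
    obtain ⟨ψ, hψ, h1⟩ := h θ hθ
    rw [isConjCharOf_iff] at h1
    rwa [← h1]
  · intro h
    refine ⟨by rw [Subgroup.normalizer_eq_top]; trivial, fun θ hθ => ⟨_, h θ hθ, ?_⟩⟩
    rw [isConjCharOf_iff]

/-- If one member of the block `e` is moved into `e` then `e` is stable. -/
theorem stable_of_mem [M.IsPrime] {e : Set (IrrCharacter N)} (he : IsPBlock M e) {g : G}
    {θ : IrrCharacter N} (hθ : θ ∈ e) (h : cj N g θ ∈ e) : ∀ ψ ∈ e, cj N g ψ ∈ e := by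
  intro ψ hψ
  refine Blocks.Basic.isPBlock_mem_of_sameBlock he h (sameBlock_cj N g ?_)
  exact Blocks.Basic.isPBlock_sameBlock he hθ hψ

end cj

section finite

variable [Fintype G] {p : ℕ} [Fact p.Prime]

/-- First case: `N` contains the centralizer of a normal `p`-subgroup. -/
theorem ucov_of_centralizer_le (hM : IsPModular p M)
    (P : Subgroup G) [P.Normal] (hP : IsPGroup p P) (N : Subgroup G) [N.Normal] [Fintype N]
    (hN : Subgroup.centralizer (P : Set G) ≤ N) : UCov M N := by
  have hprime : M.IsPrime := hM.2.1.isPrime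
  intro θ θ' hθ χ χ' h h' g
  by_cases hg : g ∈ N
  · have h1 := Blocks.Over.centralChar_eq_of_over N χ.2 θ.2 h ⟨g, hg⟩
    have h2 := Blocks.Over.centralChar_eq_of_over N χ'.2 θ'.2 h' ⟨g, hg⟩
    simp only at h1 h2
    rw [h1, h2]
    exact Blocks.Fong.induced_congr hprime N (Blocks.Basic.irr_isClassFunction θ.2)
      (Blocks.Basic.irr_isClassFunction θ'.2) hθ g
  · have hg' : g ∉ Subgroup.centralizer (P : Set G) := fun h => hg (hN h)
    exact Blocks.Local.memLocalIdeal_sub (memLocalIdeal_centralChar hM χ.2 P hP hg')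
      (memLocalIdeal_centralChar hM χ'.2 P hP hg')

/-- Second case: `G/N` is a `p`-group. -/
theorem ucov_of_index (hM : IsPModular p M) (N : Subgroup G) [N.Normal] [Fintype N]
    (hidx : ∃ k : ℕ, N.index = p ^ k) : UCov M N := by
  have hprime : M.IsPrime := hM.2.1.isPrime
  have hreg : ∀ g : G, IsPRegular p g → g ∈ N := by
    intro g hg
    obtain ⟨k, hk⟩ := hidx
    have h1 : orderOf (g : G ⧸ N) ∣ p ^ k := by
      rw [← hk, Subgroup.index_eq_card]
      exact orderOf_dvd_natCard _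
    have h2 : orderOf (g : G ⧸ N) ∣ orderOf g := orderOf_map_dvd (QuotientGroup.mk' N) g
    have h3 : Nat.Coprime (orderOf g) (p ^ k) :=
      Nat.Coprime.pow_right k (((Nat.Prime.coprime_iff_not_dvd Fact.out).2 hg).symm)
    have h4 : orderOf (g : G ⧸ N) = 1 := Nat.eq_one_of_dvd_coprimes h3 h2 h1
    rw [orderOf_eq_one_iff] at h4
    exact (QuotientGroup.eq_one_iff g).1 h4
  intro θ θ' hθ χ χ' h h'
  rw [Blocks.PRegular.sameBlock_iff_of_isPRegular hM]
  intro g hg
  have hgN := hreg g hg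
  have e1 := Blocks.Over.centralChar_eq_of_over N χ.2 θ.2 h ⟨g, hgN⟩
  have e2 := Blocks.Over.centralChar_eq_of_over N χ'.2 θ'.2 h' ⟨g, hgN⟩
  simp only at e1 e2
  rw [e1, e2]
  exact Blocks.Fong.induced_congr hprime N (Blocks.Basic.irr_isClassFunction θ.2)
    (Blocks.Basic.irr_isClassFunction θ'.2) hθ g

variable (N : Subgroup G) [hN : N.Normal] [Fintype N]

omit [Fintype G] in
/-- A block consists of all the characters over the characters of `N` under it. -/
theorem lyingOver_underSet [M.IsPrime] (hU : UCov M N) {B : Set (IrrCharacter G)}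
    (hB : IsPBlock M B) : lyingOver N (underSet N B) = B := by
  ext χ
  rw [mem_lyingOver]
  constructor
  · rintro ⟨θ, ⟨χ', hχ', h'⟩, h⟩
    exact Blocks.Basic.isPBlock_mem_of_sameBlock hB hχ'
      (hU θ θ (Blocks.Basic.sameBlock_refl _) χ' χ h' h)
  · intro hχ
    obtain ⟨θ, hθ⟩ := Blocks.Fong.exists_constituent N χ
    exact ⟨θ, ⟨χ, hχ, hθ⟩, hθ⟩

open scoped Classical in
/-- The idempotent of a block is supported on `N`. -/
theorem blockCoeff_eq [M.IsPrime] (hU : UCov M N) {B : Set (IrrCharacter G)}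
    (hB : IsPBlock M B) (g : G) :
    blockCoeff B g = if h : g ∈ N then blockCoeff (underSet N B) ⟨g, h⟩ else 0 := by
  have h1 := lyingOver_underSet N hU hB
  conv_lhs => rw [← h1]
  refine Blocks.Fong.blockCoeff_lyingOver N (underSet N B) (cj_mem_underSet N B) ?_ g
  intro χ hχ ψ hψ
  rw [h1] at hχ
  exact ⟨χ, hχ, hψ⟩

/-- The idempotent of a block is supported on `N`. -/
theorem blockCoeff_eq_subgroupBlockCoeff [M.IsPrime] (hU : UCov M N) {B : Set (IrrCharacter G)}
    (hB : IsPBlock M B) (g : G) :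
    blockCoeff B g = subgroupBlockCoeff N (underSet N B) g := by
  rw [blockCoeff_eq N hU hB]
  unfold subgroupBlockCoeff
  congr

/-- The characters of `N` under a block `B` are those of the conjugates of a covered block. -/
theorem mem_underSet_iff (hM : IsPModular p M) (hU : UCov M N) {B : Set (IrrCharacter G)}
    (hB : IsPBlock M B) {e : Set (IrrCharacter N)} (he : IsPBlock M e) {θ : IrrCharacter N}
    (hθ : θ ∈ e) (hθB : θ ∈ underSet N B) (φ : IrrCharacter N) :
    φ ∈ underSet N B ↔ ∃ g : G, cj N g φ ∈ e := by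
  have hprime : M.IsPrime := hM.2.1.isPrime
  obtain ⟨χ, hχ, hχθ⟩ := hθB
  constructor
  · rintro ⟨χ', hχ', hφ⟩
    obtain ⟨g, θ', hθ', h⟩ := S0964.result p M hM N B hB e he χ hχ θ hθ hχθ χ' hχ' φ hφ
    refine ⟨g⁻¹, ?_⟩
    have h1 : φ = cj N g θ' := by
      apply Subtype.ext
      funext n
      rw [h n, cj_apply]
      congr 1
    rw [h1, cj_inv_cj]
    exact hθ'
  · rintro ⟨g, hg⟩
    obtain ⟨χ', hχ'⟩ := Blocks.Over.exists_over N (cj N g φ)
    have h1 := hU θ (cj N g φ) (Blocks.Basic.isPBlock_sameBlock he hθ hg) χ χ' hχθ hχ'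
    have h2 : cj N g φ ∈ underSet N B :=
      ⟨χ', Blocks.Basic.isPBlock_mem_of_sameBlock hB hχ h1, hχ'⟩
    have h3 := cj_mem_underSet N B g⁻¹ _ h2
    rwa [cj_inv_cj] at h3

omit [Fact p.Prime] [Fintype N] in
/-- Counting the elements moving a character into a block. -/
theorem card_cj_mem [M.IsPrime] {e : Set (IrrCharacter N)} (he : IsPBlock M e)
    (T : Subgroup G) (hT : ∀ x : G, x ∈ T ↔ StabilizesBlock N e x) (φ : IrrCharacter N)
    [DecidablePred fun x : G => cj N x φ ∈ e] (x₀ : G) (hx₀ : cj N x₀ φ ∈ e) :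
    (Finset.univ.filter fun x : G => cj N x φ ∈ e).card = Nat.card T := by
  classical
  have hT' : ∀ x : G, x ∈ T ↔ ∀ θ ∈ e, cj N x θ ∈ e := by
    intro x
    rw [← T.inv_mem_iff, hT, stabilizesBlock_iff_cj, inv_inv]
  have hmem : ∀ x : G, cj N x φ ∈ e ↔ x₀⁻¹ * x ∈ T := by
    intro x
    rw [hT']
    have h1 : cj N x φ = cj N (x₀⁻¹ * x) (cj N x₀ φ) := by
      rw [cj_cj, mul_inv_cancel_left]
    rw [h1]
    exact ⟨fun h => stable_of_mem N he hx₀ h, fun h => h _ hx₀⟩
  rw [Nat.card_eq_fintype_card, ← Finset.card_univ]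
  symm
  refine Finset.card_bij (fun (t : T) _ => x₀ * (t : G)) ?_ ?_ ?_
  · intro t _
    rw [Finset.mem_filter, hmem]
    exact ⟨Finset.mem_univ _, by rw [inv_mul_cancel_left]; exact t.2⟩
  · intro a _ b _ hab
    exact Subtype.ext (mul_left_cancel hab)
  · intro x hx
    rw [Finset.mem_filter, hmem] at hx
    exact ⟨⟨_, hx.2⟩, Finset.mem_univ _, by rw [mul_inv_cancel_left]⟩

omit [Fintype G] in
theorem subgroupBlockCoeff_of_mem {H : Subgroup G} {e : Set (IrrCharacter H)} {g : G}
    (hg : g ∈ H) : subgroupBlockCoeff H e g = blockCoeff e ⟨g, hg⟩ := by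
  unfold subgroupBlockCoeff
  exact dif_pos hg

omit [Fintype G] in
theorem subgroupBlockCoeff_of_notMem {H : Subgroup G} {e : Set (IrrCharacter H)} {g : G}
    (hg : g ∉ H) : subgroupBlockCoeff H e g = 0 := by
  unfold subgroupBlockCoeff
  exact dif_neg hg

/-- The idempotent of `B` is the sum of the distinct conjugates of the idempotent of `e`. -/
theorem blockCoeff_eq_sum (hM : IsPModular p M) (hU : UCov M N) {B : Set (IrrCharacter G)}
    (hB : IsPBlock M B) {e : Set (IrrCharacter N)} (he : IsPBlock M e) {θ : IrrCharacter N}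
    (hθ : θ ∈ e) (hθB : θ ∈ underSet N B) (T : Subgroup G)
    (hT : ∀ x : G, x ∈ T ↔ StabilizesBlock N e x) (g : G) :
    blockCoeff B g = (Nat.card T : ℂ)⁻¹ * ∑ x : G, subgroupBlockCoeff N e (x⁻¹ * g * x) := by
  classical
  have hprime : M.IsPrime := hM.2.1.isPrime
  have : Finite (IrrCharacter N) := Characters.Core.finite_irr
  have := Fintype.ofFinite (IrrCharacter N)
  have hT0 : (Nat.card T : ℂ) ≠ 0 := by exact_mod_cast Nat.card_pos.ne'
  by_cases hg : g ∈ N
  · have h1 : ∀ x : G, subgroupBlockCoeff N e (x⁻¹ * g * x) =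
        (Nat.card N : ℂ)⁻¹ * ∑ φ : IrrCharacter N,
          if cj N x φ ∈ e then (φ : N → ℂ) 1 * conj ((φ : N → ℂ) ⟨g, hg⟩) else 0 := by
      intro x
      have hx : x⁻¹ * g * x ∈ N := by
        have := hN.conj_mem g hg x⁻¹
        rwa [inv_inv] at this
      rw [subgroupBlockCoeff_of_mem hx, Blocks.Orthogonality.blockCoeff_eq_sum, Finset.sum_filter]
      congr 1
      refine Finset.sum_bij' (fun θ _ => cj N x⁻¹ θ) (fun φ _ => cj N x φ)
        (fun _ _ => Finset.mem_univ _) (fun _ _ => Finset.mem_univ _) ?_ ?_ ?_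
      · intro θ _
        exact cj_cj_inv N x θ
      · intro φ _
        exact cj_inv_cj N x φ
      · intro θ _
        rw [cj_cj_inv, cj_apply_one, cj_apply]
        have h2 : MulAut.conjNormal x⁻¹ (⟨g, hg⟩ : N) = ⟨x⁻¹ * g * x, hx⟩ := by
          apply Subtype.ext
          rw [MulAut.conjNormal_apply, inv_inv]
        rw [h2]
    rw [Finset.sum_congr rfl fun x _ => h1 x, ← Finset.mul_sum, Finset.sum_comm,
      blockCoeff_eq N hU hB, dif_pos hg, Blocks.Orthogonality.blockCoeff_eq_sum,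
      Finset.sum_filter, mul_left_comm]
    refine congrArg (fun z : ℂ => (Nat.card N : ℂ)⁻¹ * z) ?_
    rw [Finset.mul_sum]
    refine Finset.sum_congr rfl fun φ _ => ?_
    rw [← Finset.sum_filter, Finset.sum_const, nsmul_eq_mul]
    split_ifs with hφ
    · obtain ⟨x₀, hx₀⟩ := (mem_underSet_iff N hM hU hB he hθ hθB φ).mp hφ
      rw [card_cj_mem N he T hT φ x₀ hx₀, ← mul_assoc, inv_mul_cancel₀ hT0, one_mul]
    · have h3 : (Finset.univ.filter fun x : G => cj N x φ ∈ e) = ∅ := by
        rw [Finset.filter_eq_empty_iff]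
        intro x _ hx
        exact hφ ((mem_underSet_iff N hM hU hB he hθ hθB φ).mpr ⟨x, hx⟩)
      rw [h3, Finset.card_empty, Nat.cast_zero, zero_mul, mul_zero]
  · rw [blockCoeff_eq N hU hB, dif_neg hg]
    refine (mul_eq_zero_of_right _ (Finset.sum_eq_zero fun x _ => ?_)).symm
    refine subgroupBlockCoeff_of_notMem fun hx => hg ?_
    have := hN.conj_mem _ hx x
    rwa [show x * (x⁻¹ * g * x) * x⁻¹ = g by group] at this

/-- The block of `G` over a stable block of `N` has the same idempotent. -/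
theorem underSet_eq_of_stable (hM : IsPModular p M) (hU : UCov M N) {B : Set (IrrCharacter G)}
    (hB : IsPBlock M B) {e : Set (IrrCharacter N)} (he : IsPBlock M e) {θ : IrrCharacter N}
    (hθ : θ ∈ e) (hθB : θ ∈ underSet N B) (hst : ∀ x : G, StabilizesBlock N e x) :
    underSet N B = e := by
  ext φ
  rw [mem_underSet_iff N hM hU hB he hθ hθB]
  constructor
  · rintro ⟨g, hg⟩
    have h1 := (stabilizesBlock_iff_cj N e g).mp (hst g) _ hg
    rwa [cj_inv_cj] at h1
  · intro h
    exact ⟨1, by rwa [cj_one]⟩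

/-- A `G`-stable block of `N` has the same idempotent as a block of `G`. -/
theorem exists_block_of_stable (hM : IsPModular p M) (hU : UCov M N)
    {e : Set (IrrCharacter N)} (he : IsPBlock M e) (hst : ∀ x : G, StabilizesBlock N e x) :
    ∃ B : Set (IrrCharacter G), IsPBlock M B ∧ underSet N B = e ∧
      ∀ g : G, blockCoeff B g = subgroupBlockCoeff N e g := by
  have hprime : M.IsPrime := hM.2.1.isPrime
  obtain ⟨θ, hθ⟩ := Blocks.Basic.isPBlock_nonempty he
  obtain ⟨χ, hχ⟩ := Blocks.Over.exists_over N θ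
  have hθB : θ ∈ underSet N (blockOf M (χ : G → ℂ)) :=
    ⟨χ, Blocks.Basic.mem_blockOf_self χ, hχ⟩
  have h1 := underSet_eq_of_stable N hM hU (Blocks.Basic.isPBlock_blockOf χ) he hθ hθB hst
  refine ⟨blockOf M (χ : G → ℂ), Blocks.Basic.isPBlock_blockOf χ, h1, fun g => ?_⟩
  rw [blockCoeff_eq_subgroupBlockCoeff N hU (Blocks.Basic.isPBlock_blockOf χ), h1]

end finite

end Cfsg.Agent.H646.UCov
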