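import Mathlib
import Cfsg.Prelude.Def_BrauerPairs
import Cfsg.Agent.H646.UCov
import Cfsg.Agent.S0970
import Cfsg.Agent.S0966

/-!
# Blocks over a stable block of a normal subgroup of `p`-power index

* `eq_of_blockCoeff_eq`: sets of irreducible characters with the same idempotent are equal;
* `cover_of_coeff`: a block of `G` with the same idempotent as `c` covers `c`;
* `sup_eq_top_and_defect`: `N P = G`, `P ∩ N` is a defect group of `c`.
-/

set_option autoImplicit false

namespace Cfsg.Agent.H646.PIndex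

open Cfsg
open Cfsg.Agent.Blocks.Fong (cj cj_apply)
open Cfsg.Agent.H646.NormalSupport Cfsg.Agent.H646.UCov

universe u

variable {G : Type u} [Group G] [Fintype G] {p : ℕ} [Fact p.Prime] {M : Ideal AlgInt}

omit [Fact p.Prime] in
/-- A set of irreducible characters is determined by its idempotent. -/
theorem eq_of_blockCoeff_eq {A B : Set (IrrCharacter G)}
    (h : ∀ g : G, blockCoeff A g = blockCoeff B g) : A = B := by
  classical
  ext χ
  have h1 := Blocks.Fong.sum_blockCoeff_mul A χ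
  have h2 := Blocks.Fong.sum_blockCoeff_mul B χ
  have h3 : ∑ g : G, blockCoeff A g * (χ : G → ℂ) g = ∑ g : G, blockCoeff B g * (χ : G → ℂ) g :=
    Finset.sum_congr rfl fun g _ => by rw [h]
  rw [h1, h2] at h3
  have h4 := Blocks.Basic.irr_one_ne_zero χ.2
  by_cases hA : χ ∈ A <;> by_cases hB : χ ∈ B
  · simp [hA, hB]
  · rw [if_pos hA, if_neg hB] at h3
    exact absurd h3 h4
  · rw [if_neg hA, if_pos hB] at h3
    exact absurd h3.symm h4
  · simp [hA, hB]

variable (N : Subgroup G) [hN : N.Normal] [Fintype N]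

omit [Fact p.Prime] in
/-- A block with the idempotent of `c` lies over `c`. -/
theorem underSet_eq_of_coeff [M.IsPrime] (hU : UCov M N) {B : Set (IrrCharacter G)}
    (hB : IsPBlock M B) {c : Set (IrrCharacter N)}
    (h : ∀ g : G, blockCoeff B g = subgroupBlockCoeff N c g) : underSet N B = c := by
  have h1 : ∀ n : N, blockCoeff (underSet N B) n = blockCoeff c n := by
    intro n
    have h2 := blockCoeff_eq_subgroupBlockCoeff N hU hB (n : G)
    rw [h, subgroupBlockCoeff_of_mem n.2, subgroupBlockCoeff_of_mem n.2] at h2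
    exact h2.symm
  exact eq_of_blockCoeff_eq h1

/-- `N` of `p`-power index, `c` a stable block of `N` covered by `B`. -/
theorem sup_eq_top_and_defect (hM : IsPModular p M) (hidx : ∃ k : ℕ, N.index = p ^ k)
    {c : Set (IrrCharacter N)} (hc : IsPBlock M c) (hst : ∀ x : G, StabilizesBlock N c x)
    {B : Set (IrrCharacter G)} (hB : IsPBlock M B)
    (hcov : ∃ χ ∈ B, ∃ θ ∈ c, classInner (fun n : N => (χ : G → ℂ) n) (θ : N → ℂ) ≠ 0)
    {P : Subgroup G} (hP : IsDefectGroup p M B P) :
    N ⊔ P = ⊤ ∧ IsDefectGroup p M c ((P ⊓ N).subgroupOf N) ∧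
      blockDefect p B = blockDefect p c + N.index.factorization p := by
  have hinv : ∀ g : G, ∀ θ ∈ c, ∀ θ' : IrrCharacter N,
      (∀ n : N, (θ' : N → ℂ) n = (θ : N → ℂ) ⟨g * n * g⁻¹, hN.conj_mem n n.2 g⟩) → θ' ∈ c := by
    intro g θ hθ θ' h
    have h1 : θ' = cj N g θ := by
      apply Subtype.ext
      funext n
      rw [h n, cj_apply]
      congr 1
    rw [h1]
    have h2 := (stabilizesBlock_iff_cj N c g⁻¹).mp (hst g⁻¹) θ hθ
    rwa [inv_inv] at h2
  have huniq := S0966.result p M hM N hidx c hc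
  have hmax : ∀ B' : Set (IrrCharacter G), IsPBlock M B' →
      (∃ χ ∈ B', ∃ θ ∈ c, classInner (fun n : N => (χ : G → ℂ) n) (θ : N → ℂ) ≠ 0) →
      blockDefect p B' ≤ blockDefect p B := by
    intro B' hB' hcov'
    rw [huniq.unique ⟨hB', hcov'⟩ ⟨hB, hcov⟩]
  obtain ⟨h1, h2, h3⟩ := S0970.result p M hM N c hc hinv B hB hcov hmax P hP
  refine ⟨?_, h2, h3⟩
  obtain ⟨k, hk⟩ := hidx
  have h4 : (P ⊔ N).index ∣ p ^ k := by
    rw [← hk]
    exact Subgroup.index_dvd_of_le le_sup_right
  obtain ⟨i, -, hi⟩ := (Nat.dvd_prime_pow (Fact.out : p.Prime)).mp h4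
  rcases Nat.eq_zero_or_pos i with h0 | h0
  · rw [h0, pow_zero, Subgroup.index_eq_one] at hi
    rw [sup_comm]
    exact hi
  · exact absurd (hi ▸ dvd_pow_self p h0.ne') h1

end Cfsg.Agent.H646.PIndex
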