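import Mathlib
import Cfsg.Prelude.Def_BrauerPairs
import Cfsg.Agent.H646.PIndex
import Cfsg.Agent.H646.RankTrace
import Cfsg.Agent.S0927
import Cfsg.Agent.Characters.Brauer
import Cfsg.Agent.CharactersDeep.ExtUnique
import Cfsg.Agent.CharactersDeep.NormalInd

/-!
# Restriction of characters to a normal subgroup, abelian defect

* `apply_ne_zero`: the characters of a block with abelian defect group `P` do not vanish on `u y`;
* `isIrr_restrict`: if `χ` is not fixed by multiplication by any nontrivial linear character of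
  the abelian quotient `G/N` then `χ` restricts irreducibly;
* `card_extensions`: if all members of a set `B` containing the characters over `θ` restrict
  irreducibly, then `θ` has `|G : N|` extensions in `B`.
-/

set_option autoImplicit false

namespace Cfsg.Agent.H646.Restrict

open Cfsg
open Cfsg.Agent.Characters.Core
open Cfsg.Agent.H646.NormalSupport Cfsg.Agent.H646.UCov
open scoped ComplexConjugate

universe u

variable {G : Type u} [Group G]

/-- The members of a block with abelian defect group do not vanish at `u y`. -/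
theorem exists_apply_ne_zero [Finite G] {p : ℕ} [Fact p.Prime] {M : Ideal AlgInt}
    (hM : IsPModular p M) {B : Set (IrrCharacter G)} (hB : IsPBlock M B) {P : Subgroup G}
    (hP : IsDefectGroup p M B P) (hab : ∀ x ∈ P, ∀ y ∈ P, x * y = y * x) :
    ∃ y : G, ∀ u ∈ P, ∀ χ ∈ B, (χ : G → ℂ) (u * y) ≠ 0 := by
  obtain ⟨y, hy, S, hS⟩ := Blocks.Basic.isDefectGroup_iff.mp hP
  refine ⟨y, fun u hu χ hχ h0 => ?_⟩
  rw [hS] at hu
  obtain ⟨v, hv, rfl⟩ := hu
  have h1 := (S0927.result p M hM B hB y hy S v hv).2 (fun w hw => ?_) χ hχ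
  · apply h1
    have h2 : centralChar (χ : G → ℂ) ((v : G) * y) = 0 := by
      rw [Blocks.Basic.centralChar_def]
      have : (χ : G → ℂ) ((v : G) * y) = 0 := h0
      rw [this]
      simp
    rw [h2]
    have := hM.2.1.isPrime
    exact Blocks.Local.memLocalIdeal_zero
  · apply Subtype.ext
    refine hab _ ?_ _ ?_
    · rw [hS]
      exact ⟨v, hv, rfl⟩
    · rw [hS]
      exact ⟨w, hw, rfl⟩

/-- A linear character of `G/N` as a linear character of `G`. -/
theorem isIrr_mul_quot {N : Subgroup G} [N.Normal] {χ : G → ℂ} (hχ : IsIrrCharacter G χ)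
    (μ : (G ⧸ N) →* ℂ) : IsIrrCharacter G fun g => χ g * μ (g : G ⧸ N) := by
  have h := CharactersDeep.ExtUnique.isIrr_mul_hom hχ
    ((μ.comp (QuotientGroup.mk' N)).toHomUnits)
  exact h

/-- If `χ` is fixed by no nontrivial linear character of the abelian group `G/N` then it
restricts irreducibly. -/
theorem isIrr_restrict [Fintype G] {N : Subgroup G} [N.Normal] [Fintype N]
    (hcomm : ∀ a b : G ⧸ N, a * b = b * a) {χ : G → ℂ} (hχ : IsIrrCharacter G χ)
    (h : ∀ μ : (G ⧸ N) →* ℂ, (∀ g : G, χ g * μ (g : G ⧸ N) = χ g) → μ = 1) :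
    IsIrrCharacter N fun n : N => χ n := by
  classical
  have hcr : IsCharacter N (fun n : N => χ n) :=
    Characters.Brauer.isCharacter_restrict (isIrr_isCharacter hχ) N
  refine isIrr_of_classInner_self hcr ?_
  let cg : CommGroup (G ⧸ N) := { (inferInstance : Group (G ⧸ N)) with mul_comm := hcomm }
  obtain ⟨S, hS⟩ := Characters.Brauer.exists_dual (G ⧸ N)
  -- the sum over the dual
  have h1 : ∑ μ ∈ S, classInner (fun g : G => χ g * μ (g : G ⧸ N)) χ =
      classInner (fun n : N => χ n) (fun n : N => χ n) := by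
    have hG : (Nat.card G : ℂ) ≠ 0 := card_ne_zero_complex
    have hN : (Nat.card N : ℂ) ≠ 0 := card_ne_zero_complex
    have hcard : (Nat.card G : ℂ) = Nat.card (G ⧸ N) * Nat.card N := by
      rw [Subgroup.card_eq_card_quotient_mul_card_subgroup N]
      push_cast
      rfl
    have e1 : ∑ μ ∈ S, classInner (fun g : G => χ g * μ (g : G ⧸ N)) χ =
        (Nat.card G : ℂ)⁻¹ * ∑ g : G, χ g * conj (χ g) * ∑ μ ∈ S, μ (g : G ⧸ N) := by
      simp_rw [classInner_def]
      rw [← Finset.mul_sum, Finset.sum_comm]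
      refine congrArg (fun z : ℂ => (Nat.card G : ℂ)⁻¹ * z) ?_
      refine Finset.sum_congr rfl fun g _ => ?_
      rw [Finset.mul_sum]
      exact Finset.sum_congr rfl fun μ _ => by ring
    rw [e1]
    have e2 : ∀ g : G, χ g * conj (χ g) * ∑ μ ∈ S, μ (g : G ⧸ N) =
        if g ∈ N then (Nat.card (G ⧸ N) : ℂ) * (χ g * conj (χ g)) else 0 := by
      intro g
      rw [hS (g : G ⧸ N)]
      by_cases hg : g ∈ N
      · rw [if_pos hg, if_pos ((QuotientGroup.eq_one_iff g).mpr hg)]
        ring
      · rw [if_neg hg, if_neg (fun hh => hg ((QuotientGroup.eq_one_iff g).mp hh)), mul_zero]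
    rw [Finset.sum_congr rfl fun g _ => e2 g, ← Finset.sum_filter, classInner_def]
    have e3 : ∑ g : G with g ∈ N, (Nat.card (G ⧸ N) : ℂ) * (χ g * conj (χ g)) =
        ∑ n : N, (Nat.card (G ⧸ N) : ℂ) * (χ n * conj (χ n)) := by
      refine (Finset.sum_bij (fun (n : N) _ => (n : G)) ?_ ?_ ?_ ?_).symm
      · intro n _
        simp
      · intro a _ b _ hab
        exact Subtype.ext hab
      · intro g hg
        rw [Finset.mem_filter] at hg
        exact ⟨⟨g, hg.2⟩, Finset.mem_univ _, rfl⟩
      · intro n _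
        rfl
    rw [e3, ← Finset.mul_sum, hcard]
    have hQ : (Nat.card (G ⧸ N) : ℂ) ≠ 0 := card_ne_zero_complex
    rw [← mul_assoc]
    congr 1
    rw [mul_inv]
    field_simp
  have h2 : ∀ μ ∈ S, classInner (fun g : G => χ g * μ (g : G ⧸ N)) χ = if μ = 1 then 1 else 0 := by
    intro μ _
    rw [classInner_irr (isIrr_mul_quot hχ μ) hχ]
    by_cases hμ : μ = 1
    · subst hμ
      rw [if_pos rfl, if_pos]
      funext g
      rw [MonoidHom.one_apply, mul_one]
    · rw [if_neg hμ, if_neg]
      intro hh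
      exact hμ (h μ fun g => congrFun hh g)
  rw [Finset.sum_congr rfl h2, Finset.sum_ite_eq'] at h1
  by_cases h3 : (1 : (G ⧸ N) →* ℂ) ∈ S
  · rw [if_pos h3] at h1
    exact h1.symm
  · rw [if_neg h3] at h1
    have h4 := classInner_self_eq_zero h1.symm
    have h5 := congrFun h4 1
    exact absurd h5 (isIrr_apply_one_ne_zero hχ)

/-- Counting extensions. -/
theorem card_extensions [Fintype G] {N : Subgroup G} [N.Normal] [Fintype N]
    {θ : N → ℂ} (hθ : IsIrrCharacter N θ) (B : Set (IrrCharacter G))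
    (hB : ∀ χ ∈ B, IsIrrCharacter N fun n : N => (χ : G → ℂ) n)
    (hθB : ∀ χ : IrrCharacter G, classInner (fun n : N => (χ : G → ℂ) n) θ ≠ 0 → χ ∈ B) :
    Nat.card {χ : IrrCharacter G // χ ∈ B ∧ ∀ n : N, (χ : G → ℂ) n = θ n} = N.index := by
  classical
  have : Finite (IrrCharacter G) := finite_irr
  have := Fintype.ofFinite (IrrCharacter G)
  have h1 : ∀ χ : IrrCharacter G, classInner (fun n : N => (χ : G → ℂ) n) θ =
      if χ ∈ B ∧ ∀ n : N, (χ : G → ℂ) n = θ n then 1 else 0 := by
    intro χ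
    by_cases hχ : classInner (fun n : N => (χ : G → ℂ) n) θ = 0
    · rw [hχ, if_neg]
      rintro ⟨-, h⟩
      have : (fun n : N => (χ : G → ℂ) n) = θ := funext h
      rw [this, classInner_irr_self hθ] at hχ
      exact one_ne_zero hχ
    · have h2 := hθB χ hχ
      have h3 := classInner_irr (hB χ h2) hθ
      rw [h3]
      by_cases h4 : (fun n : N => (χ : G → ℂ) n) = θ
      · rw [if_pos h4, if_pos ⟨h2, fun n => congrFun h4 n⟩]
      · rw [h3, if_neg h4] at hχ
        exact absurd rfl hχ
  have h2 := classFunction_eq_sum (Characters.Brauer.indFun_isClassFunction N θ)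
  have h3 := congrFun h2 1
  rw [CharactersDeep.NormalInd.indFun_one, Finset.sum_apply] at h3
  have h4 : ∀ χ : IrrCharacter G,
      (classInner (indFun N θ) (χ : G → ℂ) • (χ : G → ℂ)) 1 =
        if χ ∈ B ∧ ∀ n : N, (χ : G → ℂ) n = θ n then θ 1 else 0 := by
    intro χ
    rw [Pi.smul_apply, smul_eq_mul,
      Characters.Brauer.classInner_indFun N inferInstance θ _ (isIrr_isClassFunction χ.2),
      ← classInner_conj_symm, h1]
    by_cases h5 : χ ∈ B ∧ ∀ n : N, (χ : G → ℂ) n = θ n
    · rw [if_pos h5, if_pos h5, map_one, one_mul, ← h5.2 1]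
      rfl
    · rw [if_neg h5, if_neg h5, map_zero, zero_mul]
  rw [Finset.sum_congr rfl fun χ _ => h4 χ, ← Finset.sum_filter, Finset.sum_const,
    nsmul_eq_mul] at h3
  have h6 := mul_right_cancel₀ (isIrr_apply_one_ne_zero hθ) h3
  rw [Nat.card_eq_fintype_card, Fintype.card_subtype]
  exact_mod_cast h6.symm

end Cfsg.Agent.H646.Restrict
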