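import Mathlib
import Cfsg.Prelude.Def_Blocks
import Cfsg.Agent.Blocks.Basic
import Cfsg.Agent.S0906
import Cfsg.Agent.S0908

/-!
# Defect groups: existence, full defect

* `exists_isDefectGroup`: every block has a defect group;
* `blockDefect_eq_of_degree`: if some member of `B` has degree prime to `p` the defect is full;
* `isSylow_of_full`: then the defect groups are Sylow subgroups, and conversely.
-/

set_option autoImplicit false

namespace Cfsg.Agent.H646.DefectBasic

open Cfsg

universe u

variable {G : Type u} [Group G] [Finite G] {p : ℕ} [Fact p.Prime] {M : Ideal AlgInt}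

/-- Every block has a defect group. -/
theorem exists_isDefectGroup (hM : IsPModular p M) {B : Set (IrrCharacter G)}
    (hB : IsPBlock M B) : ∃ D : Subgroup G, IsDefectGroup p M B D := by
  obtain ⟨g, hg⟩ := S0906.result p M hM B hB
  obtain ⟨D, hD, -⟩ := Blocks.Basic.exists_isSylowCentralizer (g := g) (p := p) (Q := ⊥)
    IsPGroup.of_bot bot_le
  exact ⟨D, Blocks.Basic.isDefectGroup_iff.mpr ⟨g, hg, hD⟩⟩

/-- A block with a character of degree prime to `p` has full defect. -/
theorem blockDefect_eq_of_degree {B : Set (IrrCharacter G)} {χ : IrrCharacter G} (hχ : χ ∈ B)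
    (hdeg : ¬ p ∣ charDegree (χ : G → ℂ)) :
    blockDefect p B = (Nat.card G).factorization p := by
  rw [Blocks.Basic.blockDefect_def]
  have h1 : (charDegree (χ : G → ℂ)).factorization p = 0 :=
    Nat.factorization_eq_zero_of_not_dvd hdeg
  have h2 : sInf ((fun χ : IrrCharacter G => (charDegree (χ : G → ℂ)).factorization p) '' B) ≤ 0 := by
    rw [← h1]
    exact Nat.sInf_le ⟨χ, hχ, rfl⟩
  omega

/-- The defect groups of a block with a character of degree prime to `p` are the Sylow
`p`-subgroups. -/
theorem isDefectGroup_iff_sylow (hM : IsPModular p M) {B : Set (IrrCharacter G)}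
    (hB : IsPBlock M B) {χ : IrrCharacter G} (hχ : χ ∈ B)
    (hdeg : ¬ p ∣ charDegree (χ : G → ℂ)) (D : Subgroup G) :
    IsDefectGroup p M B D ↔ ∃ S : Sylow p G, (S : Subgroup G) = D := by
  have key : ∀ E : Subgroup G, IsDefectGroup p M B E → ∃ S : Sylow p G, (S : Subgroup G) = E := by
    intro E hE
    have hcard := S0908.result p M hM B hB E hE
    rw [blockDefect_eq_of_degree hχ hdeg] at hcard
    obtain ⟨S, hS⟩ := (Blocks.Basic.isPGroup_of_isDefectGroup hE).exists_le_sylow
    refine ⟨S, (Subgroup.eq_of_le_of_card_ge hS ?_).symm⟩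
    rw [S.card_eq_multiplicity, hcard]
  refine ⟨key D, ?_⟩
  rintro ⟨S, rfl⟩
  obtain ⟨E, hE⟩ := exists_isDefectGroup hM hB
  obtain ⟨T, rfl⟩ := key E hE
  obtain ⟨g, hg⟩ := MulAction.exists_smul_eq G T S
  have h1 := Blocks.Basic.isDefectGroup_conj hE g
  have h2 : ((T : Subgroup G)).map (MulAut.conj g).toMonoidHom = (S : Subgroup G) := by
    rw [← hg]
    rfl
  rwa [h2] at h1

end Cfsg.Agent.H646.DefectBasic
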