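import Cfsg.Prelude.Def_Blocks
import Cfsg.Agent.Characters.Core
import Cfsg.Agent.Characters.Elementary
import Cfsg.Agent.Characters.Brauer
import Cfsg.Agent.CharactersDeep.BrauerLocal
import Cfsg.Agent.OddOrderLocal.NilpotentCores
import Cfsg.Agent.S0147
import Cfsg.Agent.S0163

/-!
# Generalized characters vanishing off the `p`-regular elements

`mem_closure_of_vanish`: they are the integral combinations of characters induced from linear
characters of `p'`-subgroups.
-/

set_option autoImplicit false

namespace Cfsg.Agent.H646.ProjLat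

open Cfsg
open scoped ComplexConjugate
open Cfsg.Agent.Characters.Core Cfsg.Agent.Characters.Brauer

universe u

variable {G : Type u} [Group G]

theorem exists_int_classInner [Fintype G] {θ η : G → ℂ} (h1 : IsGeneralizedCharacter G θ)
    (h2 : IsGeneralizedCharacter G η) : ∃ n : ℤ, classInner θ η = n := by
  classical
  have : Finite (IrrCharacter G) := finite_irr
  have := Fintype.ofFinite (IrrCharacter G)
  obtain ⟨a, rfl⟩ := isGeneralizedCharacter_iff.1 h1
  obtain ⟨b, rfl⟩ := isGeneralizedCharacter_iff.1 h2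
  refine ⟨∑ ψ, a ψ * b ψ, ?_⟩
  have := classInner_sum_smul_sum_smul (G := G) (fun ψ => (a ψ : ℂ)) (fun ψ => (b ψ : ℂ))
  simp only [Int.cast_smul_eq_zsmul] at this
  rw [this]
  push_cast
  refine Finset.sum_congr rfl fun ψ _ => ?_
  rw [Complex.conj_eq_iff_im.2 (Complex.intCast_im _)]

theorem isGeneralizedCharacter_comp {H : Type*} [Group H] (f : H →* G) {χ : G → ℂ}
    (hχ : IsGeneralizedCharacter G χ) : IsGeneralizedCharacter H (χ ∘ f) := by
  obtain ⟨α, β, hα, hβ, rfl⟩ := hχ
  exact ⟨_, _, isCharacter_comp f hα, isCharacter_comp f hβ, rfl⟩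

theorem isGeneralizedCharacter_restrict {χ : G → ℂ} (hχ : IsGeneralizedCharacter G χ)
    (H : Subgroup G) : IsGeneralizedCharacter H (fun h : H => χ h) :=
  isGeneralizedCharacter_comp H.subtype hχ

theorem isClassFunction_of_gen {χ : G → ℂ} (hχ : IsGeneralizedCharacter G χ) :
    IsClassFunction G χ := by
  obtain ⟨α, β, hα, hβ, rfl⟩ := hχ
  intro g h
  rw [Pi.sub_apply, Pi.sub_apply, isCharacter_isClassFunction hα, isCharacter_isClassFunction hβ]

/-- The projection of a nilpotent group onto its `p'`-part. -/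
theorem exists_retraction [Finite G] (hN : Group.IsNilpotent G) (p : ℕ) [hp : Fact p.Prime] :
    ∃ (H : Subgroup G) (π : G →* H), H.Normal ∧ ¬ p ∣ Nat.card H ∧ (∀ h : H, π h = h) ∧
      ∀ x : G, IsPRegular p x → x ∈ H := by
  classical
  set P := pCore p G with hPdef
  set H := pPrimeCore p G with hHdef
  have hPn : P.Normal := inferInstance
  have hHn : H.Normal := inferInstance
  have hPH : P ⊔ H = ⊤ := Cfsg.Agent.OddOrderLocal.NilpotentCores.pCore_sup_pPrimeCore hN p
  have hPp : IsPGroup p P := Cfsg.Agent.Lib.Cores.pCore_isPGroup p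
  have hHp : (Nat.card H).Coprime p := Cfsg.Agent.Lib.Cores.pPrimeCore_coprime p
  have hHp' : ¬ p ∣ Nat.card H := fun h =>
    (hp.out.coprime_iff_not_dvd.1 hHp.symm) h
  obtain ⟨k, hk⟩ := hPp.exists_card_eq
  have hcop : (Nat.card P).Coprime (Nat.card H) := by
    rw [hk]
    exact Nat.Coprime.pow_left _ hHp.symm
  have hdis : Disjoint P H := by
    exact Subgroup.disjoint_of_coprime_natCard hcop
  have hcomm : ∀ a ∈ P, ∀ b ∈ H, a * b = b * a := fun a ha b hb =>
    Subgroup.commute_of_normal_of_disjoint P H hPn hHn hdis a b ha hb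
  obtain ⟨m, hm1, hm2⟩ : ∃ m : ℕ, m ≡ 0 [MOD Nat.card P] ∧ m ≡ 1 [MOD Nat.card H] :=
    ⟨_, (Nat.chineseRemainder hcop 0 1).2⟩
  have hmP : ∀ a ∈ P, a ^ m = 1 := by
    intro a ha
    rw [← orderOf_dvd_iff_pow_eq_one]
    have h1 : orderOf a ∣ Nat.card P := by
      have := orderOf_dvd_natCard (⟨a, ha⟩ : P)
      rwa [Subgroup.orderOf_mk] at this
    exact h1.trans ((Nat.modEq_zero_iff_dvd).1 hm1)
  have hmH : ∀ b ∈ H, b ^ m = b := by
    intro b hb
    have h1 : orderOf b ∣ Nat.card H := by
      have := orderOf_dvd_natCard (⟨b, hb⟩ : H)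
      rwa [Subgroup.orderOf_mk] at this
    have h2 : m ≡ 1 [MOD orderOf b] := hm2.of_dvd h1
    have := (pow_eq_pow_iff_modEq (x := b) (n := m) (m := 1)).2 h2
    rwa [pow_one] at this
  have hdec : ∀ x : G, ∃ a ∈ P, ∃ b ∈ H, a * b = x := by
    intro x
    have hx : x ∈ P ⊔ H := by rw [hPH]; exact Subgroup.mem_top x
    exact Subgroup.mem_sup_of_normal_left.1 hx
  have hpow : ∀ a ∈ P, ∀ b ∈ H, (a * b) ^ m = b := by
    intro a ha b hb
    have : Commute a b := hcomm a ha b hb
    rw [this.mul_pow, hmP a ha, hmH b hb, one_mul]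
  let f : G →* G :=
    { toFun := fun x => x ^ m
      map_one' := one_pow m
      map_mul' := by
        intro x y
        obtain ⟨a, ha, b, hb, rfl⟩ := hdec x
        obtain ⟨a', ha', b', hb', rfl⟩ := hdec y
        have h1 : a * b * (a' * b') = a * a' * (b * b') := by
          have := hcomm a' ha' b hb
          calc a * b * (a' * b') = a * (b * a') * b' := by group
            _ = a * (a' * b) * b' := by rw [this]
            _ = a * a' * (b * b') := by group
        rw [h1, hpow _ (P.mul_mem ha ha') _ (H.mul_mem hb hb'), hpow _ ha _ hb,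
          hpow _ ha' _ hb'] }
  have hfH : ∀ x, f x ∈ H := by
    intro x
    obtain ⟨a, ha, b, hb, rfl⟩ := hdec x
    show (a * b) ^ m ∈ H
    rw [hpow a ha b hb]
    exact hb
  refine ⟨H, f.codRestrict H hfH, hHn, hHp', fun h => ?_, fun x hx => ?_⟩
  · apply Subtype.ext
    exact hmH h h.2
  · obtain ⟨a, ha, b, hb, rfl⟩ := hdec x
    have hab : Commute a b := hcomm a ha b hb
    have h1 : a = 1 := by
      obtain ⟨j, hj⟩ := (IsPGroup.iff_orderOf.1 hPp) ⟨a, ha⟩
      rw [Subgroup.orderOf_mk] at hj
      have hob : orderOf b ∣ Nat.card H := by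
        have := orderOf_dvd_natCard (⟨b, hb⟩ : H)
        rwa [Subgroup.orderOf_mk] at this
      have hcop' : (orderOf a).Coprime (orderOf b) := by
        rw [hj]
        exact Nat.Coprime.pow_left _ ((Nat.Coprime.coprime_dvd_right hob hHp.symm))
      have h2 : orderOf (a * b) = orderOf a * orderOf b :=
        hab.orderOf_mul_eq_mul_orderOf_of_coprime hcop'
      rcases Nat.eq_zero_or_pos j with h0 | h0
      · rw [h0, pow_zero] at hj
        exact orderOf_eq_one_iff.1 hj
      · exfalso
        apply hx
        rw [h2, hj]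
        exact (dvd_pow_self p h0.ne').mul_right _
    rw [h1, one_mul]
    exact hb

/-- In a nilpotent group a generalized character vanishing off the `p`-regular elements is induced
from the `p'`-part. -/
theorem exists_ind_of_nilpotent [Fintype G] (hN : Group.IsNilpotent G) (p : ℕ) [Fact p.Prime]
    {η : G → ℂ} (hη : IsGeneralizedCharacter G η) (h0 : ∀ g, ¬ IsPRegular p g → η g = 0) :
    ∃ (H : Subgroup G) (η' : H → ℂ), ¬ p ∣ Nat.card H ∧ IsGeneralizedCharacter H η' ∧
      η = indFun H η' := by
  classical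
  obtain ⟨H, π, hHn, hHp, hπ, hreg⟩ := exists_retraction hN p
  have hcl := isClassFunction_of_gen hη
  have hG : (Nat.card G : ℂ) ≠ 0 := Nat.cast_ne_zero.2 Nat.card_pos.ne'
  have hH : (Nat.card H : ℂ) ≠ 0 := Nat.cast_ne_zero.2 Nat.card_pos.ne'
  have hoff : ∀ g, g ∉ H → η g = 0 := fun g hg => h0 g fun h => hg (hreg g h)
  set c : ℂ := (Nat.card H : ℂ) / Nat.card G with hc
  refine ⟨H, fun h => c * η h, hHp, ?_, ?_⟩
  · have hclH : IsClassFunction H (fun h : H => c * η h) := by
      intro g h
      show c * η ((h * g * h⁻¹ : H) : G) = c * η g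
      rw [Subgroup.coe_mul, Subgroup.coe_mul, Subgroup.coe_inv, hcl]
    refine isGeneralizedCharacter_of_int hclH fun ω hω => ?_
    have h1 : classInner (fun h : H => c * η h) ω = classInner η (ω ∘ π) := by
      show (Nat.card H : ℂ)⁻¹ * ∑ h : H, c * η h * conj (ω h) =
        (Nat.card G : ℂ)⁻¹ * ∑ g : G, η g * conj (ω (π g))
      have h2 : ∑ g : G, η g * conj (ω (π g)) = ∑ h : H, η h * conj (ω h) := by
        rw [← Finset.sum_subset (Finset.subset_univ (Finset.univ.filter fun g : G => g ∈ H))]
        · rw [Finset.sum_subtype (p := fun g : G => g ∈ H) _ (by simp)]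
          refine Finset.sum_congr rfl fun h _ => ?_
          rw [hπ]
        · intro g _ hg
          rw [hoff g (by simpa using hg), zero_mul]
      rw [h2]
      simp only [mul_assoc]
      rw [← Finset.mul_sum, hc]
      field_simp
    rw [h1]
    exact exists_int_classInner hη (isGeneralizedCharacter_comp π
      (isGeneralizedCharacter_of_isCharacter (isIrr_isCharacter hω)))
  · funext g
    rw [Cfsg.Agent.Characters.Brauer.indFun_apply]
    by_cases hg : g ∈ H
    · have h1 : ∀ x : G, extendByZero H (fun h : H => c * η h) (x⁻¹ * g * x) = c * η g := by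
        intro x
        have hx : x⁻¹ * g * x ∈ H := by
          have := hHn.conj_mem g hg x⁻¹
          rwa [inv_inv] at this
        rw [extendByZero_mem H _ hx]
        congr 1
        have := hcl g x⁻¹
        rwa [inv_inv] at this
      rw [Finset.sum_congr rfl fun x _ => h1 x, Finset.sum_const, Finset.card_univ,
        ← Nat.card_eq_fintype_card, nsmul_eq_mul, hc]
      field_simp
    · have h1 : ∀ x : G, extendByZero H (fun h : H => c * η h) (x⁻¹ * g * x) = 0 := by
        intro x
        apply extendByZero_notMem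
        intro hx
        apply hg
        have := hHn.conj_mem _ hx x
        rwa [show x * (x⁻¹ * g * x) * x⁻¹ = g by group] at this
      rw [Finset.sum_congr rfl fun x _ => h1 x, Finset.sum_const_zero, mul_zero, hoff g hg]

/-- The generating set. -/
def linInd (p : ℕ) (G : Type u) [Group G] [Fintype G] : Set (G → ℂ) :=
  {f | ∃ (H : Subgroup G) (lam : H →* ℂˣ), ¬ p ∣ Nat.card H ∧
    f = indFun H (fun h => (lam h : ℂ))}

/-- Transitivity of induction. -/
theorem indFun_map [Fintype G] (K : Subgroup G) [Fintype K] (L : Subgroup K) (θ : L → ℂ) :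
    ∃ e : (L.map K.subtype : Subgroup G) ≃* L,
      indFun K (indFun L θ) = indFun (L.map K.subtype) (fun x => θ (e x)) := by
  classical
  let e : L ≃* (L.map K.subtype : Subgroup G) := L.equivMapOfInjective K.subtype
    K.subtype_injective
  refine ⟨e.symm, ?_⟩
  have hle : L.map K.subtype ≤ K := Subgroup.map_subtype_le L
  have h1 := S0147.result (L.map K.subtype) K hle (fun x => θ (e.symm x))
  rw [← h1]
  have h2 : (L.map K.subtype).subgroupOf K = L := by
    ext x
    rw [Subgroup.mem_subgroupOf, Subgroup.mem_map]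
    constructor
    · rintro ⟨y, hy, hxy⟩
      rwa [← K.subtype_injective hxy]
    · exact fun hx => ⟨x, hx, rfl⟩
  congr 1
  have h3 : ∀ (A : Subgroup K) (hA : A = L) (θ' : A → ℂ) (_ : ∀ (x : K) (h : x ∈ A),
      θ' ⟨x, h⟩ = θ ⟨x, hA ▸ h⟩), indFun L θ = indFun A θ' := by
    rintro A rfl θ' h
    congr 1
    funext x
    exact (h x.1 x.2).symm
  refine h3 _ h2 _ fun x h => ?_
  show θ (e.symm _) = θ _
  congr 1
  rw [MulEquiv.symm_apply_eq]
  rfl

theorem indFun_mem_closure [Fintype G] (p : ℕ) (H : Subgroup G) (hH : ¬ p ∣ Nat.card H)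
    {η : H → ℂ} (hη : IsGeneralizedCharacter H η) :
    indFun H η ∈ AddSubgroup.closure (linInd p G) := by
  classical
  have := Fintype.ofFinite H
  have key : ∀ χ : H → ℂ, IsCharacter H χ → indFun H χ ∈ AddSubgroup.closure (linInd p G) := by
    intro χ hχ
    obtain ⟨l, -, hl2⟩ := Cfsg.Agent.S0163.result χ hχ
    rw [hl2]
    clear hl2
    induction l with
    | nil =>
      rw [List.map_nil, List.sum_nil, indFun_zero]
      exact AddSubgroup.zero_mem _
    | cons t l ih =>
      rw [List.map_cons, List.sum_cons, indFun_add]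
      refine AddSubgroup.add_mem _ ?_ ih
      rw [indFun_smul, Int.cast_smul_eq_zsmul]
      refine AddSubgroup.zsmul_mem _ (AddSubgroup.subset_closure ?_) _
      obtain ⟨e, he⟩ := indFun_map H t.1 (fun e => (t.2.1 e : ℂ))
      rw [he]
      refine ⟨t.1.map H.subtype, t.2.1.comp e.toMonoidHom, ?_, rfl⟩
      intro hdvd
      apply hH
      refine hdvd.trans ?_
      exact Subgroup.card_dvd_of_le (Subgroup.map_subtype_le t.1)
  obtain ⟨α, β, hα, hβ, rfl⟩ := hη
  rw [indFun_sub]
  exact AddSubgroup.sub_mem _ (key α hα) (key β hβ)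

/-- **Brauer**: generalized characters vanishing off the `p`-regular elements are integral
combinations of characters induced from linear characters of `p'`-subgroups. -/
theorem mem_closure_of_vanish [Fintype G] (p : ℕ) [Fact p.Prime] {θ : G → ℂ}
    (hθ : IsGeneralizedCharacter G θ) (h0 : ∀ g, ¬ IsPRegular p g → θ g = 0) :
    θ ∈ AddSubgroup.closure (linInd p G) := by
  classical
  have hcl := isClassFunction_of_gen hθ
  have key : ∀ u ∈ Submodule.span ℤ
    {f : G → ℂ | ∃ (E : Subgroup G) (p : ℕ) (φ : E → ℂ), p.Prime ∧ IsElementary p E ∧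
      IsCharacter E φ ∧ f = indFun E φ}, u * θ ∈ AddSubgroup.closure (linInd p G) := by
    intro u hu
    induction hu using Submodule.span_induction with
    | mem x hx =>
      obtain ⟨E, q, φ, hq, hE, hφ, rfl⟩ := hx
      rw [indFun_mul E φ θ hcl]
      have := Fintype.ofFinite E
      have hgen : IsGeneralizedCharacter E (φ * fun e : E => θ e) :=
        isGeneralizedCharacter_mul (isGeneralizedCharacter_of_isCharacter hφ)
          (isGeneralizedCharacter_restrict hθ E)
      obtain ⟨H, η', hHp, hη', he⟩ := exists_ind_of_nilpotent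
        (Cfsg.Agent.Characters.Elementary.isNilpotent_of_isElementary hq hE) p hgen (by
          intro g hg
          rw [Pi.mul_apply, h0 (g : G) (fun h => hg (by
            unfold IsPRegular at h ⊢
            rwa [Subgroup.orderOf_coe] at h)), mul_zero])
      have h1 : (fun h : E => φ h * θ h) = indFun H η' := he
      rw [h1]
      obtain ⟨e, he'⟩ := indFun_map E H η'
      rw [he']
      refine indFun_mem_closure p _ (fun hdvd => hHp ?_) ?_
      · rwa [Nat.card_congr e.toEquiv] at hdvd
      · exact isGeneralizedCharacter_comp e.toMonoidHom hη'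
    | zero => rw [zero_mul]; exact AddSubgroup.zero_mem _
    | add y z _ _ hy hz => rw [add_mul]; exact AddSubgroup.add_mem _ hy hz
    | smul a y _ hy => rw [smul_mul_assoc]; exact AddSubgroup.zsmul_mem _ hy a
  have := key 1 Cfsg.Agent.CharactersDeep.BrauerLocal.brauer_global
  rwa [one_mul] at this

end Cfsg.Agent.H646.ProjLat
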