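import Mathlib

/-!
# Class sums of `SL₂(q)`, `q` odd, in characteristic 2

The class sums `c r` (sum over the elements of trace `r`) satisfy, in characteristic 2,
`c (a + a⁻¹) c (b + b⁻¹) = c (ab + (ab)⁻¹) + c (a/b + b/a)` up to the unipotent elements.
-/

set_option autoImplicit false

namespace Cfsg.Agent.H646.SLT

open Finset

variable {F : Type*} [Field F]

/-- constructor -/
def mk (M : Matrix (Fin 2) (Fin 2) F) (h : M.det = 1) : Matrix.SpecialLinearGroup (Fin 2) F := ⟨M, h⟩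

theorem mk_val (M : Matrix (Fin 2) (Fin 2) F) (h : M.det = 1) : (mk M h).1 = M := rfl

/-- the trace of a matrix -/
def t (g : Matrix.SpecialLinearGroup (Fin 2) F) : F := g.1 0 0 + g.1 1 1

theorem det_eq (g : Matrix.SpecialLinearGroup (Fin 2) F) : g.1 0 0 * g.1 1 1 - g.1 0 1 * g.1 1 0 = 1 := by
  have := g.2
  rwa [Matrix.det_fin_two] at this

theorem neg_val (g : Matrix.SpecialLinearGroup (Fin 2) F) (i j : Fin 2) : (-g).1 i j = -g.1 i j := rfl

theorem mul_val (g h : Matrix.SpecialLinearGroup (Fin 2) F) (i j : Fin 2) :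
    (g * h).1 i j = g.1 i 0 * h.1 0 j + g.1 i 1 * h.1 1 j := by
  show (g.1 * h.1) i j = _
  rw [Matrix.mul_apply, Fin.sum_univ_two]

theorem inv_val (g : Matrix.SpecialLinearGroup (Fin 2) F) :
    (g⁻¹).1 = !![g.1 1 1, -g.1 0 1; -g.1 1 0, g.1 0 0] :=
  Matrix.adjugate_fin_two _

theorem inv00 (g : Matrix.SpecialLinearGroup (Fin 2) F) : (g⁻¹).1 0 0 = g.1 1 1 := by rw [inv_val]; rfl
theorem inv01 (g : Matrix.SpecialLinearGroup (Fin 2) F) : (g⁻¹).1 0 1 = -g.1 0 1 := by rw [inv_val]; rfl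
theorem inv10 (g : Matrix.SpecialLinearGroup (Fin 2) F) : (g⁻¹).1 1 0 = -g.1 1 0 := by rw [inv_val]; rfl
theorem inv11 (g : Matrix.SpecialLinearGroup (Fin 2) F) : (g⁻¹).1 1 1 = g.1 0 0 := by rw [inv_val]; rfl

theorem t_neg (g : Matrix.SpecialLinearGroup (Fin 2) F) : t (-g) = -t g := by
  simp only [t, neg_val]
  ring

theorem t_inv (g : Matrix.SpecialLinearGroup (Fin 2) F) : t g⁻¹ = t g := by
  simp only [t, inv00, inv11]
  ring

theorem t_mul (g h : Matrix.SpecialLinearGroup (Fin 2) F) :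
    t (g * h) = g.1 0 0 * h.1 0 0 + g.1 0 1 * h.1 1 0 + g.1 1 0 * h.1 0 1 + g.1 1 1 * h.1 1 1 := by
  simp only [t, mul_val]
  ring

theorem t_inv_mul (g h : Matrix.SpecialLinearGroup (Fin 2) F) :
    t (g⁻¹ * h) = g.1 1 1 * h.1 0 0 - g.1 0 1 * h.1 1 0 - g.1 1 0 * h.1 0 1 + g.1 0 0 * h.1 1 1 := by
  rw [t_mul, inv00, inv01, inv10, inv11]
  ring

theorem t_comm (g h : Matrix.SpecialLinearGroup (Fin 2) F) : t (g * h) = t (h * g) := by
  rw [t_mul, t_mul]; ring

theorem t_conj (g h : Matrix.SpecialLinearGroup (Fin 2) F) : t (h * g * h⁻¹) = t g := by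
  rw [t_comm, ← mul_assoc, inv_mul_cancel, one_mul]

theorem t_one : t (1 : Matrix.SpecialLinearGroup (Fin 2) F) = 2 := by
  show (1 : F) + 1 = 2
  norm_num

theorem t_mul_add (g x : Matrix.SpecialLinearGroup (Fin 2) F) : t (g * x) + t (g⁻¹ * x) = t g * t x := by
  rw [t_mul, t_inv_mul]; simp only [t]; ring

theorem ext_iff' {g h : Matrix.SpecialLinearGroup (Fin 2) F} : g = h ↔ g.1 0 0 = h.1 0 0 ∧
    g.1 0 1 = h.1 0 1 ∧ g.1 1 0 = h.1 1 0 ∧ g.1 1 1 = h.1 1 1 := by
  constructor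
  · rintro rfl; exact ⟨rfl, rfl, rfl, rfl⟩
  · rintro ⟨h1, h2, h3, h4⟩
    apply Matrix.SpecialLinearGroup.ext
    intro i j
    fin_cases i <;> fin_cases j <;> assumption

theorem neg_ne (h2F : (2 : F) ≠ 0) (g : Matrix.SpecialLinearGroup (Fin 2) F) : -g ≠ g := by
  intro h
  have h1 := ext_iff'.mp h
  simp only [neg_val] at h1
  obtain ⟨h2, h3, h4, h5⟩ := h1
  have key : ∀ a : F, -a = a → a = 0 := by
    intro a ha
    have h6 : (2 : F) * a = 0 := by linear_combination -ha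
    exact (mul_eq_zero.mp h6).resolve_left h2F
  have h6 := det_eq g
  rw [key _ h2, key _ h3] at h6
  simp at h6

/-- an element equal to its inverse has trace `± 2` -/
theorem t_of_inv_eq (h2F : (2 : F) ≠ 0) {g : Matrix.SpecialLinearGroup (Fin 2) F} (h : g⁻¹ = g) :
    t g = 2 ∨ t g = -2 := by
  have h1 := ext_iff'.mp h
  rw [inv00, inv01, inv10, inv11] at h1
  obtain ⟨h2, h3, h4, h5⟩ := h1
  have key : ∀ a : F, -a = a → a = 0 := by
    intro a ha
    have h6 : (2 : F) * a = 0 := by linear_combination -ha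
    exact (mul_eq_zero.mp h6).resolve_left h2F
  have h6 := det_eq g
  rw [key _ h3, h2] at h6
  have h7 : (g.1 0 0 - 1) * (g.1 0 0 + 1) = 0 := by linear_combination h6
  rcases mul_eq_zero.mp h7 with h8 | h8
  · left; simp only [t]; linear_combination 2 * h8 + h2
  · right; simp only [t]; linear_combination 2 * h8 + h2

/-! ### parity of the number of solutions -/

/-- the involution principle -/
theorem sum_fix {α R : Type*} [DecidableEq α] [Ring R] (h2 : ∀ r : R, r + r = 0) (T : Finset α) (φ : α → α)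
    (h1 : ∀ a ∈ T, φ a ∈ T) (h3 : ∀ a ∈ T, φ (φ a) = a) :
    (∑ _a ∈ T, (1 : R)) = ∑ _a ∈ T.filter (fun a => φ a = a), (1 : R) := by
  rw [← Finset.sum_filter_add_sum_filter_not T (fun a => φ a = a) (fun _ => (1 : R))]
  have : ∑ _a ∈ T.filter (fun a => ¬ φ a = a), (1 : R) = 0 := by
    refine Finset.sum_involution (fun a _ => φ a) ?_ ?_ ?_ ?_
    · intro a _; exact h2 1
    · intro a ha _ h
      exact (Finset.mem_filter.mp ha).2 h
    · intro a ha
      obtain ⟨ha1, ha2⟩ := Finset.mem_filter.mp ha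
      refine Finset.mem_filter.mpr ⟨h1 a ha1, ?_⟩
      rw [h3 a ha1]
      exact fun h => ha2 h.symm
    · intro a ha
      exact h3 a (Finset.mem_filter.mp ha).1
  rw [this, add_zero]

variable [Fintype F] [DecidableEq F]

/-- the number of `g` of trace `s` such that `g⁻¹ x` has trace `t'` -/
def N (k : Type*) [Field k] (s t' : F) (x : Matrix.SpecialLinearGroup (Fin 2) F) : k :=
  ∑ _g ∈ (Finset.univ : Finset (Matrix.SpecialLinearGroup (Fin 2) F)).filter
    (fun g => t g = s ∧ t (g⁻¹ * x) = t'), (1 : k)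

variable {k : Type*} [Field k] [CharP k 2]

theorem two_zero (r : k) : r + r = 0 := CharTwo.add_self_eq_zero r

/-- trace different from `±2` -/
theorem N_of_ne (h2F : (2 : F) ≠ 0) {s t' : F} {x : Matrix.SpecialLinearGroup (Fin 2) F}
    (h2 : t x ≠ 2) (h2' : t x ≠ -2) :
    N k s t' x = if (t x) ^ 2 - t x * s * t' + s ^ 2 + t' ^ 2 - 4 = 0 then 1 else 0 := by
  set r := t x with hr
  have h4 : (4 : F) - r ^ 2 ≠ 0 := by
    intro h
    have h5 : (r - 2) * (r + 2) = 0 := by linear_combination -h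
    rcases mul_eq_zero.mp h5 with h6 | h6
    · exact h2 (sub_eq_zero.mp h6)
    · exact h2' (eq_neg_of_add_eq_zero_left h6)
  obtain ⟨α, hα⟩ : ∃ α : F, α = (2 * s - r * t') / (4 - r ^ 2) := ⟨_, rfl⟩
  obtain ⟨β, hβ⟩ : ∃ β : F, β = (2 * t' - r * s) / (4 - r ^ 2) := ⟨_, rfl⟩
  rw [eq_div_iff h4] at hα hβ
  have e1 : 2 * α + β * r = s := by
    apply mul_right_cancel₀ h4
    linear_combination 2 * hα + r * hβ
  have e2 : α * r + 2 * β = t' := by
    apply mul_right_cancel₀ h4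
    linear_combination r * hα + 2 * hβ
  have hx1 := det_eq x
  have hxr : x.1 0 0 + x.1 1 1 = r := rfl
  -- the matrix `m`
  obtain ⟨m, hm⟩ : ∃ m : Matrix (Fin 2) (Fin 2) F, m = !![α + β * x.1 0 0, β * x.1 0 1; β * x.1 1 0, α + β * x.1 1 1] :=
    ⟨_, rfl⟩
  have m00 : m 0 0 = α + β * x.1 0 0 := by rw [hm]; rfl
  have m01 : m 0 1 = β * x.1 0 1 := by rw [hm]; rfl
  have m10 : m 1 0 = β * x.1 1 0 := by rw [hm]; rfl
  have m11 : m 1 1 = α + β * x.1 1 1 := by rw [hm]; rfl
  have hdm : m.det = α ^ 2 + α * β * r + β ^ 2 := by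
    rw [Matrix.det_fin_two, m00, m01, m10, m11, ← hxr]
    linear_combination β ^ 2 * hx1
  have hD : m.det = 1 ↔ r ^ 2 - r * s * t' + s ^ 2 + t' ^ 2 - 4 = 0 := by
    have h5 : (4 - r ^ 2) * m.det = s ^ 2 + t' ^ 2 - r * s * t' := by
      rw [hdm, ← e1, ← e2]; ring
    constructor
    · intro h
      rw [h] at h5
      linear_combination -h5
    · intro h
      apply mul_left_cancel₀ h4
      rw [h5]
      linear_combination h
  obtain ⟨T, hT⟩ : ∃ T : Finset (Matrix.SpecialLinearGroup (Fin 2) F), T = (Finset.univ : Finset (Matrix.SpecialLinearGroup (Fin 2) F)).filter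
    (fun g => t g = s ∧ t (g⁻¹ * x) = t') := ⟨_, rfl⟩
  have hmem : ∀ g : Matrix.SpecialLinearGroup (Fin 2) F, g ∈ T ↔ (g.1 0 0 + g.1 1 1 = s ∧
      g.1 1 1 * x.1 0 0 - g.1 0 1 * x.1 1 0 - g.1 1 0 * x.1 0 1 + g.1 0 0 * x.1 1 1 = t') := by
    intro g
    rw [hT, Finset.mem_filter]
    simp only [Finset.mem_univ, true_and, t_inv_mul]
    rfl
  -- the involution
  have hdet : ∀ g ∈ T, ((2 : F) • m - g.1).det = 1 := by
    intro g hg
    obtain ⟨hg4, hg2⟩ := (hmem g).mp hg
    have hg3 := det_eq g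
    rw [Matrix.det_fin_two]
    simp only [Matrix.sub_apply, Matrix.smul_apply, smul_eq_mul, m00, m01, m10, m11]
    rw [← e1, ← hxr] at hg4
    rw [← e2, ← hxr] at hg2
    linear_combination 4 * β ^ 2 * hx1 - 2 * α * hg4 - 2 * β * hg2 + hg3
  let φ : Matrix.SpecialLinearGroup (Fin 2) F → Matrix.SpecialLinearGroup (Fin 2) F :=
    fun g => if h : ((2 : F) • m - g.1).det = 1 then mk ((2 : F) • m - g.1) h else g
  have hφ : ∀ g ∈ T, (φ g).1 = (2 : F) • m - g.1 := by
    intro g hg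
    simp only [φ]
    rw [dif_pos (hdet g hg), mk_val]
  have hφT : ∀ g ∈ T, φ g ∈ T := by
    intro g hg
    have h5 := (hmem g).mp hg
    rw [hmem, hφ g hg]
    simp only [Matrix.sub_apply, Matrix.smul_apply, smul_eq_mul, m00, m01, m10, m11]
    obtain ⟨h6, h7⟩ := h5
    rw [← hxr] at e1 e2
    constructor
    · linear_combination 2 * e1 - h6
    · linear_combination 2 * e2 - h7 + 4 * β * hx1
  have hφφ : ∀ g ∈ T, φ (φ g) = g := by
    intro g hg
    apply Subtype.ext
    rw [hφ _ (hφT g hg), hφ g hg]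
    abel
  show (∑ _g ∈ _, (1 : k)) = _
  rw [← hT, sum_fix two_zero T φ hφT hφφ]
  have hfix : ∀ g ∈ T, φ g = g → g.1 = m := by
    intro g hg h
    have h5 := hφ g hg
    rw [h] at h5
    have h6 : (2 : F) • g.1 = (2 : F) • m := by
      rw [two_smul]
      nth_rewrite 1 [h5]
      abel
    exact smul_right_injective _ h2F h6
  by_cases hc : m.det = 1
  · rw [if_pos (hD.mp hc)]
    have h5 : T.filter (fun a => φ a = a) = {mk m hc} := by
      ext g
      rw [Finset.mem_filter, Finset.mem_singleton]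
      constructor
      · rintro ⟨hg, h⟩
        exact Subtype.ext (hfix g hg h)
      · rintro rfl
        have h6 : mk m hc ∈ T := by
          rw [hmem]
          show m 0 0 + m 1 1 = s ∧ m 1 1 * x.1 0 0 - m 0 1 * x.1 1 0 - m 1 0 * x.1 0 1 + m 0 0 * x.1 1 1 = t'
          rw [m00, m01, m10, m11]
          rw [← hxr] at e1 e2
          exact ⟨by linear_combination e1, by linear_combination e2 + 2 * β * hx1⟩
        refine ⟨h6, ?_⟩
        apply Subtype.ext
        rw [hφ _ h6, mk_val]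
        rw [two_smul]; abel
    rw [h5, Finset.sum_singleton]
  · rw [if_neg (fun h => hc (hD.mpr h))]
    have h5 : T.filter (fun a => φ a = a) = ∅ := by
      apply Finset.eq_empty_of_forall_notMem
      intro g hg
      obtain ⟨hg1, hg2⟩ := Finset.mem_filter.mp hg
      have h6 := hfix g hg1 hg2
      apply hc
      rw [← h6]
      exact g.2
    rw [h5, Finset.sum_empty]

/-- trace `2`, equal parameters -/
theorem N_self (h2F : (2 : F) ≠ 0) {s : F} (hs : s ≠ 2) (hs' : s ≠ -2) {x : Matrix.SpecialLinearGroup (Fin 2) F}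
    (hx : t x = 2) : N k s s x = 0 := by
  show (∑ _g ∈ _, (1 : k)) = 0
  rw [sum_fix two_zero _ (fun g => g⁻¹) ?_ (fun g _ => inv_inv g)]
  · apply Finset.sum_eq_zero
    intro g hg
    exfalso
    simp only [Finset.mem_filter, Finset.mem_univ, true_and] at hg
    obtain ⟨⟨h1, -⟩, h2⟩ := hg
    rcases t_of_inv_eq h2F h2 with h3 | h3
    · exact hs (h1.symm.trans h3)
    · exact hs' (h1.symm.trans h3)
  · intro g hg
    simp only [Finset.mem_filter, Finset.mem_univ, true_and] at hg ⊢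
    obtain ⟨h1, h2⟩ := hg
    refine ⟨by rw [t_inv, h1], ?_⟩
    rw [inv_inv]
    have h3 := t_mul_add g x
    rw [h1, h2, hx] at h3
    linear_combination h3

/-- `x = 1`, different parameters -/
theorem N_one {s t' : F} (hst : s ≠ t') : N k s t' (1 : Matrix.SpecialLinearGroup (Fin 2) F) = 0 := by
  apply Finset.sum_eq_zero
  intro g hg
  exfalso
  simp only [Finset.mem_filter, Finset.mem_univ, true_and, mul_one, t_inv] at hg
  exact hst (hg.1.symm.trans hg.2)

theorem N_neg (s t' : F) (x : Matrix.SpecialLinearGroup (Fin 2) F) : N k s t' (-x) = N k s (-t') x := by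
  unfold N
  congr 1
  ext g
  simp only [Finset.mem_filter, Finset.mem_univ, true_and]
  rw [show g⁻¹ * -x = -(g⁻¹ * x) from mul_neg _ _, t_neg, neg_eq_iff_eq_neg]

/-- `N` is a class function -/
theorem N_conj (s t' : F) (x h : Matrix.SpecialLinearGroup (Fin 2) F) : N k s t' (h * x * h⁻¹) = N k s t' x := by
  unfold N
  refine Finset.sum_bij' (fun g _ => h⁻¹ * g * h) (fun g _ => h * g * h⁻¹) ?_ ?_ ?_ ?_ ?_
  · intro g hg
    simp only [Finset.mem_filter, Finset.mem_univ, true_and] at hg ⊢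
    obtain ⟨h1, h2⟩ := hg
    constructor
    · rw [← h1, ← t_conj g h⁻¹, inv_inv]
    · rw [← h2, ← t_conj (g⁻¹ * (h * x * h⁻¹)) h⁻¹, inv_inv]
      congr 1
      group
  · intro g hg
    simp only [Finset.mem_filter, Finset.mem_univ, true_and] at hg ⊢
    obtain ⟨h1, h2⟩ := hg
    constructor
    · rw [t_conj, h1]
    · rw [← h2, ← t_conj (g⁻¹ * x) h]
      congr 1
      group
  · intro g _; group
  · intro g _; group
  · intro g _; rfl

/-- the upper unitriangular matrices -/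
def u (b : F) : Matrix.SpecialLinearGroup (Fin 2) F := mk !![1, b; 0, 1] (by simp [Matrix.det_fin_two_of])

omit [Fintype F] [DecidableEq F] in
theorem u00 (b : F) : (u b).1 0 0 = 1 := rfl
omit [Fintype F] [DecidableEq F] in
theorem u01 (b : F) : (u b).1 0 1 = b := rfl
omit [Fintype F] [DecidableEq F] in
theorem u10 (b : F) : (u b).1 1 0 = 0 := rfl
omit [Fintype F] [DecidableEq F] in
theorem u11 (b : F) : (u b).1 1 1 = 1 := rfl

omit [Fintype F] in
/-- every element of trace `2` is conjugate to an upper unitriangular matrix -/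
theorem exists_conj_u {x : Matrix.SpecialLinearGroup (Fin 2) F} (hx : t x = 2) :
    ∃ (h : Matrix.SpecialLinearGroup (Fin 2) F) (b : F), x = h * u b * h⁻¹ := by
  have hd := det_eq x
  have hx' : x.1 0 0 + x.1 1 1 = 2 := hx
  by_cases hc : x.1 1 0 = 0
  · refine ⟨1, x.1 0 1, ?_⟩
    rw [one_mul, inv_one, mul_one, ext_iff', u00, u01, u10, u11]
    have h1 : (x.1 0 0 - 1) ^ 2 = 0 := by
      linear_combination x.1 0 0 * hx' - hd - x.1 0 1 * hc
    have h2 : x.1 0 0 = 1 := sub_eq_zero.mp (pow_eq_zero_iff (two_ne_zero) |>.mp h1)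
    exact ⟨h2, rfl, hc, by linear_combination hx' - h2⟩
  · set c := x.1 1 0 with hcdef
    have hdet : (!![x.1 0 0 - 1, -1 / c; c, 0] : Matrix (Fin 2) (Fin 2) F).det = 1 := by
      rw [Matrix.det_fin_two_of]; field_simp; ring
    refine ⟨mk _ hdet, -1 / c, ?_⟩
    · rw [eq_mul_inv_iff_mul_eq]
      rw [ext_iff']
      simp only [mul_val, u00, u01, u10, u11]
      show x.1 0 0 * (x.1 0 0 - 1) + x.1 0 1 * c = (x.1 0 0 - 1) * 1 + (-1 / c) * 0 ∧
        x.1 0 0 * (-1 / c) + x.1 0 1 * 0 = (x.1 0 0 - 1) * (-1 / c) + (-1 / c) * 1 ∧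
        x.1 1 0 * (x.1 0 0 - 1) + x.1 1 1 * c = c * 1 + 0 * 0 ∧
        x.1 1 0 * (-1 / c) + x.1 1 1 * 0 = c * (-1 / c) + 0 * 1
      refine ⟨?_, ?_, ?_, ?_⟩
      · linear_combination x.1 0 0 * hx' - hd
      · ring
      · linear_combination c * hx'
      · ring

/-- unipotent elements, different parameters -/
theorem N_u (h2F : (2 : F) ≠ 0) {s t' b : F} (hst : s ≠ t') (hb : b ≠ 0) : N k s t' (u b) = 1 := by
  have hmem : ∀ g : Matrix.SpecialLinearGroup (Fin 2) F,
      g ∈ (Finset.univ : Finset (Matrix.SpecialLinearGroup (Fin 2) F)).filter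
        (fun g => t g = s ∧ t (g⁻¹ * u b) = t') ↔ (g.1 0 0 + g.1 1 1 = s ∧ g.1 1 0 = (s - t') / b) := by
    intro g
    rw [Finset.mem_filter]
    simp only [Finset.mem_univ, true_and, t_inv_mul, u00, u01, u10, u11]
    show g.1 0 0 + g.1 1 1 = s ∧ _ ↔ _
    rw [eq_div_iff hb]
    constructor
    · rintro ⟨h1, h2⟩
      exact ⟨h1, by linear_combination h1 - h2⟩
    · rintro ⟨h1, h2⟩
      exact ⟨h1, by linear_combination h1 - h2⟩
  let φ : Matrix.SpecialLinearGroup (Fin 2) F → Matrix.SpecialLinearGroup (Fin 2) F :=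
    fun g => mk !![g.1 1 1, g.1 0 1; g.1 1 0, g.1 0 0] (by
      rw [Matrix.det_fin_two_of]; linear_combination det_eq g)
  have p00 : ∀ g, (φ g).1 0 0 = g.1 1 1 := fun g => rfl
  have p01 : ∀ g, (φ g).1 0 1 = g.1 0 1 := fun g => rfl
  have p10 : ∀ g, (φ g).1 1 0 = g.1 1 0 := fun g => rfl
  have p11 : ∀ g, (φ g).1 1 1 = g.1 0 0 := fun g => rfl
  show (∑ _g ∈ _, (1 : k)) = 1
  rw [sum_fix two_zero _ φ ?_ ?_]
  · set c := (s - t') / b with hc
    have hc0 : c ≠ 0 := div_ne_zero (sub_ne_zero.mpr hst) hb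
    have hdet : (!![s / 2, ((s / 2) ^ 2 - 1) / c; c, s / 2] : Matrix (Fin 2) (Fin 2) F).det = 1 := by
      rw [Matrix.det_fin_two_of, div_mul_cancel₀ _ hc0]; ring
    have h5 : ((Finset.univ : Finset (Matrix.SpecialLinearGroup (Fin 2) F)).filter
        (fun g => t g = s ∧ t (g⁻¹ * u b) = t')).filter (fun a => φ a = a) = {mk _ hdet} := by
      ext g
      rw [Finset.mem_filter, hmem, Finset.mem_singleton, ext_iff', p00, p01, p10, p11, ext_iff']
      show _ ↔ g.1 0 0 = s / 2 ∧ g.1 0 1 = ((s / 2) ^ 2 - 1) / c ∧ g.1 1 0 = c ∧ g.1 1 1 = s / 2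
      have hd := det_eq g
      constructor
      · rintro ⟨⟨h1, h2⟩, h3, -, -, -⟩
        have h4 : g.1 0 0 = s / 2 := by
          rw [eq_div_iff h2F]; linear_combination h1 - h3
        refine ⟨h4, ?_, h2, by rw [h3, h4]⟩
        rw [eq_div_iff hc0]
        rw [h3, h4, h2] at hd
        linear_combination -hd
      · rintro ⟨h1, h2, h3, h4⟩
        refine ⟨⟨?_, h3⟩, by rw [h1, h4], rfl, rfl, by rw [h1, h4]⟩
        rw [h1, h4]; field_simp; ring
    rw [h5, Finset.sum_singleton]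
  · intro g hg
    rw [hmem] at hg ⊢
    rw [p00, p10, p11, add_comm]
    exact hg
  · intro g _
    rw [ext_iff']
    simp only [p00, p01, p10, p11, and_self]

/-- elements of trace `2`, different parameters -/
theorem N_of_two (h2F : (2 : F) ≠ 0) {s t' : F} (hst : s ≠ t') {x : Matrix.SpecialLinearGroup (Fin 2) F}
    (hx : t x = 2) (hx1 : x ≠ 1) : N k s t' x = 1 := by
  obtain ⟨h, b, rfl⟩ := exists_conj_u hx
  rw [N_conj]
  apply N_u h2F hst
  rintro rfl
  apply hx1
  have : u (0 : F) = 1 := by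
    rw [ext_iff', u00, u01, u10, u11]
    exact ⟨rfl, rfl, rfl, rfl⟩
  rw [this, mul_one, mul_inv_cancel]

end Cfsg.Agent.H646.SLT
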