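import Mathlib
import Cfsg.Agent.H646.SLTwoCount

/-!
# Class sums of `SL₂(q)`, `q` odd, in characteristic 2: products and traces
-/

set_option autoImplicit false

namespace Cfsg.Agent.H646.SLT

open Finset

variable {F : Type*} [Field F] [Fintype F] [DecidableEq F]
variable {k : Type*} [Field k] [CharP k 2]
variable {A : Type*} [Ring A] [Algebra k A]

/-- the sum over the elements of trace `r` -/
noncomputable def c (ρ : Matrix.SpecialLinearGroup (Fin 2) F →* A) (r : F) : A :=
  ∑ g ∈ (Finset.univ : Finset (Matrix.SpecialLinearGroup (Fin 2) F)).filter (fun g => t g = r), ρ g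

/-- the sum over the non-trivial elements of trace `2` -/
noncomputable def K (ρ : Matrix.SpecialLinearGroup (Fin 2) F →* A) : A :=
  ∑ g ∈ (Finset.univ : Finset (Matrix.SpecialLinearGroup (Fin 2) F)).filter (fun g => t g = 2 ∧ g ≠ 1), ρ g

theorem c_comm (ρ : Matrix.SpecialLinearGroup (Fin 2) F →* A) (r : F) (h : Matrix.SpecialLinearGroup (Fin 2) F) :
    ρ h * c ρ r = c ρ r * ρ h := by
  unfold c
  rw [Finset.mul_sum, Finset.sum_mul]
  refine Finset.sum_bij' (fun g _ => h * g * h⁻¹) (fun g _ => h⁻¹ * g * h) ?_ ?_ ?_ ?_ ?_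
  · intro g hg
    simp only [Finset.mem_filter, Finset.mem_univ, true_and] at hg ⊢
    rw [t_conj, hg]
  · intro g hg
    simp only [Finset.mem_filter, Finset.mem_univ, true_and] at hg ⊢
    rw [← hg, ← t_conj g h⁻¹, inv_inv]
  · intro g _; group
  · intro g _; group
  · intro g _
    rw [← map_mul, ← map_mul]
    congr 1
    group

theorem c_two (ρ : Matrix.SpecialLinearGroup (Fin 2) F →* A) : c ρ 2 = 1 + K ρ := by
  unfold c K
  have : (Finset.univ : Finset (Matrix.SpecialLinearGroup (Fin 2) F)).filter (fun g => t g = 2) =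
      insert 1 ((Finset.univ : Finset (Matrix.SpecialLinearGroup (Fin 2) F)).filter (fun g => t g = 2 ∧ g ≠ 1)) := by
    ext g
    simp only [Finset.mem_filter, Finset.mem_univ, true_and, Finset.mem_insert]
    constructor
    · intro h
      by_cases h1 : g = 1
      · exact Or.inl h1
      · exact Or.inr ⟨h, h1⟩
    · rintro (rfl | h)
      · exact t_one
      · exact h.1
  rw [this, Finset.sum_insert (by simp), map_one]

theorem K_comm (ρ : Matrix.SpecialLinearGroup (Fin 2) F →* A) (h : Matrix.SpecialLinearGroup (Fin 2) F) :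
    ρ h * K ρ = K ρ * ρ h := by
  have h1 := c_comm ρ 2 h
  rw [c_two, mul_add, add_mul, mul_one, one_mul] at h1
  exact add_left_cancel h1

theorem comm_of_comm (ρ : Matrix.SpecialLinearGroup (Fin 2) F →* A) {a : A}
    (ha : ∀ h, ρ h * a = a * ρ h) (r : F) : c ρ r * a = a * c ρ r := by
  unfold c
  rw [Finset.sum_mul, Finset.mul_sum]
  exact Finset.sum_congr rfl fun g _ => ha g

theorem c_comm_c (ρ : Matrix.SpecialLinearGroup (Fin 2) F →* A) (r s : F) : c ρ r * c ρ s = c ρ s * c ρ r :=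
  comm_of_comm ρ (c_comm ρ s) r

theorem c_comm_K (ρ : Matrix.SpecialLinearGroup (Fin 2) F →* A) (r : F) : c ρ r * K ρ = K ρ * c ρ r :=
  comm_of_comm ρ (K_comm ρ) r

/-- even functions give zero -/
theorem sum_even (h2F : (2 : F) ≠ 0) (ρ : Matrix.SpecialLinearGroup (Fin 2) F →* A) (hρ : ρ (-1) = 1)
    (f : Matrix.SpecialLinearGroup (Fin 2) F → k) (hf : ∀ x, f (-x) = f x) : ∑ x, f x • ρ x = 0 := by
  have hneg : ∀ x, ρ (-x) = ρ x := by
    intro x
    rw [← neg_one_mul, map_mul, hρ, one_mul]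
  refine Finset.sum_involution (fun x _ => -x) ?_ ?_ ?_ ?_
  · intro x _
    rw [hf, hneg, ← add_smul, two_zero, zero_smul]
  · intro x _ _
    exact neg_ne h2F x
  · intro x _; exact Finset.mem_univ _
  · intro x _; exact neg_neg x

theorem smul_form (ρ : Matrix.SpecialLinearGroup (Fin 2) F →* A) (P : Matrix.SpecialLinearGroup (Fin 2) F → Prop)
    [DecidablePred P] : ∑ g ∈ (Finset.univ : Finset (Matrix.SpecialLinearGroup (Fin 2) F)).filter P, ρ g =
      ∑ x, (if P x then (1 : k) else 0) • ρ x := by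
  rw [Finset.sum_filter]
  refine Finset.sum_congr rfl fun x _ => ?_
  split_ifs
  · rw [one_smul]
  · rw [zero_smul]

theorem c_mul_c (ρ : Matrix.SpecialLinearGroup (Fin 2) F →* A) (s t' : F) :
    c ρ s * c ρ t' = ∑ x, N k s t' x • ρ x := by
  unfold c
  rw [smul_form (k := k) ρ (fun g => t g = s), smul_form (k := k) ρ (fun g => t g = t'), Finset.sum_mul_sum]
  have h1 : ∀ g : Matrix.SpecialLinearGroup (Fin 2) F,
      ∑ h, ((if t g = s then (1 : k) else 0) • ρ g) * ((if t h = t' then (1 : k) else 0) • ρ h) =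
      ∑ x, (if t g = s ∧ t (g⁻¹ * x) = t' then (1 : k) else 0) • ρ x := by
    intro g
    refine Fintype.sum_equiv (Equiv.mulLeft g) _ _ ?_
    intro h
    rw [Equiv.coe_mulLeft, inv_mul_cancel_left, map_mul, smul_mul_smul_comm]
    congr 1
    by_cases h1 : t g = s <;> by_cases h2 : t h = t' <;> simp [h1, h2]
  rw [Finset.sum_congr rfl (fun g _ => h1 g), Finset.sum_comm]
  refine Finset.sum_congr rfl fun x _ => ?_
  rw [← Finset.sum_smul]
  congr 1
  unfold N
  rw [Finset.sum_filter]

/-- **The product of two class sums.** -/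
theorem mul_formula (h2F : (2 : F) ≠ 0) (ρ : Matrix.SpecialLinearGroup (Fin 2) F →* A) (hρ : ρ (-1) = 1)
    {s t' : F} (hs0 : s ≠ 0) (hs : s ≠ 2) (hs' : s ≠ -2) (R : Finset F) (h2 : (2 : F) ∉ R) (h2' : (-2 : F) ∉ R)
    (hR : ∀ r : F, r ≠ 2 → r ≠ -2 → (r ^ 2 - r * s * t' + s ^ 2 + t' ^ 2 - 4 = 0 ↔ r ∈ R)) :
    c ρ s * c ρ t' = ∑ r ∈ R, c ρ r + (if s = t' ∨ s = -t' then (1 : k) else 0) • K ρ := by
  classical
  have h4 : ∀ a : A, a + a = 0 := by
    intro a
    rw [← one_smul k a, ← add_smul, two_zero, zero_smul]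
  have hsum : ∑ r ∈ R, c ρ r = ∑ x, (if t x ∈ R then (1 : k) else 0) • ρ x := by
    unfold c
    rw [Finset.sum_congr rfl (fun r _ => smul_form (k := k) ρ (fun g => t g = r)), Finset.sum_comm]
    refine Finset.sum_congr rfl fun x _ => ?_
    rw [← Finset.sum_smul]
    congr 1
    rw [Finset.sum_ite_eq]
  have hK : K ρ = ∑ x, (if t x = 2 ∧ x ≠ 1 then (1 : k) else 0) • ρ x := smul_form (k := k) ρ _
  rw [hsum, hK, c_mul_c (k := k), Finset.smul_sum, ← Finset.sum_add_distrib]
  rw [← sub_eq_zero, ← Finset.sum_sub_distrib]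
  set ε : k := if s = t' ∨ s = -t' then (1 : k) else 0 with hε
  have h5 : ∀ x : Matrix.SpecialLinearGroup (Fin 2) F, N k s t' x • ρ x - ((if t x ∈ R then (1 : k) else 0) • ρ x +
      ε • (if t x = 2 ∧ x ≠ 1 then (1 : k) else 0) • ρ x) =
      (N k s t' x - ((if t x ∈ R then (1 : k) else 0) + ε * (if t x = 2 ∧ x ≠ 1 then (1 : k) else 0))) • ρ x := by
    intro x
    rw [sub_smul, add_smul, mul_smul]
  rw [Finset.sum_congr rfl (fun x _ => h5 x)]
  apply sum_even h2F ρ hρ
  -- it is enough to treat the elements of trace `2` and the elements of trace different from `±2`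
  have hst : s = t' → s ≠ -t' := by
    intro h1 h3
    apply hs0
    have h6 : (2 : F) * s = 0 := by rw [h1] at h3 ⊢; linear_combination h3
    exact (mul_eq_zero.mp h6).resolve_left h2F
  have hN1 : N k s t' (1 : Matrix.SpecialLinearGroup (Fin 2) F) = 0 := by
    by_cases h1 : s = t'
    · subst h1; exact N_self h2F hs hs' t_one
    · exact N_one h1
  have hN1' : N k s t' (-1 : Matrix.SpecialLinearGroup (Fin 2) F) = 0 := by
    rw [N_neg]
    by_cases h1 : s = -t'
    · rw [← h1]; exact N_self h2F hs hs' t_one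
    · exact N_one h1
  have h22 : (2 : F) ≠ -2 := by
    intro h
    have h6 : (2 : F) * 2 = 0 := by linear_combination h
    rcases mul_eq_zero.mp h6 with h | h <;> exact h2F h
  have key : ∀ x : Matrix.SpecialLinearGroup (Fin 2) F, t x = 2 →
      (N k s t' (-x) - ((if t (-x) ∈ R then (1 : k) else 0) + ε * (if t (-x) = 2 ∧ -x ≠ 1 then (1 : k) else 0))) =
      (N k s t' x - ((if t x ∈ R then (1 : k) else 0) + ε * (if t x = 2 ∧ x ≠ 1 then (1 : k) else 0))) := by
    intro x hx
    rw [t_neg, hx, if_neg h2, if_neg h2']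
    rw [if_neg (c := (-2 : F) = 2 ∧ -x ≠ 1) (fun h => h22 h.1.symm)]
    by_cases hx1 : x = 1
    · rw [hx1, hN1, hN1', if_neg (fun h => h.2 rfl)]
    · rw [if_pos ⟨rfl, hx1⟩, N_neg, hε]
      by_cases h1 : s = t'
      · rw [if_pos (Or.inl h1), N_of_two h2F (hst h1) hx hx1]
        subst h1
        rw [N_self h2F hs hs' hx, mul_zero, mul_one, add_zero, zero_add, sub_zero, zero_sub, CharTwo.neg_eq]
      · rw [N_of_two h2F h1 hx hx1]
        by_cases h3 : s = -t'
        · rw [if_pos (Or.inr h3)]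
          rw [← h3, N_self h2F hs hs' hx]
          ring
        · rw [if_neg (not_or.mpr ⟨h1, h3⟩), N_of_two h2F h3 hx hx1]
          ring
  intro x
  by_cases hx : t x = 2
  · exact key x hx
  · by_cases hx' : t x = -2
    · have h1 := key (-x) (by rw [t_neg, hx', neg_neg])
      rw [neg_neg] at h1
      exact h1.symm
    · have hy : t (-x) ≠ 2 := by
        rw [t_neg]; intro h; exact hx' (by rw [← h, neg_neg])
      have hy' : t (-x) ≠ -2 := by
        rw [t_neg]; intro h; exact hx (neg_inj.mp h)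
      have main : ∀ y : Matrix.SpecialLinearGroup (Fin 2) F, t y ≠ 2 → t y ≠ -2 →
          (N k s t' y - ((if t y ∈ R then (1 : k) else 0) + ε * (if t y = 2 ∧ y ≠ 1 then (1 : k) else 0))) = 0 := by
        intro y h7 h8
        rw [N_of_ne h2F h7 h8, if_neg (c := t y = 2 ∧ y ≠ 1) (fun h => h7 h.1), mul_zero, add_zero]
        simp only [hR _ h7 h8, sub_self]
      rw [main x hx hx', main (-x) hy hy']

end Cfsg.Agent.H646.SLT
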