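import Mathlib
import Cfsg.Agent.H646.SLTwoSum

/-!
# Representations of `SL₂(q)`, `q` odd, in characteristic 2: traces of the class sums on the eigenspaces of the
unipotent elements
-/

set_option autoImplicit false

namespace Cfsg.Agent.H646.SLT

open Finset

section conj

variable {F : Type*} [Field F]

/-- the companion matrix -/
def comp (r : F) : Matrix.SpecialLinearGroup (Fin 2) F := mk !![0, -1; 1, r] (by simp [Matrix.det_fin_two_of])

theorem comp00 (r : F) : (comp r).1 0 0 = 0 := rfl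
theorem comp01 (r : F) : (comp r).1 0 1 = -1 := rfl
theorem comp10 (r : F) : (comp r).1 1 0 = 1 := rfl
theorem comp11 (r : F) : (comp r).1 1 1 = r := rfl

theorem t_comp (r : F) : t (comp r) = r := by
  simp only [t, comp00, comp11, zero_add]

variable [Finite F]

open Polynomial in
/-- a non-degenerate diagonal binary form over a finite field of odd order represents everything -/
theorem exists_diag (h2F : (2 : F) ≠ 0) {D m : F} (hD : D ≠ 0) : ∃ X Y : F, X ^ 2 - D * Y ^ 2 = m := by
  classical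
  have : Fintype F := Fintype.ofFinite F
  have hodd : Fintype.card F % 2 = 1 := by
    apply FiniteField.odd_card_of_char_ne_two
    intro h
    apply h2F
    have : CharP F 2 := by rw [← h]; exact ringChar.charP F
    exact CharTwo.two_eq_zero
  have h1 : degree (X ^ 2 - C m : F[X]) = 2 := by compute_degree!
  have h2 : degree (-(C D * X ^ 2) : F[X]) = 2 := by
    rw [degree_neg, degree_C_mul_X_pow 2 hD]; rfl
  obtain ⟨a, b, h⟩ := FiniteField.exists_root_sum_quadratic h1 h2 hodd
  refine ⟨a, b, ?_⟩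
  simp only [eval_sub, eval_pow, eval_X, eval_C, eval_neg, eval_mul] at h
  linear_combination h

/-- elements with the same trace, different from `±2`, are conjugate -/
theorem exists_conj_comp (h2F : (2 : F) ≠ 0) {g : Matrix.SpecialLinearGroup (Fin 2) F} (h2 : t g ≠ 2)
    (h2' : t g ≠ -2) : ∃ h : Matrix.SpecialLinearGroup (Fin 2) F, g = h * comp (t g) * h⁻¹ := by
  have hd := det_eq g
  have ht : t g = g.1 0 0 + g.1 1 1 := rfl
  set a := g.1 0 0 with ha
  set b := g.1 0 1 with hb
  set c := g.1 1 0 with hc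
  set d := g.1 1 1 with hdd
  have hD : (d - a) ^ 2 + 4 * b * c ≠ 0 := by
    have : (d - a) ^ 2 + 4 * b * c = (t g - 2) * (t g + 2) := by
      rw [ht]; linear_combination -4 * hd
    rw [this]
    exact mul_ne_zero (sub_ne_zero.mpr h2) (fun h => h2' (eq_neg_of_add_eq_zero_left h))
  have h4F : (4 : F) ≠ 0 := by
    have : (4 : F) = 2 * 2 := by norm_num
    rw [this]; exact mul_ne_zero h2F h2F
  obtain ⟨x, y, hxy⟩ : ∃ x y : F, c * x ^ 2 + (d - a) * x * y - b * y ^ 2 = 1 := by
    by_cases hc0 : c = 0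
    · by_cases hb0 : b = 0
      · have hda : d - a ≠ 0 := by
          intro h
          apply hD
          rw [h, hb0]; ring
        refine ⟨1, 1 / (d - a), ?_⟩
        rw [hc0, hb0]
        field_simp
        ring
      · obtain ⟨X, Y, h⟩ := exists_diag h2F (m := -4 * b) hD
        refine ⟨Y, (X + (d - a) * Y) / (2 * b), ?_⟩
        apply mul_left_cancel₀ (mul_ne_zero (mul_ne_zero h4F hb0) (one_ne_zero))
        have h5 : (X + (d - a) * Y) / (2 * b) * (2 * b) = X + (d - a) * Y := div_mul_cancel₀ _ (mul_ne_zero h2F hb0)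
        generalize (X + (d - a) * Y) / (2 * b) = y at h5
        have h6 : X = y * (2 * b) - (d - a) * Y := by rw [h5]; ring
        rw [h6] at h
        linear_combination -h
    · obtain ⟨X, Y, h⟩ := exists_diag h2F (m := 4 * c) hD
      refine ⟨(X - (d - a) * Y) / (2 * c), Y, ?_⟩
      apply mul_left_cancel₀ (mul_ne_zero h4F hc0)
      have h5 : (X - (d - a) * Y) / (2 * c) * (2 * c) = X - (d - a) * Y := div_mul_cancel₀ _ (mul_ne_zero h2F hc0)
      generalize (X - (d - a) * Y) / (2 * c) = x at h5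
      have h6 : X = x * (2 * c) + (d - a) * Y := by rw [h5]; ring
      rw [h6] at h
      linear_combination h
  have hdet : (!![x, a * x + b * y; y, c * x + d * y] : Matrix (Fin 2) (Fin 2) F).det = 1 := by
    rw [Matrix.det_fin_two_of]; linear_combination hxy
  refine ⟨mk _ hdet, ?_⟩
  rw [eq_mul_inv_iff_mul_eq, ext_iff']
  simp only [mul_val, comp00, comp01, comp10, comp11, mk_val]
  show a * x + b * y = x * 0 + (a * x + b * y) * 1 ∧
    a * (a * x + b * y) + b * (c * x + d * y) = x * (-1) + (a * x + b * y) * t g ∧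
    c * x + d * y = y * 0 + (c * x + d * y) * 1 ∧
    c * (a * x + b * y) + d * (c * x + d * y) = y * (-1) + (c * x + d * y) * t g
  refine ⟨by ring, ?_, by ring, ?_⟩
  · rw [ht]; linear_combination -x * hd
  · rw [ht]; linear_combination -y * hd

end conj

section chartwo

variable {k : Type*} [Field k] [CharP k 2] {V : Type*} [AddCommGroup V] [Module k V] [FiniteDimensional k V]

/-- the trace of a square, in characteristic 2 -/
theorem trace_sq (f : Module.End k V) : LinearMap.trace k V (f * f) = (LinearMap.trace k V f) ^ 2 := by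
  classical
  set b := Module.finBasis k V
  rw [LinearMap.trace_eq_matrix_trace k b, LinearMap.trace_eq_matrix_trace k b, LinearMap.toMatrix_mul]
  set M := LinearMap.toMatrix b b f
  simp only [Matrix.trace, Matrix.diag_apply, Matrix.mul_apply]
  have h1 : (∑ i, M i i) ^ 2 = ∑ i, ∑ j, (if i = j then M i j * M j i else 0) := by
    rw [CharTwo.sum_sq]
    refine Finset.sum_congr rfl fun i _ => ?_
    rw [Finset.sum_ite_eq, if_pos (Finset.mem_univ _), sq]
  rw [h1, ← sub_eq_zero, ← Finset.sum_sub_distrib]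
  simp only [← Finset.sum_sub_distrib]
  rw [← Finset.sum_product']
  refine Finset.sum_involution (fun p _ => (p.2, p.1)) ?_ ?_ ?_ ?_
  · rintro ⟨i, j⟩ _
    by_cases h : i = j
    · simp [h]
    · simp only [h, Ne.symm h, if_false, sub_zero]
      rw [mul_comm (M j i)]
      exact two_zero _
  · rintro ⟨i, j⟩ _ h h'
    simp only [Prod.mk.injEq] at h'
    apply h
    simp [h'.2]
  · rintro ⟨i, j⟩ _; exact Finset.mem_univ _
  · rintro ⟨i, j⟩ _; rfl

/-- an operator with square 1 on a space of even dimension has trace 0 in characteristic 2 -/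
theorem trace_of_sq_one (hV : Even (Module.finrank k V)) {f : Module.End k V} (hf : f * f = 1) :
    LinearMap.trace k V f = 0 := by
  have h1 : LinearMap.trace k V (1 : Module.End k V) = 0 := by
    rw [LinearMap.trace_one]
    obtain ⟨n, hn⟩ := hV
    rw [hn, Nat.cast_add, two_zero]
  have h2 := trace_sq f
  rw [hf, h1] at h2
  exact pow_eq_zero_iff two_ne_zero |>.mp h2.symm

end chartwo

section traces

variable {F : Type*} [Field F] [Fintype F] [DecidableEq F]
variable {k : Type*} [Field k] [CharP k 2] {V : Type*} [AddCommGroup V] [Module k V] [FiniteDimensional k V]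

/-- the trace is a function of the trace -/
theorem exists_T (h2F : (2 : F) ≠ 0) (ρ : Matrix.SpecialLinearGroup (Fin 2) F →* Module.End k V) (hρ : ρ (-1) = 1)
    (hV : Even (Module.finrank k V))
    (hu : ∀ g, t g = 2 → g ≠ 1 → LinearMap.trace k V (ρ g) = 0) :
    ∃ T : F → k, (∀ g, LinearMap.trace k V (ρ g) = T (t g)) ∧ T 2 = 0 ∧ T (-2) = 0 ∧ T 0 = 0 ∧ (∀ r, T (-r) = T r) := by
  have hneg : ∀ x, ρ (-x) = ρ x := by
    intro x
    rw [← neg_one_mul, map_mul, hρ, one_mul]
  have h1 : LinearMap.trace k V (ρ 1) = 0 := by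
    apply trace_of_sq_one hV
    rw [← map_mul, mul_one, map_one]
  have hu2 : ∀ g, t g = 2 → LinearMap.trace k V (ρ g) = 0 := by
    intro g hg
    by_cases hg1 : g = 1
    · rw [hg1, h1]
    · exact hu g hg hg1
  have hum2 : ∀ g, t g = -2 → LinearMap.trace k V (ρ g) = 0 := by
    intro g hg
    rw [← hneg]
    exact hu2 _ (by rw [t_neg, hg, neg_neg])
  have hT : ∀ g, LinearMap.trace k V (ρ g) = LinearMap.trace k V (ρ (comp (t g))) := by
    intro g
    by_cases h2 : t g = 2
    · rw [hu2 g h2, hu2 _ (by rw [t_comp, h2])]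
    · by_cases h2' : t g = -2
      · rw [hum2 g h2', hum2 _ (by rw [t_comp, h2'])]
      · obtain ⟨h, hh⟩ := exists_conj_comp h2F h2 h2'
        rw [hh]
        rw [map_mul, LinearMap.trace_mul_comm, ← map_mul, ← mul_assoc, inv_mul_cancel, one_mul, t_conj, t_comp]
  refine ⟨fun r => LinearMap.trace k V (ρ (comp r)), hT, hu2 _ (t_comp 2), hum2 _ (t_comp _), ?_, ?_⟩
  · have h3 : comp (0 : F) * comp 0 = -1 := by
      rw [ext_iff']
      simp only [mul_val, neg_val, comp00, comp01, comp10, comp11]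
      show _ = -(1 : F) ∧ _ = -(0 : F) ∧ _ = -(0 : F) ∧ _ = -(1 : F)
      refine ⟨?_, ?_, ?_, ?_⟩ <;> ring
    apply trace_of_sq_one hV
    rw [← map_mul, h3, hρ]
  · intro r
    have h3 := hT (-comp r)
    rw [hneg, t_neg, t_comp] at h3
    exact h3.symm

theorem sum_T (h2F : (2 : F) ≠ 0) {T : F → k} (h0 : T 0 = 0) (hneg : ∀ r, T (-r) = T r) : ∑ r, T r = 0 := by
  refine Finset.sum_involution (fun r _ => -r) ?_ ?_ ?_ ?_
  · intro r _
    rw [hneg]
    exact two_zero _
  · intro r _ h h'
    apply h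
    have h6 : (2 : F) * r = 0 := by linear_combination -h'
    rw [(mul_eq_zero.mp h6).resolve_left h2F, h0]
  · intro r _; exact Finset.mem_univ _
  · intro r _; exact neg_neg r

variable (ρ : Matrix.SpecialLinearGroup (Fin 2) F →* Module.End k V)

/-- the trace of a class sum times an element -/
theorem trace_c_mul {T : F → k} (hT : ∀ g, LinearMap.trace k V (ρ g) = T (t g)) (r : F)
    (x : Matrix.SpecialLinearGroup (Fin 2) F) :
    LinearMap.trace k V (c ρ r * ρ x) = ∑ t', N k r t' x * T t' := by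
  classical
  have h1 : LinearMap.trace k V (c ρ r * ρ x) =
      ∑ g ∈ (Finset.univ : Finset (Matrix.SpecialLinearGroup (Fin 2) F)).filter (fun g => t g = r), T (t (g * x)) := by
    unfold c
    rw [Finset.sum_mul, map_sum]
    refine Finset.sum_congr rfl fun g _ => ?_
    rw [← map_mul, hT]
  have h2 : ∑ g ∈ (Finset.univ : Finset (Matrix.SpecialLinearGroup (Fin 2) F)).filter (fun g => t g = r), T (t (g * x)) =
      ∑ g ∈ (Finset.univ : Finset (Matrix.SpecialLinearGroup (Fin 2) F)).filter (fun g => t g = r), T (t (g⁻¹ * x)) := by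
    refine Finset.sum_bij' (fun g _ => g⁻¹) (fun g _ => g⁻¹) ?_ ?_ ?_ ?_ ?_
    · intro g hg
      simp only [Finset.mem_filter, Finset.mem_univ, true_and] at hg ⊢
      rw [t_inv, hg]
    · intro g hg
      simp only [Finset.mem_filter, Finset.mem_univ, true_and] at hg ⊢
      rw [t_inv, hg]
    · intro g _; exact inv_inv g
    · intro g _; exact inv_inv g
    · intro g _; rw [inv_inv]
  rw [h1, h2, ← Finset.sum_fiberwise_of_maps_to (g := fun g => t (g⁻¹ * x)) (fun _ _ => Finset.mem_univ _)]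
  refine Finset.sum_congr rfl fun t' _ => ?_
  unfold N
  rw [Finset.filter_filter, Finset.sum_mul]
  refine Finset.sum_congr rfl fun g hg => ?_
  simp only [Finset.mem_filter, Finset.mem_univ, true_and] at hg
  rw [hg.2, one_mul]

variable {ρ}

theorem trace_c_mul_u (h2F : (2 : F) ≠ 0) {T : F → k} (hT : ∀ g, LinearMap.trace k V (ρ g) = T (t g))
    (h0 : T 0 = 0) (hneg : ∀ r, T (-r) = T r) {r : F} (hr : r ≠ 2) (hr' : r ≠ -2) {b : F} (hb : b ≠ 0) :
    LinearMap.trace k V (c ρ r * ρ (u b)) = T r := by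
  rw [trace_c_mul ρ hT]
  have h1 : ∀ t', N k r t' (u b) * T t' = T t' + (if t' = r then T t' else 0) := by
    intro t'
    by_cases h : t' = r
    · rw [h, if_pos rfl, N_self h2F hr hr', zero_mul, two_zero]
      simp only [t, u00, u11]; norm_num
    · rw [if_neg h, N_u h2F (Ne.symm h) hb, one_mul, add_zero]
  rw [Finset.sum_congr rfl (fun t' _ => h1 t'), Finset.sum_add_distrib, sum_T h2F h0 hneg, zero_add,
    Finset.sum_ite_eq', if_pos (Finset.mem_univ _)]

theorem trace_c (h2F : (2 : F) ≠ 0) {T : F → k} (hT : ∀ g, LinearMap.trace k V (ρ g) = T (t g))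
    {r : F} (hr : r ≠ 2) (hr' : r ≠ -2) : LinearMap.trace k V (c ρ r) = 0 := by
  have h1 := trace_c_mul ρ hT r 1
  rw [map_one, mul_one] at h1
  rw [h1]
  apply Finset.sum_eq_zero
  intro t' _
  by_cases h : r = t'
  · rw [← h, N_self h2F hr hr' t_one, zero_mul]
  · rw [N_one h, zero_mul]

theorem trace_K {T : F → k} (hT : ∀ g, LinearMap.trace k V (ρ g) = T (t g)) (h2 : T 2 = 0) :
    LinearMap.trace k V (K ρ) = 0 := by
  unfold K
  rw [map_sum]
  apply Finset.sum_eq_zero
  intro g hg
  simp only [Finset.mem_filter, Finset.mem_univ, true_and] at hg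
  rw [hT, hg.1, h2]

theorem trace_K_mul_u (h2F : (2 : F) ≠ 0) {T : F → k} (hT : ∀ g, LinearMap.trace k V (ρ g) = T (t g))
    (h0 : T 0 = 0) (hneg : ∀ r, T (-r) = T r) (h2 : T 2 = 0) {b : F} (hb : b ≠ 0) :
    LinearMap.trace k V (K ρ * ρ (u b)) = 0 := by
  have h1 : LinearMap.trace k V (c ρ 2 * ρ (u b)) = 0 := by
    rw [trace_c_mul ρ hT]
    have h3 : ∀ t', N k 2 t' (u b) * T t' = T t' := by
      intro t'
      by_cases h : t' = 2
      · rw [h, h2, mul_zero]
      · rw [N_u h2F (Ne.symm h) hb, one_mul]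
    rw [Finset.sum_congr rfl (fun t' _ => h3 t'), sum_T h2F h0 hneg]
  rw [c_two, add_mul, one_mul, map_add, hT] at h1
  have h4 : t (u b) = 2 := by
    simp only [t, u00, u11]; norm_num
  rwa [h4, h2, zero_add] at h1

theorem u_add (a b : F) : u a * u b = u (a + b) := by
  rw [ext_iff']
  simp only [mul_val, u00, u01, u10, u11]
  refine ⟨?_, ?_, ?_, ?_⟩ <;> ring

/-- the projection onto an eigenspace of the unipotent elements (up to a factor) -/
noncomputable def proj (ρ : Matrix.SpecialLinearGroup (Fin 2) F →* Module.End k V) (χ : AddChar F k) :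
    Module.End k V := ∑ b, χ (-b) • ρ (u b)

theorem u_mul_proj (χ : AddChar F k) (a : F) : ρ (u a) * proj ρ χ = χ a • proj ρ χ := by
  unfold proj
  rw [Finset.mul_sum, Finset.smul_sum]
  refine Fintype.sum_equiv (Equiv.addLeft a) _ _ ?_
  intro b
  rw [Equiv.coe_addLeft, mul_smul_comm, ← map_mul, u_add, smul_smul, ← AddChar.map_add_eq_mul]
  congr 2
  ring

theorem u_zero : u (0 : F) = 1 := by
  rw [ext_iff', u00, u01, u10, u11]
  exact ⟨rfl, rfl, rfl, rfl⟩

theorem trace_mul_proj {χ : AddChar F k} (hχ : χ ≠ 0) {z : Module.End k V} {α : k}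
    (h0 : LinearMap.trace k V z = 0) (h1 : ∀ b, b ≠ 0 → LinearMap.trace k V (z * ρ (u b)) = α) :
    LinearMap.trace k V (z * proj ρ χ) = α := by
  classical
  unfold proj
  rw [Finset.mul_sum, map_sum]
  have h2 : ∀ b : F, LinearMap.trace k V (z * χ (-b) • ρ (u b)) = χ (-b) * α - (if b = 0 then α else 0) := by
    intro b
    rw [mul_smul_comm, map_smul, smul_eq_mul]
    by_cases hb : b = 0
    · subst hb
      rw [u_zero, map_one, mul_one, h0, if_pos rfl, neg_zero, AddChar.map_zero_eq_one]
      ring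
    · rw [h1 b hb, if_neg hb, sub_zero]
  rw [Finset.sum_congr rfl (fun b _ => h2 b), Finset.sum_sub_distrib, ← Finset.sum_mul, Finset.sum_ite_eq',
    if_pos (Finset.mem_univ _)]
  have h3 : ∑ b : F, χ (-b) = 0 := by
    have h4 : ∑ b : F, χ (-b) = ∑ b : F, χ b := Fintype.sum_equiv (Equiv.neg F) _ _ (fun b => rfl)
    rw [h4, AddChar.sum_eq_ite, if_neg hχ]
  rw [h3, zero_mul, zero_sub, CharTwo.neg_eq]

theorem trace_c_proj (h2F : (2 : F) ≠ 0) {T : F → k} (hT : ∀ g, LinearMap.trace k V (ρ g) = T (t g))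
    (h0 : T 0 = 0) (hneg : ∀ r, T (-r) = T r) {r : F} (hr : r ≠ 2) (hr' : r ≠ -2) {χ : AddChar F k} (hχ : χ ≠ 0) :
    LinearMap.trace k V (c ρ r * proj ρ χ) = T r :=
  trace_mul_proj hχ (trace_c h2F hT hr hr') (fun _ hb => trace_c_mul_u h2F hT h0 hneg hr hr' hb)

theorem trace_K_proj (h2F : (2 : F) ≠ 0) {T : F → k} (hT : ∀ g, LinearMap.trace k V (ρ g) = T (t g))
    (h0 : T 0 = 0) (hneg : ∀ r, T (-r) = T r) (h2 : T 2 = 0) {χ : AddChar F k} (hχ : χ ≠ 0) :
    LinearMap.trace k V (K ρ * proj ρ χ) = 0 :=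
  trace_mul_proj hχ (trace_K hT h2) (fun _ hb => trace_K_mul_u h2F hT h0 hneg h2 hb)

end traces

end Cfsg.Agent.H646.SLT
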