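import Mathlib
import Cfsg.Agent.H646.SLTwoTrace

/-!
# Representations of `SL₂(19)` in characteristic 2

`five_le` : let `ρ` be a representation of `SL₂(19)` on a space `V` of even dimension over an algebraically closed field of
characteristic 2, trivial on `-1`, such that the trace is `1` on the elements of order 5 and on the cubes of the
elements of order 9, `0` on the elements of order 19, and in the prime field on the elements of order 9. Then every
`ζ ≠ 1` with `ζ ^ 19 = 1` is an eigenvalue of `[1, 1; 0, 1]` of multiplicity at least 5.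
-/

set_option autoImplicit false

namespace Cfsg.Agent.H646.LTN

open Finset Cfsg.Agent.H646.SLT

instance fact19 : Fact (Nat.Prime 19) := ⟨by norm_num⟩

section rel

variable {k : Type*} [Field k] [CharP k 2] {A : Type*} [Ring A] [Algebra k A]

theorem two_ne : (2 : ZMod 19) ≠ 0 := by decide

theorem char_two (k : Type*) [Field k] [CharP k 2] {A : Type*} [Ring A] [Algebra k A] (a : A) : a + a = 0 := by
  rw [← one_smul k a, ← add_smul, two_zero, zero_smul]

variable (ρ : Matrix.SpecialLinearGroup (Fin 2) (ZMod 19) →* A) (hρ : ρ (-1) = 1)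

include hρ

/-- a product, given by a decidable check -/
theorem prod_of (k : Type*) [Field k] [CharP k 2] [Algebra k A] (s t' : ZMod 19) (R : Finset (ZMod 19))
    (h : (s ≠ 0 ∧ s ≠ 2 ∧ s ≠ -2) ∧ (2 : ZMod 19) ∉ R ∧ (-2 : ZMod 19) ∉ R ∧ ∀ r : ZMod 19, r ≠ 2 → r ≠ -2 →
      (r ^ 2 - r * s * t' + s ^ 2 + t' ^ 2 - 4 = 0 ↔ r ∈ R)) :
    c ρ s * c ρ t' = ∑ r ∈ R, c ρ r + (if s = t' ∨ s = -t' then (1 : k) else 0) • K ρ :=
  mul_formula two_ne ρ hρ h.1.1 h.1.2.1 h.1.2.2 R h.2.1 h.2.2.1 h.2.2.2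

theorem r1 (k : Type*) [Field k] [CharP k 2] [Algebra k A] : c ρ 9 * c ρ 9 = c ρ 3 + K ρ := by
  rw [prod_of ρ hρ k 9 9 {3} (by decide), Finset.sum_singleton, if_pos (Or.inl rfl), one_smul]

theorem r2 (k : Type*) [Field k] [CharP k 2] [Algebra k A] : c ρ 9 * c ρ 3 = c ρ 18 + c ρ 9 := by
  rw [prod_of ρ hρ k 9 3 {18, 9} (by decide), Finset.sum_pair (by decide), if_neg (by decide), zero_smul, add_zero]

theorem r3 (k : Type*) [Field k] [CharP k 2] [Algebra k A] : c ρ 9 * c ρ 18 = c ρ 7 + c ρ 3 := by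
  rw [prod_of ρ hρ k 9 18 {7, 3} (by decide), Finset.sum_pair (by decide), if_neg (by decide), zero_smul, add_zero]

theorem r4 (k : Type*) [Field k] [CharP k 2] [Algebra k A] : c ρ 9 * c ρ 7 = c ρ 7 + c ρ 18 := by
  rw [prod_of ρ hρ k 9 7 {7, 18} (by decide), Finset.sum_pair (by decide), if_neg (by decide), zero_smul, add_zero]

theorem r5 (k : Type*) [Field k] [CharP k 2] [Algebra k A] : c ρ 9 * K ρ = 0 := by
  have h := prod_of ρ hρ k 9 2 {9} (by decide)
  rw [Finset.sum_singleton, if_neg (by decide), zero_smul, add_zero, c_two, mul_add, mul_one] at h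
  exact left_eq_add.mp h.symm

theorem r6 (k : Type*) [Field k] [CharP k 2] [Algebra k A] : c ρ 4 * c ρ 4 = c ρ 14 + K ρ := by
  rw [prod_of ρ hρ k 4 4 {14} (by decide), Finset.sum_singleton, if_pos (Or.inl rfl), one_smul]

theorem r7 (k : Type*) [Field k] [CharP k 2] [Algebra k A] : c ρ 4 * c ρ 14 = c ρ 14 + c ρ 4 := by
  rw [prod_of ρ hρ k 4 14 {14, 4} (by decide), Finset.sum_pair (by decide), if_neg (by decide), zero_smul, add_zero]

theorem r8 (k : Type*) [Field k] [CharP k 2] [Algebra k A] : c ρ 4 * K ρ = 0 := by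
  have h := prod_of ρ hρ k 4 2 {4} (by decide)
  rw [Finset.sum_singleton, if_neg (by decide), zero_smul, add_zero, c_two, mul_add, mul_one] at h
  exact left_eq_add.mp h.symm

theorem r9 (k : Type*) [Field k] [CharP k 2] [Algebra k A] : c ρ 9 * c ρ 4 = 0 := by
  rw [prod_of ρ hρ k 9 4 ∅ (by decide), Finset.sum_empty, if_neg (by decide), zero_smul, add_zero]

theorem r10 (k : Type*) [Field k] [CharP k 2] [Algebra k A] : c ρ 9 * c ρ 14 = 0 := by
  rw [prod_of ρ hρ k 9 14 ∅ (by decide), Finset.sum_empty, if_neg (by decide), zero_smul, add_zero]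

theorem r11 (k : Type*) [Field k] [CharP k 2] [Algebra k A] : c ρ 4 * c ρ 3 = 0 := by
  rw [prod_of ρ hρ k 4 3 ∅ (by decide), Finset.sum_empty, if_neg (by decide), zero_smul, add_zero]

theorem r12 (k : Type*) [Field k] [CharP k 2] [Algebra k A] : c ρ 4 * c ρ 18 = 0 := by
  rw [prod_of ρ hρ k 4 18 ∅ (by decide), Finset.sum_empty, if_neg (by decide), zero_smul, add_zero]

theorem r13 (k : Type*) [Field k] [CharP k 2] [Algebra k A] : c ρ 4 * c ρ 7 = 0 := by
  rw [prod_of ρ hρ k 4 7 ∅ (by decide), Finset.sum_empty, if_neg (by decide), zero_smul, add_zero]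

theorem r14 (k : Type*) [Field k] [CharP k 2] [Algebra k A] : c ρ 4 * c ρ 9 = 0 := by
  rw [prod_of ρ hρ k 4 9 ∅ (by decide), Finset.sum_empty, if_neg (by decide), zero_smul, add_zero]

/-- the powers of `Z = c 9 + c 4` -/
theorem Z_powers (k : Type*) [Field k] [CharP k 2] [Algebra k A] {Z : A} (hZ : Z = c ρ 9 + c ρ 4) :
    Z ^ 2 = c ρ 3 + c ρ 14 ∧ Z ^ 3 = c ρ 18 + c ρ 9 + c ρ 14 + c ρ 4 ∧ Z ^ 4 = c ρ 7 + c ρ 4 ∧
    Z ^ 5 = c ρ 7 + c ρ 18 + c ρ 14 + K ρ ∧ Z ^ 6 = c ρ 18 + c ρ 3 + c ρ 14 + c ρ 4 ∧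
    Z ^ 7 = c ρ 7 + c ρ 3 + c ρ 18 + c ρ 9 + c ρ 4 + K ρ ∧ Z ^ 8 = c ρ 9 + c ρ 14 := by
  have e := char_two k (A := A)
  have e1 : ∀ a b : A, a = b ↔ a + b = 0 := by
    intro a b
    constructor
    · rintro rfl; exact e a
    · intro h
      have := congrArg (· + b) h
      simp only [add_assoc, e, add_zero, zero_add] at this
      exact this
  have q1 := r1 ρ hρ k
  have q2 := r2 ρ hρ k
  have q3 := r3 ρ hρ k
  have q4 := r4 ρ hρ k
  have q5 := r5 ρ hρ k
  have q6 := r6 ρ hρ k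
  have q7 := r7 ρ hρ k
  have q8 := r8 ρ hρ k
  have q9 := r9 ρ hρ k
  have q10 := r10 ρ hρ k
  have q11 := r11 ρ hρ k
  have q12 := r12 ρ hρ k
  have q13 := r13 ρ hρ k
  have q14 := r14 ρ hρ k
  have h2 : Z ^ 2 = c ρ 3 + c ρ 14 := by
    rw [pow_two, hZ]
    simp only [mul_add, add_mul, q1, q6, q9, q14]
    linear_combination (norm := module) e (K ρ)
  have h3 : Z ^ 3 = c ρ 18 + c ρ 9 + c ρ 14 + c ρ 4 := by
    rw [pow_succ', h2, hZ]
    simp only [mul_add, add_mul, q2, q7, q10, q11]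
    module
  have h4 : Z ^ 4 = c ρ 7 + c ρ 4 := by
    rw [pow_succ', h3, hZ]
    simp only [mul_add, add_mul, q1, q3, q6, q7, q9, q10, q12, q14]
    linear_combination (norm := module) e (c ρ 3) + e (K ρ) + e (c ρ 14)
  have h5 : Z ^ 5 = c ρ 7 + c ρ 18 + c ρ 14 + K ρ := by
    rw [pow_succ', h4, hZ]
    simp only [mul_add, add_mul, q4, q6, q9, q13]
    module
  have h6 : Z ^ 6 = c ρ 18 + c ρ 3 + c ρ 14 + c ρ 4 := by
    rw [pow_succ', h5, hZ]
    simp only [mul_add, add_mul, q3, q4, q5, q7, q8, q10, q12, q13]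
    linear_combination (norm := module) e (c ρ 7)
  have h7 : Z ^ 7 = c ρ 7 + c ρ 3 + c ρ 18 + c ρ 9 + c ρ 4 + K ρ := by
    rw [pow_succ', h6, hZ]
    simp only [mul_add, add_mul, q2, q3, q6, q7, q9, q10, q11, q12]
    linear_combination (norm := module) e (c ρ 14)
  have h8 : Z ^ 8 = c ρ 9 + c ρ 14 := by
    rw [pow_succ', h7, hZ]
    simp only [mul_add, add_mul, q1, q2, q3, q4, q5, q6, q8, q9, q11, q12, q13, q14]
    linear_combination (norm := module) e (c ρ 7) + e (c ρ 18) + e (c ρ 3) + e (K ρ)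
  exact ⟨h2, h3, h4, h5, h6, h7, h8⟩

end rel

section main

variable {k : Type*} [Field k] [CharP k 2] {V : Type*} [AddCommGroup V] [Module k V] [FiniteDimensional k V]

/-- the eigenvectors -/
theorem exists_eigenvector (ρ : Matrix.SpecialLinearGroup (Fin 2) (ZMod 19) →* Module.End k V) (hρ : ρ (-1) = 1)
    {T : ZMod 19 → k} (hT : ∀ g, LinearMap.trace k V (ρ g) = T (t g)) (hT2 : T 2 = 0) (hT0 : T 0 = 0)
    (hTneg : ∀ r, T (-r) = T r) {a : k} (h9 : T 9 = a) (h3 : T 3 = a) (h7 : T 7 = a) (h18 : T 18 = 1)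
    (h4 : T 4 = 1) (h14 : T 14 = 1) {χ : AddChar (ZMod 19) k} (hχ : χ ≠ 0) {μ : k} (hμ : μ ^ 5 + μ ^ 4 + 1 = 0) :
    ∃ x : V, x ≠ 0 ∧ (c ρ 9 + c ρ 4) x = μ • x ∧ ρ (u 1) x = χ 1 • x := by
  have e := char_two k (A := Module.End k V)
  have e' : ∀ z : k, z + z = 0 := two_zero
  obtain ⟨Z, hZ⟩ : ∃ Z : Module.End k V, Z = c ρ 9 + c ρ 4 := ⟨_, rfl⟩
  rw [← hZ]
  obtain ⟨z2, z3, z4, z5, z6, z7, z8⟩ := Z_powers ρ hρ k hZ
  obtain ⟨y, hy⟩ : ∃ y : Module.End k V, y = Z ^ 7 + Z ^ 6 + (μ + 1) • (Z ^ 6 + Z ^ 5) + (μ ^ 2 + μ) • (Z ^ 5 + Z ^ 4) +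
    (μ ^ 3 + μ ^ 2) • (Z ^ 4 + Z ^ 3) + (μ ^ 4 + μ ^ 3) • (Z ^ 3 + Z ^ 2) := ⟨_, rfl⟩
  have hZy : Z * y = μ • y := by
    rw [hy]
    simp only [mul_add, mul_smul_comm, ← pow_succ']
    have h1 : Z ^ (7 + 1) + Z ^ 6 + Z ^ 3 + Z ^ 2 = 0 := by
      rw [show 7 + 1 = 8 from rfl, z8, z6, z3, z2]
      linear_combination (norm := module) e (c ρ 9) + e (c ρ 14) + e (c ρ 14) + e (c ρ 18) + e (c ρ 3) + e (c ρ 4)
    have h2 : (μ ^ 5 + μ ^ 4 + 1) • (Z ^ 3 + Z ^ 2) = 0 := by rw [hμ, zero_smul]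
    linear_combination (norm := module) h1 + e (Z ^ 7) - h2
  -- the trace
  have p9 := trace_c_proj two_ne hT hT0 hTneg (r := 9) (by decide) (by decide) hχ
  have p3 := trace_c_proj two_ne hT hT0 hTneg (r := 3) (by decide) (by decide) hχ
  have p7 := trace_c_proj two_ne hT hT0 hTneg (r := 7) (by decide) (by decide) hχ
  have p18 := trace_c_proj two_ne hT hT0 hTneg (r := 18) (by decide) (by decide) hχ
  have p4 := trace_c_proj two_ne hT hT0 hTneg (r := 4) (by decide) (by decide) hχ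
  have p14 := trace_c_proj two_ne hT hT0 hTneg (r := 14) (by decide) (by decide) hχ
  have pK := trace_K_proj two_ne hT hT0 hTneg hT2 hχ
  rw [h9] at p9
  rw [h3] at p3
  rw [h7] at p7
  rw [h18] at p18
  rw [h4] at p4
  rw [h14] at p14
  have htr : LinearMap.trace k V (y * proj ρ χ) = μ ^ 2 := by
    rw [hy, z2, z3, z4, z5, z6, z7]
    simp only [add_mul, smul_mul_assoc, map_add, map_smul, smul_eq_mul, p9, p3, p7, p18, p4, p14, pK]
    have h2 : (2 : k) = 0 := CharTwo.two_eq_zero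
    linear_combination (2 * a + 5 + 4 * μ + μ ^ 2 + (μ + 1) * a + (μ ^ 2 + μ) * a + (μ ^ 3 + μ ^ 2) * (a + 2) +
      (μ ^ 4 + μ ^ 3) * (a + 2)) * h2
  have hμ0 : μ ≠ 0 := by
    rintro rfl
    norm_num at hμ
  have hne : y * proj ρ χ ≠ 0 := by
    intro h
    rw [h, map_zero] at htr
    exact pow_ne_zero 2 hμ0 htr.symm
  obtain ⟨v, hv⟩ : ∃ v, (y * proj ρ χ) v ≠ 0 := by
    by_contra h
    push Not at h
    exact hne (LinearMap.ext h)
  refine ⟨(y * proj ρ χ) v, hv, ?_, ?_⟩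
  · rw [← Module.End.mul_apply, ← mul_assoc, hZy, smul_mul_assoc, LinearMap.smul_apply]
  · have hc : Commute (ρ (u 1)) Z := by
      rw [hZ]
      exact Commute.add_right (c_comm ρ 9 (u 1)) (c_comm ρ 4 (u 1))
    have hup : ρ (u 1) * proj ρ χ = χ 1 • proj ρ χ := u_mul_proj χ 1
    generalize ρ (u 1) = U at hc hup ⊢
    generalize proj ρ χ = P at hup ⊢
    have hcy : Commute U y := by
      rw [hy]
      have hcp : ∀ n : ℕ, Commute U (Z ^ n) := fun n => hc.pow_right n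
      exact ((((((hcp 7).add_right (hcp 6)).add_right (((hcp 6).add_right (hcp 5)).smul_right _)).add_right
        (((hcp 5).add_right (hcp 4)).smul_right _)).add_right (((hcp 4).add_right (hcp 3)).smul_right _)).add_right
        (((hcp 3).add_right (hcp 2)).smul_right _))
    rw [← Module.End.mul_apply, ← mul_assoc, hcy.eq, mul_assoc, hup, mul_smul_comm, LinearMap.smul_apply]

open Polynomial in
/-- five roots -/
theorem card_roots (k : Type*) [Field k] [CharP k 2] [IsAlgClosed k] :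
    ∃ R : Finset k, R.card = 5 ∧ ∀ μ ∈ R, μ ^ 5 + μ ^ 4 + 1 = 0 := by
  classical
  have h2 : (2 : k[X]) = 0 := by
    have : (2 : k[X]) = C (2 : k) := rfl
    rw [this, CharTwo.two_eq_zero, C_0]
  have hdeg : natDegree (X ^ 5 + X ^ 4 + 1 : k[X]) = 5 := by compute_degree!
  have hne : (X ^ 5 + X ^ 4 + 1 : k[X]) ≠ 0 := by
    intro h
    rw [h, natDegree_zero] at hdeg
    norm_num at hdeg
  have hder : derivative (X ^ 5 + X ^ 4 + 1 : k[X]) = X ^ 4 := by
    simp only [derivative_add, derivative_X_pow, derivative_one, add_zero]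
    norm_num
    rw [show (C (5 : k) : k[X]) = 5 from map_ofNat C 5, show (C (4 : k) : k[X]) = 4 from map_ofNat C 4]
    linear_combination (2 * X ^ 4 + 2 * X ^ 3) * h2
  have hsep : (X ^ 5 + X ^ 4 + 1 : k[X]).Separable := by
    refine ⟨1, -(X + 1), ?_⟩
    rw [hder]
    ring
  refine ⟨(X ^ 5 + X ^ 4 + 1 : k[X]).roots.toFinset, ?_, ?_⟩
  · rw [Multiset.toFinset_card_of_nodup (nodup_roots hsep), ← (IsAlgClosed.splits _).natDegree_eq_card_roots, hdeg]
  · intro μ hμ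
    rw [Multiset.mem_toFinset, mem_roots hne, IsRoot.def] at hμ
    simpa using hμ

omit [CharP k 2] in
/-- eigenvectors of one operator in an eigenspace of another one -/
theorem card_le_of_eigenvectors (Z U : Module.End k V) {ζ : k} (R : Finset k)
    (hex : ∀ μ : R, ∃ x : V, x ≠ 0 ∧ Z x = (μ : k) • x ∧ U x = ζ • x) :
    R.card ≤ Module.finrank k ↥(Module.End.eigenspace U ζ) := by
  choose x hx0 hx1 hx2 using hex
  have hlin : LinearIndependent k x := by
    refine Module.End.eigenvectors_linearIndependent' Z (fun μ : R => (μ : k)) Subtype.coe_injective x ?_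
    intro μ
    exact ⟨Module.End.mem_eigenspace_iff.mpr (hx1 μ), hx0 μ⟩
  have hmem : ∀ μ, x μ ∈ Module.End.eigenspace U ζ := by
    intro μ
    rw [Module.End.mem_eigenspace_iff, hx2]
  have hlin' : LinearIndependent k (fun μ : R => (⟨x μ, hmem μ⟩ : ↥(Module.End.eigenspace U ζ))) := by
    apply LinearIndependent.of_comp (Module.End.eigenspace U ζ).subtype
    exact hlin
  have := hlin'.fintype_card_le_finrank
  rwa [Fintype.card_coe] at this

/-- **`SL₂(19)` in characteristic 2.** -/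
theorem five_le [IsAlgClosed k] (ρ : Matrix.SpecialLinearGroup (Fin 2) (ZMod 19) →* Module.End k V) (hρ : ρ (-1) = 1)
    (hV : Even (Module.finrank k V))
    (h19 : ∀ g, g ^ 19 = 1 → g ≠ 1 → LinearMap.trace k V (ρ g) = 0)
    (h9 : ∀ g, g ^ 9 = 1 → g ^ 3 ≠ 1 →
      LinearMap.trace k V (ρ g) ^ 2 = LinearMap.trace k V (ρ g) ∧ LinearMap.trace k V (ρ (g ^ 3)) = 1)
    (h5 : ∀ g, g ^ 5 = 1 → g ≠ 1 → LinearMap.trace k V (ρ g) = 1)
    {ζ : k} (hζ : ζ ^ 19 = 1) (hζ1 : ζ ≠ 1) :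
    5 ≤ Module.finrank k ↥(Module.End.eigenspace (ρ (u 1)) ζ) := by
  classical
  have hu : ∀ g : Matrix.SpecialLinearGroup (Fin 2) (ZMod 19), t g = 2 → g ≠ 1 → LinearMap.trace k V (ρ g) = 0 := by
    intro g hg hg1
    apply h19 g _ hg1
    obtain ⟨h, b, rfl⟩ := exists_conj_u hg
    have hub : ∀ n : ℕ, (u b) ^ n = u (n * b) := by
      intro n
      induction n with
      | zero => rw [pow_zero, Nat.cast_zero, zero_mul, u_zero]
      | succ n ih => rw [pow_succ, ih, u_add, Nat.cast_succ, add_mul, one_mul]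
    rw [conj_pow, hub]
    have : ((19 : ℕ) : ZMod 19) = 0 := by decide
    rw [this, zero_mul, u_zero, mul_one, mul_inv_cancel]
  obtain ⟨T, hT, hT2, -, hT0, hTneg⟩ := exists_T two_ne ρ hρ hV hu
  have hcomp : ∀ r, LinearMap.trace k V (ρ (comp r)) = T r := fun r => by rw [hT, t_comp]
  have hsq : ∀ g, LinearMap.trace k V (ρ (g ^ 2)) = (LinearMap.trace k V (ρ g)) ^ 2 := by
    intro g
    rw [pow_two, map_mul, trace_sq]
  have ht2 : ∀ g : Matrix.SpecialLinearGroup (Fin 2) (ZMod 19), t (g ^ 2) = (t g) ^ 2 - 2 := by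
    intro g
    rw [pow_two, t_mul]
    simp only [t]
    linear_combination -2 * det_eq g
  have c9 : (comp (9 : ZMod 19)) ^ 9 = 1 := by decide
  have c9' : (comp (9 : ZMod 19)) ^ 3 ≠ 1 := by decide
  have c9'' : t ((comp (9 : ZMod 19)) ^ 3) = 18 := by decide
  have c4 : (comp (4 : ZMod 19)) ^ 5 = 1 := by decide
  have c4' : (comp (4 : ZMod 19)) ≠ 1 := by decide
  have c14 : (comp (14 : ZMod 19)) ^ 5 = 1 := by decide
  have c14' : (comp (14 : ZMod 19)) ≠ 1 := by decide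
  have T9 : T 9 ^ 2 = T 9 := by
    have := (h9 _ c9 c9').1
    rwa [hcomp] at this
  have T18 : T 18 = 1 := by
    have := (h9 _ c9 c9').2
    rwa [hT, c9''] at this
  have T4 : T 4 = 1 := by
    rw [← hcomp]; exact h5 _ c4 c4'
  have T14 : T 14 = 1 := by
    rw [← hcomp]; exact h5 _ c14 c14'
  have T3 : T 3 = T 9 := by
    have h1 := hsq (comp 9)
    rw [hT, ht2, t_comp, hcomp, T9] at h1
    rw [← h1]
    congr 1
  have T7 : T 7 = T 9 := by
    have h1 := hsq (comp 3)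
    rw [hT, ht2, t_comp, hcomp, T3, T9] at h1
    rw [← h1]
    congr 1
  -- the character
  let χ : AddChar (ZMod 19) k := AddChar.zmodChar 19 hζ
  have hχ1 : χ 1 = ζ := by
    show ζ ^ (1 : ZMod 19).val = ζ
    rw [show (1 : ZMod 19).val = 1 from rfl, pow_one]
  have hχ : χ ≠ 0 := by
    intro h
    apply hζ1
    rw [← hχ1, h]
    rfl
  obtain ⟨R, hR, hR'⟩ := card_roots k
  have hex : ∀ μ : R, ∃ x : V, x ≠ 0 ∧ (c ρ 9 + c ρ 4) x = (μ : k) • x ∧ ρ (u 1) x = χ 1 • x := fun μ =>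
    exists_eigenvector ρ hρ hT hT2 hT0 hTneg rfl T3 T7 T18 T4 T14 hχ (hR' μ μ.2)
  rw [hχ1] at hex
  have := card_le_of_eigenvectors _ _ R hex
  rwa [hR] at this

end main

end Cfsg.Agent.H646.LTN
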