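import Cfsg.Agent.H646.Pims
import Cfsg.Agent.H646.DefectBasic
import Cfsg.Agent.H648.HeightForm
import Cfsg.Agent.Characters.Counting
import Cfsg.Agent.S0907
import Cfsg.Agent.S0908

/-!
# The sum of the squares of the degrees in a block
-/

set_option autoImplicit false
set_option linter.unusedSectionVars false

namespace Cfsg.Agent.H646.DegSum

open Cfsg
open Cfsg.Agent.Blocks.Local
open Cfsg.Agent.H646.RegInner Cfsg.Agent.H646.RankTrace Cfsg.Agent.H646.Pims
open Cfsg.Agent.H645.IdemSys Cfsg.Agent.H646.PrimIdem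
open scoped ComplexConjugate

universe u

variable {G : Type u} [Group G] [Fintype G] {p : ℕ} [Fact p.Prime] {M : Ideal AlgInt}

/-- The block part of the regular character vanishes off the `p`-regular elements. -/
theorem sum_one_mul_eq_zero (hM : IsPModular p M) {B : Set (IrrCharacter G)} (hB : IsPBlock M B)
    [Fintype (IrrCharacter G)] [DecidablePred (· ∈ B)] {y : G} (hy : p ∣ orderOf y) :
    ∑ χ : IrrCharacter G with χ ∈ B, (χ : G → ℂ) 1 * (χ : G → ℂ) y = 0 := by
  have h1 := S0907.result p M hM B hB 1 y (by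
    rw [orderOf_one]; exact fun h => (Fact.out : p.Prime).one_lt.ne' (Nat.dvd_one.1 h)) hy
  rw [H648.HeightForm.finsum_mem_filter] at h1
  have h2 := congrArg conj h1
  rw [map_zero, map_sum] at h2
  rw [← h2]
  refine Finset.sum_congr rfl fun χ _ => ?_
  rw [map_mul, Complex.conj_conj]
  obtain ⟨n, -, hn⟩ := Characters.Core.isIrr_apply_one χ.2
  rw [hn, Complex.conj_natCast]

/-- **The `p`-part of the sum of the squares of the degrees.** -/
theorem not_dvd (hM : IsPModular p M) {B : Set (IrrCharacter G)} (hB : IsPBlock M B)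
    {a d F v : ℕ} (ha : (Nat.card G).factorization p = a) (hd : blockDefect p B = d)
    {u : ℕ} (hF : ∑ᶠ χ ∈ B, charDegree (χ : G → ℂ) ^ 2 = F)
    (hv : F = p ^ (2 * a - d) * u * v) : ¬ p ∣ v := by
  classical
  intro hpv
  have hp : p.Prime := Fact.out
  have hP : M.IsPrime := hM.2.1.isPrime
  have : Finite (IrrCharacter G) := Characters.Core.finite_irr
  have := Fintype.ofFinite (IrrCharacter G)
  rw [H648.HeightForm.finsum_mem_filter] at hF
  have hda : d ≤ a := by
    rw [← ha, ← hd, Blocks.Basic.blockDefect_def]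
    exact Nat.sub_le _ _
  have hp0 : (p : ℂ) ≠ 0 := by exact_mod_cast hp.ne_zero
  have hG0 : (Nat.card G : ℂ) ≠ 0 := by exact_mod_cast Nat.card_pos.ne'
  have hdeg : ∀ χ : IrrCharacter G, (χ : G → ℂ) 1 = (charDegree (χ : G → ℂ) : ℂ) := fun χ =>
    Blocks.Basic.irr_one_eq_charDegree χ.2
  have hne : ∀ χ : IrrCharacter G, (χ : G → ℂ) 1 ≠ 0 := fun χ => by
    obtain ⟨n, hn, hn'⟩ := Characters.Core.isIrr_apply_one χ.2
    rw [hn']
    exact_mod_cast hn.ne'
  have hdvd : ∀ χ : IrrCharacter G, χ ∈ B → p ^ (a - d) ∣ charDegree (χ : G → ℂ) := by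
    intro χ hχ
    have h1 := factorization_le_add (p := p) B hχ
    rw [ha, hd] at h1
    exact (pow_dvd_pow p (by omega)).trans (Nat.ordProj_dvd _ _)
  obtain ⟨ψ, hψ, hψ0⟩ := H648.HeightForm.exists_height_zero hB (p := p)
  set c : IrrCharacter G → ℂ := fun χ => (Nat.card G : ℂ) / (χ : G → ℂ) 1 *
    classInner (pRegularPart p (χ : G → ℂ)) (ψ : G → ℂ) with hc
  have hcψ : ¬ MemLocalIdeal M (c ψ) := H648.HeightForm.scaled_not_mem hM hB hψ hψ0 hψ
  have hcψR : MemLocalRing M (c ψ) := memLocalRing_of_isIntegral (by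
    have := isIntegral_card_div (p := p) ψ ψ
    rw [hc]
    exact this)
  have hcc : ∀ χ : IrrCharacter G, χ ∈ B → MemLocalIdeal M (c χ - c ψ) := fun χ hχ =>
    H648.HeightForm.form_congr (Blocks.Osima.sameBlock_of_mem_of_mem hM hB hχ hψ) ψ
  -- the class function
  have hθ : ∀ g : G, ∑ χ : IrrCharacter G with χ ∈ B,
      (χ : G → ℂ) 1 * (c χ - c ψ) * (χ : G → ℂ) g =
      (Nat.card G : ℂ) * pRegularPart p (ψ : G → ℂ) g -
        c ψ * ∑ χ : IrrCharacter G with χ ∈ B, (χ : G → ℂ) 1 * (χ : G → ℂ) g := by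
    intro g
    have h1 := congrFun (pRegularPart_eq_sum hM hB hψ) g
    rw [Finset.sum_apply] at h1
    rw [h1, Finset.mul_sum, Finset.mul_sum, ← Finset.sum_sub_distrib]
    refine Finset.sum_congr rfl fun χ _ => ?_
    rw [Pi.smul_apply, smul_eq_mul, H648.HeightForm.form_symm, hc]
    have := hne χ
    field_simp
  obtain ⟨P, hP2, hPcard⟩ : ∃ P : Subgroup G, IsPGroup p P ∧
      Nat.card P = p ^ (Nat.card G).factorization p := by
    obtain ⟨P⟩ : Nonempty (Sylow p G) := inferInstance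
    exact ⟨P, P.2, P.card_eq_multiplicity⟩
  have hsum : ∑ x : P, (∑ χ : IrrCharacter G with χ ∈ B,
      (χ : G → ℂ) 1 * (c χ - c ψ) * (χ : G → ℂ) x) = (Nat.card G : ℂ) * (ψ : G → ℂ) 1 - c ψ * F := by
    rw [Finset.sum_eq_single (1 : P)]
    · rw [Subgroup.coe_one, hθ, pRegularPart_of_not_dvd (by
        rw [orderOf_one]; exact fun h => hp.one_lt.ne' (Nat.dvd_one.1 h)), ← hF]
      congr 2
      push_cast
      exact Finset.sum_congr rfl fun χ _ => by rw [hdeg]; ring
    · intro x _ hx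
      have hdx : p ∣ orderOf (x : G) := by
        obtain ⟨k, hk⟩ := (IsPGroup.iff_orderOf.mp hP2) x
        have hk' : orderOf (x : G) = p ^ k := by
          rw [← hk]; exact Subgroup.orderOf_coe x
        rw [hk']
        refine dvd_pow_self p ?_
        rintro rfl
        rw [pow_zero, orderOf_eq_one_iff] at hk
        exact hx hk
      rw [hθ, pRegularPart_of_dvd hdx, sum_one_mul_eq_zero hM hB hdx, mul_zero, mul_zero, sub_zero]
    · intro h
      exact absurd (Finset.mem_univ _) h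
  have hsub : ∀ ψ : IrrCharacter G, ∃ m : ℕ, ∑ x : P, (ψ : G → ℂ) x = (Nat.card P : ℂ) * m := by
    intro ψ
    obtain ⟨m, hm⟩ := Characters.Core.classInner_isNat
      (Characters.Core.isCharacter_comp P.subtype (Blocks.Basic.irr_isCharacter ψ.2))
      (Characters.Core.isCharacter_one (G := P))
    refine ⟨m, ?_⟩
    rw [← hm, Characters.Core.classInner_def, ← mul_assoc,
      mul_inv_cancel₀ Characters.Core.card_ne_zero_complex, one_mul]
    refine Finset.sum_congr rfl fun x _ => ?_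
    simp
  choose m hm using hsub
  set z : ℂ := ∑ χ : IrrCharacter G with χ ∈ B,
    ((charDegree (χ : G → ℂ) / p ^ (a - d) : ℕ) : ℂ) * (c χ - c ψ) * m χ with hz
  have hzM : MemLocalIdeal M z := by
    rw [hz]
    refine memLocalIdeal_sum fun χ hχ => ?_
    exact memLocalIdeal_mul_right (memLocalIdeal_mul_left (memLocalRing_natCast _)
      (hcc χ (Finset.mem_filter.1 hχ).2)) (memLocalRing_natCast _)
  have hsum2 : ∑ x : P, (∑ χ : IrrCharacter G with χ ∈ B,
      (χ : G → ℂ) 1 * (c χ - c ψ) * (χ : G → ℂ) x) =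
      (p : ℂ) ^ a * ((p : ℂ) ^ (a - d) * z) := by
    rw [Finset.sum_comm, hz, Finset.mul_sum, Finset.mul_sum]
    refine Finset.sum_congr rfl fun χ hχ => ?_
    rw [← Finset.mul_sum, hm, hPcard, ha]
    have h1 : (χ : G → ℂ) 1 = (p : ℂ) ^ (a - d) *
        ((charDegree (χ : G → ℂ) / p ^ (a - d) : ℕ) : ℂ) := by
      rw [hdeg]
      conv_lhs => rw [← Nat.mul_div_cancel' (hdvd χ (Finset.mem_filter.1 hχ).2)]
      push_cast
      ring
    rw [h1]
    push_cast
    ring
  -- the valuations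
  obtain ⟨h, hh⟩ : ∃ h, Nat.card G = p ^ a * h := ⟨_, by
    rw [← ha]; exact (Nat.ordProj_mul_ordCompl_eq_self _ _).symm⟩
  have hph : ¬ p ∣ h := by
    intro hdv
    obtain ⟨h', rfl⟩ := hdv
    have h1 : p ^ (a + 1) ∣ Nat.card G := ⟨h', by rw [hh, pow_succ]; ring⟩
    have h2 := (hp.pow_dvd_iff_le_factorization Nat.card_pos.ne').1 h1
    omega
  have hvψ : (charDegree (ψ : G → ℂ)).factorization p = a - d := by
    have := H648.HeightForm.defect_add (p := p) B hψ
    rw [hψ0, ha, hd] at this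
    omega
  obtain ⟨t, ht⟩ := hdvd ψ hψ
  have hpt : ¬ p ∣ t := by
    intro hdv
    obtain ⟨t', rfl⟩ := hdv
    have h1 : p ^ (a - d + 1) ∣ charDegree (ψ : G → ℂ) := ⟨t', by rw [ht, pow_succ]; ring⟩
    have h0 : charDegree (ψ : G → ℂ) ≠ 0 := fun h0 => hne ψ (by rw [hdeg, h0, Nat.cast_zero])
    have h2 := (hp.pow_dvd_iff_le_factorization h0).1 h1
    omega
  rw [hsum2] at hsum
  have hpe : (p : ℂ) ^ (2 * a - d) = (p : ℂ) ^ a * (p : ℂ) ^ (a - d) := by
    rw [← pow_add]
    congr 1
    omega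
  have hfin : (h : ℂ) * t = z + c ψ * (u * v : ℂ) := by
    have h1 : (Nat.card G : ℂ) = (p : ℂ) ^ a * h := by rw [hh]; push_cast; ring
    have h2 : (ψ : G → ℂ) 1 = (p : ℂ) ^ (a - d) * t := by rw [hdeg, ht]; push_cast; ring
    have h3 : (F : ℂ) = (p : ℂ) ^ a * (p : ℂ) ^ (a - d) * u * v := by
      rw [hv]; push_cast; rw [hpe]
    rw [h1, h2, h3] at hsum
    have h4 : (p : ℂ) ^ a * (p : ℂ) ^ (a - d) ≠ 0 :=
      mul_ne_zero (pow_ne_zero _ hp0) (pow_ne_zero _ hp0)
    apply mul_left_cancel₀ h4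
    linear_combination -hsum
  have hmem : MemLocalIdeal M ((h * t : ℕ) : ℂ) := by
    push_cast
    rw [hfin]
    refine memLocalIdeal_add hzM (memLocalIdeal_mul_left hcψR ?_)
    rw [← Nat.cast_mul, memLocalIdeal_natCast_iff hM]
    exact hpv.mul_left _
  rw [memLocalIdeal_natCast_iff hM, hp.dvd_mul] at hmem
  rcases hmem with h1 | h1
  · exact hph h1
  · exact hpt h1

/-- A natural number which is `|G|` times a local integer is divisible by the `p`-part of `|G|`. -/
theorem pow_dvd_of_eq_card_mul (hM : IsPModular p M) {n : ℕ} {c : ℂ} (hc : MemLocalRing M c)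
    (h : (n : ℂ) = (Nat.card G : ℂ) * c) : p ^ (Nat.card G).factorization p ∣ n := by
  have hp : p.Prime := Fact.out
  have hP : M.IsPrime := hM.2.1.isPrime
  have hp0 : (p : ℂ) ≠ 0 := by exact_mod_cast hp.ne_zero
  set a := (Nat.card G).factorization p with ha
  obtain ⟨t, ht⟩ : ∃ t, Nat.card G = p ^ a * t := ⟨_, (Nat.ordProj_mul_ordCompl_eq_self _ _).symm⟩
  have h1 : ((p ^ a : ℕ) : ℂ) * ((t : ℂ) * c) = (n : ℤ) := by
    rw [ht] at h
    push_cast at h ⊢
    rw [h]
    ring
  obtain ⟨k, hk⟩ := exists_int_of_memLocalRing hM h1 (memLocalRing_mul (memLocalRing_natCast _) hc)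
  rw [hk] at h1
  have h2 : (p ^ a : ℤ) * k = n := by exact_mod_cast h1
  have h3 : (p ^ a : ℤ) ∣ (n : ℤ) := ⟨k, h2.symm⟩
  exact_mod_cast h3

/-- **The sum of the squares of the degrees and the `p`-regular rank.** -/
theorem exists_factor (hM : IsPModular p M) {B : Set (IrrCharacter G)} (hB : IsPBlock M B)
    {a k u g : ℕ} (ha : (Nat.card G).factorization p = a) (hg : g = p ^ k * u) (hu : ¬ p ∣ u)
    (hg1 : ∀ χ ∈ B, g ∣ charDegree (χ : G → ℂ)) :
    ∃ v, blockRank p B ≤ v ∧ ∑ᶠ χ ∈ B, charDegree (χ : G → ℂ) ^ 2 = g * (p ^ a * u) * v := by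
  classical
  have hp : p.Prime := Fact.out
  have hP : M.IsPrime := hM.2.1.isPrime
  have : Finite (IrrCharacter G) := Characters.Core.finite_irr
  have := Fintype.ofFinite (IrrCharacter G)
  have hBu : H644.IsUnion M B := H644.isUnion_of_isPBlock hB
  obtain ⟨ι, hι, e, n, he, -, heB, hn, hcomp, hone, hcard, hlin⟩ := exists_pims hM hB hBu
  have hdeg : ∀ χ : IrrCharacter G, (χ : G → ℂ) 1 = (charDegree (χ : G → ℂ) : ℂ) := fun χ =>
    Blocks.Basic.irr_one_eq_charDegree χ.2
  have hg0 : g ≠ 0 := by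
    obtain ⟨ψ, hψ, -⟩ := H648.HeightForm.exists_height_zero hB (p := p)
    rintro rfl
    have h1 := hg1 ψ hψ
    rw [Nat.zero_dvd] at h1
    obtain ⟨n, hn, hn'⟩ := Characters.Core.isIrr_apply_one ψ.2
    rw [hdeg, h1, Nat.cast_zero] at hn'
    exact hn.ne' (by exact_mod_cast hn'.symm)
  have hgC : (g : ℂ) ≠ 0 := by exact_mod_cast hg0
  -- the values
  choose w hw using fun (χ : IrrCharacter G) (i : ι) =>
    exists_nat_val (Blocks.Basic.irr_isCharacter χ.2) (he i)
  have hwB : ∀ χ : IrrCharacter G, χ ∉ B → ∀ i, w χ i = 0 := by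
    intro χ hχ i
    have := val_eq_zero_of_notMem hM hBu (heB i) hχ
    rw [hw] at this
    exact_mod_cast this
  have hdec : ∀ χ : IrrCharacter G, χ ∈ B → charDegree (χ : G → ℂ) = ∑ i, n i * w χ i := by
    intro χ hχ
    have h1 := hone _ (Blocks.Basic.irr_isClassFunction χ.2)
    have h2 := val_blockR_of_mem hM hBu hχ 1
    rw [mul_one, val_one, hdeg] at h2
    rw [h2] at h1
    simp only [hw] at h1
    exact_mod_cast h1
  -- the dimensions
  set P : ι → ℕ := fun i => ∑ χ : IrrCharacter G, charDegree (χ : G → ℂ) * w χ i with hPdef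
  have hPB : ∀ i, P i = ∑ χ : IrrCharacter G with χ ∈ B, charDegree (χ : G → ℂ) * w χ i := by
    intro i
    rw [Finset.sum_filter]
    refine Finset.sum_congr rfl fun χ _ => ?_
    split_ifs with h
    · rfl
    · rw [hwB χ h, mul_zero]
  have hPg : ∀ i, g ∣ P i := by
    intro i
    rw [hPB]
    exact Finset.dvd_sum fun χ hχ => (hg1 χ (Finset.mem_filter.1 hχ).2).mul_right _
  have hPa : ∀ i, p ^ a ∣ P i := by
    intro i
    rw [← ha]
    refine pow_dvd_of_eq_card_mul hM (c := (((e i).coeff 1 : localRing M) : ℂ))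
      ((e i).coeff 1).2 ?_
    rw [hPdef]
    push_cast
    simp only [← hw, ← hdeg, val_apply, Finset.mul_sum]
    rw [Finset.sum_comm, Finset.sum_eq_single (1 : G)]
    · have h1 := Characters.Counting.sum_irr_one_mul (1 : G)
      rw [if_pos rfl] at h1
      rw [← h1, Finset.sum_mul]
      exact Finset.sum_congr rfl fun χ _ => by ring
    · intro g _ hg
      have h1 := Characters.Counting.sum_irr_one_mul g
      rw [if_neg hg] at h1
      have h2 : ∀ χ : IrrCharacter G, (χ : G → ℂ) 1 * (((e i).coeff g : localRing M) *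
          (χ : G → ℂ) g) = ((e i).coeff g : localRing M) * ((χ : G → ℂ) 1 * (χ : G → ℂ) g) :=
        fun χ => by ring
      rw [Finset.sum_congr rfl fun χ _ => h2 χ, ← Finset.mul_sum, h1, mul_zero]
    · exact fun h => absurd (Finset.mem_univ _) h
  have hPdvd : ∀ i, p ^ a * u ∣ P i := by
    intro i
    refine Nat.Coprime.mul_dvd_of_dvd_of_dvd ?_ (hPa i) ?_
    · exact Nat.Coprime.pow_left _ ((hp.coprime_iff_not_dvd).2 hu)
    · exact (hg ▸ Dvd.intro_left (p ^ k) rfl : u ∣ g).trans (hPg i)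
  have hPpos : ∀ i, 0 < P i := by
    intro i
    have h1 := hlin.ne_zero i
    obtain ⟨χ, hχ⟩ := Function.ne_iff.1 h1
    have h2 : w χ i ≠ 0 := by
      intro h0
      apply hχ
      show val (χ : G → ℂ) (e i) = 0
      rw [hw, h0, Nat.cast_zero]
    refine Finset.sum_pos' (fun _ _ => Nat.zero_le _) ⟨χ, Finset.mem_univ _, Nat.mul_pos ?_
      (Nat.pos_of_ne_zero h2)⟩
    obtain ⟨n, hn, hn'⟩ := Characters.Core.isIrr_apply_one χ.2
    rw [hdeg] at hn'
    have : charDegree (χ : G → ℂ) = n := by exact_mod_cast hn'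
    omega
  -- the multiplicities
  have hng : ∀ i, g ∣ n i := by
    set θ : G → ℂ := ∑ χ : IrrCharacter G, ((if χ ∈ B then charDegree (χ : G → ℂ) / g else 0 : ℕ) : ℤ) •
      (χ : G → ℂ) with hθ
    have hin : ∀ χ : IrrCharacter G, classInner θ (χ : G → ℂ) =
        ((if χ ∈ B then charDegree (χ : G → ℂ) / g else 0 : ℕ) : ℂ) := by
      intro χ
      rw [hθ, Characters.Core.classInner_sum_zsmul_irr]
      push_cast
      rfl
    have hgθ : ∀ x : G, (g : ℂ) * θ x =
        ∑ χ : IrrCharacter G with χ ∈ B, (χ : G → ℂ) 1 * (χ : G → ℂ) x := by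
      intro x
      rw [hθ, Finset.sum_apply, Finset.mul_sum, Finset.sum_filter]
      refine Finset.sum_congr rfl fun χ _ => ?_
      rw [Pi.smul_apply, zsmul_eq_mul]
      split_ifs with h
      · rw [hdeg, ← mul_assoc]
        congr 1
        have := Nat.mul_div_cancel' (hg1 χ h)
        conv_rhs => rw [← this]
        push_cast
        rfl
      · simp
    obtain ⟨b, hb⟩ := exists_int_of_vanish hM hBu heB hcomp (θ := θ)
      (Characters.Core.isGeneralizedCharacter_iff.2 ⟨_, hθ⟩) (by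
        intro x hx
        have h1 := hgθ x
        rw [sum_one_mul_eq_zero hM hB (not_not.mp hx)] at h1
        exact (mul_eq_zero.1 h1).resolve_left hgC) (by
        intro χ hχ
        rw [hin, if_neg hχ, Nat.cast_zero])
    have hrel : ∑ i, ((n i : ℂ) - g * b i) • (fun χ : IrrCharacter G => val (χ : G → ℂ) (e i)) =
        0 := by
      funext χ
      rw [Finset.sum_apply]
      simp only [Pi.smul_apply, smul_eq_mul, sub_mul, Finset.sum_sub_distrib]
      by_cases hχ : χ ∈ B
      · have h1 : ∑ i, (n i : ℂ) * val (χ : G → ℂ) (e i) = charDegree (χ : G → ℂ) := by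
          simp only [hw]
          rw [hdec χ hχ]
          push_cast
          rfl
        have h2 : ∑ i, (g : ℂ) * b i * val (χ : G → ℂ) (e i) = charDegree (χ : G → ℂ) := by
          simp only [mul_assoc]
          rw [← Finset.mul_sum, ← hb, hin, if_pos hχ]
          have := Nat.mul_div_cancel' (hg1 χ hχ)
          conv_rhs => rw [← this]
          push_cast
          rfl
        rw [h1, h2, sub_self]
        rfl
      · have h1 : ∀ i, val (χ : G → ℂ) (e i) = 0 := fun i =>
          val_eq_zero_of_notMem hM hBu (heB i) hχ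
        simp [h1]
    have h3 := Fintype.linearIndependent_iff.1 hlin _ hrel
    intro i
    have h4 := sub_eq_zero.1 (h3 i)
    have h5 : (n i : ℤ) = g * b i := by exact_mod_cast h4
    have h6 : (g : ℤ) ∣ n i := ⟨b i, h5⟩
    exact_mod_cast h6
  choose b hb using hng
  choose c hc using hPdvd
  refine ⟨∑ i, b i * c i, ?_, ?_⟩
  · rw [← hcard, ← Finset.card_univ, Finset.card_eq_sum_ones]
    refine Finset.sum_le_sum fun i _ => ?_
    have h1 := hn i
    have h2 := hPpos i
    rw [hb] at h1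
    rw [hc] at h2
    exact Nat.mul_pos (Nat.pos_of_mul_pos_left h1) (Nat.pos_of_mul_pos_left h2)
  · rw [H648.HeightForm.finsum_mem_filter]
    have h1 : ∀ χ ∈ Finset.univ.filter (fun χ : IrrCharacter G => χ ∈ B),
        charDegree (χ : G → ℂ) ^ 2 = ∑ i, n i * (charDegree (χ : G → ℂ) * w χ i) := by
      intro χ hχ
      rw [pow_two]
      conv_lhs => rw [hdec χ (Finset.mem_filter.1 hχ).2]
      rw [Finset.sum_mul]
      conv_rhs => rw [hdec χ (Finset.mem_filter.1 hχ).2]
      exact Finset.sum_congr rfl fun i _ => by ring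
    rw [Finset.sum_congr rfl h1, Finset.sum_comm, Finset.mul_sum]
    refine Finset.sum_congr rfl fun i _ => ?_
    rw [← Finset.mul_sum, ← hPB, hc, hb]
    ring

end Cfsg.Agent.H646.DegSum
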