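import Mathlib
import Cfsg.Agent.ClassicalGeometry.TwoFamilies
import Cfsg.Agent.H892.FixDim

/-!
# Isometries inverting an element without fixed vectors

Let `B` be a nondegenerate symmetric bilinear form on `V`, `dim V = 2 n`, `c` an isometry of finite
order prime to the characteristic with `c² v ≠ v` for all `v ≠ 0`, and `h` an isometry with
`h c h⁻¹ = c⁻¹`. Then `dim ker (h - 1) ≡ n` modulo two.
-/

set_option autoImplicit false

namespace Cfsg.Agent.H646.FSFree

open Module

section Closed

variable {K V : Type*} [Field K] [AddCommGroup V] [Module K V]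

/-- choose one of `ζ`, `ζ⁻¹` -/
def Half (ζ : K) : Prop := WellOrderingRel ζ ζ⁻¹

theorem half_or {ζ : K} (h : ζ ≠ ζ⁻¹) : Half ζ ∨ Half ζ⁻¹ := by
  rcases trichotomous_of (WellOrderingRel (α := K)) ζ ζ⁻¹ with h1 | h1 | h1
  · exact Or.inl h1
  · exact absurd h1 h
  · right
    unfold Half
    rwa [inv_inv]

theorem not_half {ζ : K} (h : Half ζ) (h' : Half ζ⁻¹) : False := by
  unfold Half at h h'
  rw [inv_inv] at h'
  exact asymm_of (WellOrderingRel (α := K)) h h'

/-- eigenvectors with eigenvalue in the half -/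
def W (c : V ≃ₗ[K] V) : Submodule K V := Submodule.span K {v | ∃ ζ : K, Half ζ ∧ c v = ζ • v}

/-- eigenvectors with inverse eigenvalue in the half -/
def W' (c : V ≃ₗ[K] V) : Submodule K V := Submodule.span K {v | ∃ ζ : K, Half ζ ∧ c v = ζ⁻¹ • v}

theorem eig_inv {c h : V ≃ₗ[K] V} (hinv : ∀ v, c (h (c v)) = h v) {ζ : K} {v : V}
    (hv : c v = ζ • v) : c (h v) = ζ⁻¹ • h v := by
  rcases eq_or_ne v 0 with rfl | hv0
  · simp
  have hζ : ζ ≠ 0 := by
    rintro rfl
    rw [zero_smul] at hv
    exact hv0 (c.injective (by rw [hv, map_zero]))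
  have h1 := hinv v
  rw [hv, map_smul, map_smul] at h1
  calc c (h v) = ζ⁻¹ • ζ • c (h v) := by rw [smul_smul, inv_mul_cancel₀ hζ, one_smul]
    _ = ζ⁻¹ • h v := by rw [h1]

theorem eig_inv' {c h : V ≃ₗ[K] V} (hinv : ∀ v, c (h (c v)) = h v) {ζ : K} {v : V}
    (hv : c v = ζ • v) : c (h.symm v) = ζ⁻¹ • h.symm v := by
  refine eig_inv (h := h.symm) (fun w => ?_) hv
  apply h.injective
  rw [LinearEquiv.apply_symm_apply]
  have h1 := hinv (c (h.symm (c w)))
  have h2 : c (h (c (h.symm (c w)))) = c w := by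
    have := hinv (h.symm (c w))
    rw [LinearEquiv.apply_symm_apply] at this
    exact this
  have h3 : h (c (h.symm (c w))) = w := c.injective h2
  exact h3

theorem map_W {c h : V ≃ₗ[K] V} (hinv : ∀ v, c (h (c v)) = h v) {v : V} (hv : v ∈ W c) :
    h v ∈ W' c := by
  have h1 : W c ≤ (W' c).comap (h : V →ₗ[K] V) := by
    refine Submodule.span_le.2 ?_
    rintro w ⟨ζ, hζ, hw⟩
    exact Submodule.subset_span ⟨ζ, hζ, eig_inv hinv hw⟩
  exact h1 hv

theorem map_W' {c h : V ≃ₗ[K] V} (hinv : ∀ v, c (h (c v)) = h v) {v : V} (hv : v ∈ W' c) :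
    h v ∈ W c := by
  have h1 : W' c ≤ (W c).comap (h : V →ₗ[K] V) := by
    refine Submodule.span_le.2 ?_
    rintro w ⟨ζ, hζ, hw⟩
    refine Submodule.subset_span ⟨ζ, hζ, ?_⟩
    have := eig_inv hinv hw
    rwa [inv_inv] at this
  exact h1 hv

theorem symm_inv {c h : V ≃ₗ[K] V} (hinv : ∀ v, c (h (c v)) = h v) (v : V) :
    c (h.symm (c v)) = h.symm v := by
  apply h.injective
  rw [LinearEquiv.apply_symm_apply]
  apply c.injective
  have := hinv (h.symm (c v))
  rw [LinearEquiv.apply_symm_apply] at this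
  exact this

variable (B : LinearMap.BilinForm K V)

theorem iso_W {c : V ≃ₗ[K] V} (hBc : ∀ x y, B (c x) (c y) = B x y) {x y : V} (hx : x ∈ W c)
    (hy : y ∈ W c) : B x y = 0 := by
  unfold W at hx hy
  induction hx, hy using Submodule.span_induction₂ with
  | mem_mem x y hx hy =>
    obtain ⟨ζ, hζ, hx⟩ := hx
    obtain ⟨η, hη, hy⟩ := hy
    have h1 := hBc x y
    rw [hx, hy, map_smul, map_smul, LinearMap.smul_apply, smul_eq_mul, smul_eq_mul] at h1
    by_contra hne
    have h2 : η * ζ = 1 := by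
      have : (η * ζ) * B x y = 1 * B x y := by rw [one_mul, mul_assoc]; exact h1
      exact mul_right_cancel₀ hne this
    have h3 : η = ζ⁻¹ := eq_inv_of_mul_eq_one_left h2
    rw [h3] at hη
    exact not_half hζ hη
  | zero_left y hy => simp
  | zero_right x hx => simp
  | add_left x y z _ _ _ h1 h2 => rw [map_add, LinearMap.add_apply, h1, h2, add_zero]
  | add_right x y z _ _ _ h1 h2 => rw [map_add, h1, h2, add_zero]
  | smul_left r x y _ _ h => rw [map_smul, LinearMap.smul_apply, h, smul_zero]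
  | smul_right r x y _ _ h => rw [map_smul, h, smul_zero]

theorem iso_W' {c : V ≃ₗ[K] V} (hBc : ∀ x y, B (c x) (c y) = B x y) {x y : V} (hx : x ∈ W' c)
    (hy : y ∈ W' c) : B x y = 0 := by
  unfold W' at hx hy
  induction hx, hy using Submodule.span_induction₂ with
  | mem_mem x y hx hy =>
    obtain ⟨ζ, hζ, hx⟩ := hx
    obtain ⟨η, hη, hy⟩ := hy
    have h1 := hBc x y
    rw [hx, hy, map_smul, map_smul, LinearMap.smul_apply, smul_eq_mul, smul_eq_mul] at h1
    by_contra hne
    have h2 : η⁻¹ * ζ⁻¹ = 1 := by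
      have : (η⁻¹ * ζ⁻¹) * B x y = 1 * B x y := by rw [one_mul, mul_assoc]; exact h1
      exact mul_right_cancel₀ hne this
    have h3 : η⁻¹ = ζ := by
      have := eq_inv_of_mul_eq_one_left h2
      rwa [inv_inv] at this
    rw [← h3] at hζ
    exact not_half hη hζ
  | zero_left y hy => simp
  | zero_right x hx => simp
  | add_left x y z _ _ _ h1 h2 => rw [map_add, LinearMap.add_apply, h1, h2, add_zero]
  | add_right x y z _ _ _ h1 h2 => rw [map_add, h1, h2, add_zero]
  | smul_left r x y _ _ h => rw [map_smul, LinearMap.smul_apply, h, smul_zero]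
  | smul_right r x y _ _ h => rw [map_smul, h, smul_zero]

theorem eig_mem {c : V ≃ₗ[K] V} (hfix : ∀ v, c (c v) = v → v = 0) {ζ : K} {v : V}
    (hv : c v = ζ • v) : v ∈ W c ⊔ W' c := by
  rcases eq_or_ne v 0 with rfl | hv0
  · exact Submodule.zero_mem _
  have hζ : ζ ≠ 0 := by
    rintro rfl
    rw [zero_smul] at hv
    exact hv0 (c.injective (by rw [hv, map_zero]))
  have hne : ζ ≠ ζ⁻¹ := by
    intro h
    apply hv0
    apply hfix
    rw [hv, map_smul, hv, smul_smul]
    have : ζ * ζ = 1 := by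
      nth_rewrite 2 [h]
      exact mul_inv_cancel₀ hζ
    rw [this, one_smul]
  rcases half_or hne with h | h
  · exact Submodule.mem_sup_left (Submodule.subset_span ⟨ζ, h, hv⟩)
  · refine Submodule.mem_sup_right (Submodule.subset_span ⟨ζ⁻¹, h, ?_⟩)
    rw [inv_inv]
    exact hv

theorem sup_eq_top [FiniteDimensional K V] [IsAlgClosed K] {c : V ≃ₗ[K] V} (hfix : ∀ v, c (c v) = v → v = 0) {m : ℕ}
    (hm : (m : K) ≠ 0) (hc : c ^ m = 1) : W c ⊔ W' c = ⊤ := by
  have hpow : ∀ k : ℕ, ((c : V →ₗ[K] V) : Module.End K V) ^ k = ((c ^ k : V ≃ₗ[K] V) : V →ₗ[K] V) := by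
    intro k
    induction k with
    | zero => rfl
    | succ k ih => rw [pow_succ, pow_succ, ih]; rfl
  have h1 : Module.End.IsFinitelySemisimple ((c : V →ₗ[K] V) : Module.End K V) := by
    refine Module.End.IsSemisimple.isFinitelySemisimple ?_
    refine Module.End.isSemisimple_of_squarefree_aeval_eq_zero
      (p := (Polynomial.X ^ m - Polynomial.C 1 : Polynomial K)) ?_ ?_
    · exact (Polynomial.separable_X_pow_sub_C (1 : K) hm one_ne_zero).squarefree
    · rw [map_sub, map_pow, Polynomial.aeval_X, Polynomial.aeval_C, map_one, hpow, hc]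
      exact sub_self _
  rw [eq_top_iff, ← Module.End.iSup_maxGenEigenspace_eq_top ((c : V →ₗ[K] V) : Module.End K V)]
  refine iSup_le fun ζ => ?_
  intro v hv
  rw [h1.maxGenEigenspace_eq_eigenspace, Module.End.mem_eigenspace_iff] at hv
  exact eig_mem hfix hv

/-- the isomorphism `w ↦ w + h w` from the fixed points of `h²` in `W` to the fixed points of `h` -/
def emb (c h : V ≃ₗ[K] V) (U : Submodule K (W c)) : U →ₗ[K] V :=
  (LinearMap.id + (h : V →ₗ[K] V)) ∘ₗ (W c).subtype ∘ₗ U.subtype

theorem emb_apply (c h : V ≃ₗ[K] V) (U : Submodule K (W c)) (x : U) :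
    emb c h U x = (x : V) + h (x : V) := rfl

theorem even_closed [FiniteDimensional K V] [IsAlgClosed K] (hsymm : ∀ x y, B x y = B y x)
    (hnd : ∀ x, (∀ y, B x y = 0) → x = 0) (c h : V ≃ₗ[K] V) {m : ℕ} (hm : (m : K) ≠ 0)
    (hc : c ^ m = 1) (hfix : ∀ v, c (c v) = v → v = 0) (hBc : ∀ x y, B (c x) (c y) = B x y)
    (hBh : ∀ x y, B (h x) (h y) = B x y) (hinv : ∀ v, c (h (c v)) = h v) {n : ℕ}
    (hn : finrank K V = 2 * n) :
    Even (finrank K (LinearMap.ker ((h : V →ₗ[K] V) - LinearMap.id)) + n) := by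
  have hsup := sup_eq_top hfix hm hc
  have hdisj : W c ⊓ W' c = ⊥ := by
    rw [eq_bot_iff]
    rintro x ⟨hx, hx'⟩
    apply hnd
    intro y
    have hy : y ∈ W c ⊔ W' c := by rw [hsup]; trivial
    obtain ⟨a, ha, b, hb, rfl⟩ := Submodule.mem_sup.1 hy
    rw [map_add, iso_W B hBc hx ha, iso_W' B hBc hx' hb, add_zero]
  have hdim : finrank K (W c) + finrank K (W' c) = 2 * n := by
    have := Submodule.finrank_sup_add_finrank_inf_eq (W c) (W' c)
    rw [hsup, hdisj, finrank_top, finrank_bot, add_zero, hn] at this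
    exact this.symm
  have hle : finrank K (W c) ≤ finrank K (W' c) := by
    let φ : W c →ₗ[K] W' c := (h : V →ₗ[K] V).restrict (fun v hv => map_W hinv hv)
    refine LinearMap.finrank_le_finrank_of_injective (f := φ) ?_
    intro x y hxy
    exact Subtype.ext (h.injective (congrArg Subtype.val hxy))
  have hle' : finrank K (W' c) ≤ finrank K (W c) := by
    let φ : W' c →ₗ[K] W c := (h : V →ₗ[K] V).restrict (fun v hv => map_W' hinv hv)
    refine LinearMap.finrank_le_finrank_of_injective (f := φ) ?_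
    intro x y hxy
    exact Subtype.ext (h.injective (congrArg Subtype.val hxy))
  have hW : finrank K (W c) = n := by omega
  -- the alternating form
  let A : LinearMap.BilinForm K (W c) :=
    (B.compl₁₂ (W c).subtype ((h : V →ₗ[K] V) ∘ₗ (W c).subtype)) -
      (B.compl₁₂ (W c).subtype ((h : V →ₗ[K] V) ∘ₗ (W c).subtype)).flip
  have hA : ∀ x y : W c, A x y = B x (h y) - B y (h x) := fun x y => rfl
  have hAlt : A.IsAlt := fun x => by rw [hA, sub_self]
  obtain ⟨k, hk⟩ := Cfsg.Agent.ClassicalGeometry.TwoFamilies.exists_finrank_eq_ker_add A hAlt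
  have hmem : ∀ x : W c, x ∈ LinearMap.ker A ↔ h (h x) = (x : V) := by
    intro x
    rw [LinearMap.mem_ker]
    constructor
    · intro hx
      have h1 : ∀ y ∈ W c, B (h y) (x - h (h x)) = 0 := by
        intro y hy
        have h2 : A x ⟨y, hy⟩ = 0 := by rw [hx]; rfl
        rw [hA] at h2
        rw [map_sub, hsymm (h y) x, hBh]
        exact h2
      have h2 : ((x : V) - h (h x)) = 0 := by
        apply hnd
        intro y
        rw [hsymm]
        have hy : y ∈ W c ⊔ W' c := by rw [hsup]; trivial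
        obtain ⟨a, ha, b, hb, rfl⟩ := Submodule.mem_sup.1 hy
        have h3 : (x : V) - h (h x) ∈ W c := Submodule.sub_mem _ x.2 (map_W' hinv (map_W hinv x.2))
        have h4 : h.symm b ∈ W c := by
          exact map_W' (h := h.symm) (symm_inv hinv) hb
        have h5 := h1 _ h4
        rw [LinearEquiv.apply_symm_apply] at h5
        rw [map_add, LinearMap.add_apply, iso_W B hBc ha h3, h5, add_zero]
      exact (sub_eq_zero.1 h2).symm
    · intro hx
      ext y
      show A x y = 0
      rw [hA, sub_eq_zero]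
      calc B x (h y) = B (h (h x)) (h y) := by rw [hx]
        _ = B (h x) y := hBh _ _
        _ = B y (h x) := hsymm _ _
  have hker : finrank K (LinearMap.ker A) =
      finrank K (LinearMap.ker ((h : V →ₗ[K] V) - LinearMap.id)) := by
    have hinj : Function.Injective (emb c h (LinearMap.ker A)) := by
      rw [← LinearMap.ker_eq_bot, eq_bot_iff]
      intro x hx
      rw [LinearMap.mem_ker, emb_apply] at hx
      have h1 : ((x : W c) : V) = - h (x : V) := eq_neg_of_add_eq_zero_left hx
      have h2 : ((x : W c) : V) ∈ W c ⊓ W' c := ⟨x.1.2, by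
        rw [h1]; exact Submodule.neg_mem _ (map_W hinv x.1.2)⟩
      rw [hdisj, Submodule.mem_bot] at h2
      exact Subtype.ext (Subtype.ext h2)
    rw [← LinearMap.finrank_range_of_inj hinj]
    have hrange : LinearMap.range (emb c h (LinearMap.ker A)) =
        LinearMap.ker ((h : V →ₗ[K] V) - LinearMap.id) := ?_
    · rw [hrange]
    ext v
    rw [LinearMap.mem_range, LinearMap.mem_ker, LinearMap.sub_apply, sub_eq_zero]
    constructor
    · rintro ⟨x, rfl⟩
      have h1 := (hmem _).1 x.2
      show h (emb c h _ x) = emb c h _ x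
      rw [emb_apply, map_add, h1, add_comm]
    · intro hv
      have hv' : h v = v := hv
      have hy : v ∈ W c ⊔ W' c := by rw [hsup]; trivial
      obtain ⟨a, ha, b, hb, rfl⟩ := Submodule.mem_sup.1 hy
      have h1 : h b - a = b - h a := by
        rw [map_add] at hv'
        have : h b - a = (h a + h b) - a - h a := by abel
        rw [this, hv']
        abel
      have h2 : h b - a ∈ W c ⊓ W' c := ⟨Submodule.sub_mem _ (map_W' hinv hb) ha, by
        rw [h1]; exact Submodule.sub_mem _ hb (map_W hinv ha)⟩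
      rw [hdisj, Submodule.mem_bot] at h2
      have h3 : h b = a := sub_eq_zero.1 h2
      have h4 : b = h a := by rw [h2] at h1; exact (sub_eq_zero.1 h1.symm)
      refine ⟨⟨⟨a, ha⟩, (hmem _).2 (by show h (h a) = a; rw [← h4, h3])⟩, ?_⟩
      rw [emb_apply]
      show a + h a = a + b
      rw [← h4]
  rw [hW, hker] at hk
  rw [hk]
  exact ⟨finrank K (LinearMap.ker ((h : V →ₗ[K] V) - LinearMap.id)) + k, by ring⟩

end Closed

section General

variable {F V : Type*} [Field F] [AddCommGroup V] [Module F V] [FiniteDimensional F V]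

open scoped TensorProduct

/-- **Isometries inverting an element without fixed vectors**. -/
theorem even_fix (B : LinearMap.BilinForm F V) (hsymm : ∀ x y, B x y = B y x)
    (hnd : ∀ x, (∀ y, B x y = 0) → x = 0) (c h : V ≃ₗ[F] V) {m : ℕ} (hm : (m : F) ≠ 0)
    (hc : c ^ m = 1) (hfix : ∀ v, c (c v) = v → v = 0) (hBc : ∀ x y, B (c x) (c y) = B x y)
    (hBh : ∀ x y, B (h x) (h y) = B x y) (hinv : ∀ v, c (h (c v)) = h v) {n : ℕ}
    (hn : finrank F V = 2 * n) :
    Even (finrank F (LinearMap.ker ((h : V →ₗ[F] V) - LinearMap.id)) + n) := by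
  let K := AlgebraicClosure F
  let c' : (K ⊗[F] V) ≃ₗ[K] (K ⊗[F] V) := c.baseChange F K V V
  let h' : (K ⊗[F] V) ≃ₗ[K] (K ⊗[F] V) := h.baseChange F K V V
  let B' : LinearMap.BilinForm K (K ⊗[F] V) := B.baseChange K
  have hc' : ∀ (a : K) (v : V), c' (a ⊗ₜ v) = a ⊗ₜ (c v) := fun a v => rfl
  have hh' : ∀ (a : K) (v : V), h' (a ⊗ₜ v) = a ⊗ₜ (h v) := fun a v => rfl
  have hB' : ∀ (a b : K) (v w : V), B' (a ⊗ₜ v) (b ⊗ₜ w) = B v w • (a * b) :=
    fun a b v w => rfl
  have hiso : ∀ (g : V ≃ₗ[F] V), (∀ x y, B (g x) (g y) = B x y) → ∀ x y : K ⊗[F] V,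
      B' (g.baseChange F K V V x) (g.baseChange F K V V y) = B' x y := by
    intro g hg x y
    induction x with
    | zero => simp
    | add x₁ x₂ h₁ h₂ => rw [map_add, map_add, LinearMap.add_apply, h₁, h₂, map_add,
        LinearMap.add_apply]
    | tmul a v =>
      induction y with
      | zero => simp
      | add y₁ y₂ h₁ h₂ => rw [map_add, map_add, h₁, h₂, map_add]
      | tmul b w =>
        show B (g v) (g w) • (a * b) = B v w • (a * b)
        rw [hg]
  have hsymm' : ∀ x y, B' x y = B' y x := by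
    intro x y
    induction x with
    | zero => simp
    | add x₁ x₂ h₁ h₂ => rw [map_add, map_add, LinearMap.add_apply, h₁, h₂]
    | tmul a v =>
      induction y with
      | zero => simp
      | add y₁ y₂ h₁ h₂ => rw [map_add, map_add, LinearMap.add_apply, h₁, h₂]
      | tmul b w =>
        show B v w • (a * b) = B w v • (b * a)
        rw [hsymm, mul_comm]
  have hnd' : ∀ x, (∀ y, B' x y = 0) → x = 0 := by
    intro x hx
    have hBn : B.Nondegenerate := ⟨hnd, fun y hy => hnd y fun x => by rw [hsymm]; exact hy x⟩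
    let b := Module.finBasis F V
    let d := B.dualBasis hBn b
    have hd : ∀ i j, B (b i) (d j) = if i = j then 1 else 0 := by
      intro i j
      rw [hsymm]
      exact LinearMap.BilinForm.apply_dualBasis_left hBn b j i
    let b' := Algebra.TensorProduct.basis K b
    have hb' : ∀ i, b' i = 1 ⊗ₜ b i := fun i => Algebra.TensorProduct.basis_apply b i
    have h1 : ∀ j, b'.repr x j = 0 := by
      intro j
      have h2 := hx (1 ⊗ₜ d j)
      rw [← b'.sum_repr x, map_sum, LinearMap.sum_apply, Finset.sum_eq_single j] at h2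
      · rw [map_smul, LinearMap.smul_apply, hb', hB', hd, if_pos rfl, one_smul, mul_one,
          smul_eq_mul, mul_one] at h2
        exact h2
      · intro i _ hij
        rw [map_smul, LinearMap.smul_apply, hb', hB', hd, if_neg hij, zero_smul, smul_zero]
      · intro h
        exact absurd (Finset.mem_univ j) h
    rw [← b'.sum_repr x]
    exact Finset.sum_eq_zero fun j _ => by rw [h1, zero_smul]
  have hfix' : ∀ v, c' (c' v) = v → v = 0 := by
    intro v hv
    have h1 := H892.FixDim.fx_baseChange K ((c : V →ₗ[F] V) ∘ₗ (c : V →ₗ[F] V))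
    have h2 : H892.FixDim.fx ((c : V →ₗ[F] V) ∘ₗ (c : V →ₗ[F] V)) = 0 := by
      rw [H892.FixDim.fx]
      have : LinearMap.ker ((c : V →ₗ[F] V) ∘ₗ (c : V →ₗ[F] V) - 1) = ⊥ := by
        rw [eq_bot_iff]
        intro w hw
        rw [H892.FixDim.mem_ker_sub_one] at hw
        exact hfix w hw
      rw [this, finrank_bot]
    rw [h2, H892.FixDim.fx, Submodule.finrank_eq_zero] at h1
    have h3 : v ∈ LinearMap.ker (((c : V →ₗ[F] V) ∘ₗ (c : V →ₗ[F] V)).baseChange K - 1) := by
      rw [H892.FixDim.mem_ker_sub_one, LinearMap.baseChange_comp]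
      exact hv
    rw [h1, Submodule.mem_bot] at h3
    exact h3
  have hc'm : c' ^ m = 1 := by
    have h1 : ∀ k : ℕ, ∀ (a : K) (v : V), (c' ^ k) (a ⊗ₜ v) = a ⊗ₜ ((c ^ k) v) := by
      intro k
      induction k with
      | zero => intro a v; rfl
      | succ k ih => intro a v; rw [pow_succ, pow_succ]; exact ih a (c v)
    apply LinearEquiv.ext
    intro x
    induction x with
    | zero => simp
    | add x y hx hy => rw [map_add, map_add, hx, hy]
    | tmul a v => rw [h1, hc]; rfl
  have hinv' : ∀ v, c' (h' (c' v)) = h' v := by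
    intro x
    induction x with
    | zero => simp
    | add x y hx hy => rw [map_add, map_add, map_add, map_add, hx, hy]
    | tmul a v => rw [hc', hh', hc', hinv, hh']
  have hn' : finrank K (K ⊗[F] V) = 2 * n := by rw [Module.finrank_baseChange, hn]
  have hm' : (m : K) ≠ 0 := by
    intro h0
    apply hm
    have : algebraMap F K (m : F) = 0 := by rw [map_natCast]; exact h0
    exact (map_eq_zero _).1 this
  have key := even_closed B' hsymm' hnd' c' h' hm' hc'm hfix' (hiso c hBc) (hiso h hBh) hinv' hn'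
  have h1 := H892.FixDim.fx_baseChange K (h : V →ₗ[F] V)
  have h2 : finrank K (LinearMap.ker ((h' : (K ⊗[F] V) →ₗ[K] (K ⊗[F] V)) - LinearMap.id)) =
      finrank F (LinearMap.ker ((h : V →ₗ[F] V) - LinearMap.id)) := h1
  rwa [h2] at key

end General

end Cfsg.Agent.H646.FSFree
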