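import Mathlib
import Cfsg.Agent.LieClassical.OrthCore
import Cfsg.Agent.H646.FSFree

/-!
# Inverting isometries with a prescribed Dickson invariant

`fxd h = dim ker (h - 1)`.  If every isometry of `2`-power order is inverted by one with
`fxd ≡ n` (`dim V = 2 n`) and every isometry is inverted by an isometry, then every isometry is
inverted by one with `fxd ≡ n` modulo two.
-/

set_option autoImplicit false

namespace Cfsg.Agent.H646.FSGlue

open Module QuadraticMap
open Cfsg.Agent.LieClassical.OrthCore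

variable {F V : Type*} [Field F] [AddCommGroup V] [Module F V]

/-- the dimension of the fixed space -/
noncomputable def fxd (h : V ≃ₗ[F] V) : ℕ :=
  finrank F (LinearMap.ker ((h : V →ₗ[F] V) - LinearMap.id))

theorem mem_ker_sub_id {h : V ≃ₗ[F] V} {v : V} :
    v ∈ LinearMap.ker ((h : V →ₗ[F] V) - LinearMap.id) ↔ h v = v := by
  rw [LinearMap.mem_ker, LinearMap.sub_apply, sub_eq_zero]
  rfl

/-- restriction to an invariant subspace -/
def restr (g : V ≃ₗ[F] V) (W : Submodule F V) (h : ∀ v ∈ W, g v ∈ W)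
    (h' : ∀ v ∈ W, g.symm v ∈ W) : W ≃ₗ[F] W :=
  LinearEquiv.ofLinearMap ((g : V →ₗ[F] V).restrict h) ((g.symm : V →ₗ[F] V).restrict h')
    (by
      ext v
      exact g.apply_symm_apply _)
    (by
      ext v
      exact g.symm_apply_apply _)

theorem restr_apply (g : V ≃ₗ[F] V) (W : Submodule F V) (h : ∀ v ∈ W, g v ∈ W)
    (h' : ∀ v ∈ W, g.symm v ∈ W) (v : W) : ((restr g W h h' v : W) : V) = g v := rfl

section Glue

variable {W₀ W₁ : Submodule F V} (hc : IsCompl W₀ W₁)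

/-- gluing of two automorphisms -/
noncomputable def glue (h₀ : W₀ ≃ₗ[F] W₀) (h₁ : W₁ ≃ₗ[F] W₁) : V ≃ₗ[F] V :=
  ((Submodule.prodEquivOfIsCompl W₀ W₁ hc).symm.trans (h₀.prodCongr h₁)).trans
    (Submodule.prodEquivOfIsCompl W₀ W₁ hc)

theorem glue_add (h₀ : W₀ ≃ₗ[F] W₀) (h₁ : W₁ ≃ₗ[F] W₁) (x : W₀) (y : W₁) :
    glue hc h₀ h₁ ((x : V) + y) = (h₀ x : V) + h₁ y := by
  have h1 : (Submodule.prodEquivOfIsCompl W₀ W₁ hc).symm ((x : V) + y) = (x, y) := by
    rw [LinearEquiv.symm_apply_eq]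
    rfl
  unfold glue
  rw [LinearEquiv.trans_apply, LinearEquiv.trans_apply, h1]
  rfl

include hc in
theorem exists_eq_add (v : V) : ∃ (x : W₀) (y : W₁), v = (x : V) + y := by
  have h1 : v ∈ W₀ ⊔ W₁ := by rw [hc.sup_eq_top]; trivial
  obtain ⟨x, hx, y, hy, rfl⟩ := Submodule.mem_sup.1 h1
  exact ⟨⟨x, hx⟩, ⟨y, hy⟩, rfl⟩

theorem finrank_ker_prod {A B : Type*} [AddCommGroup A] [Module F A] [AddCommGroup B] [Module F B]
    [FiniteDimensional F A] [FiniteDimensional F B] (f : A →ₗ[F] A) (g : B →ₗ[F] B) :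
    finrank F (LinearMap.ker (f.prodMap g)) = finrank F (LinearMap.ker f) + finrank F (LinearMap.ker g) := by
  rw [← Module.finrank_prod]
  refine LinearEquiv.finrank_eq ?_
  exact
    { toFun := fun x => (⟨x.1.1, congrArg Prod.fst x.2⟩, ⟨x.1.2, congrArg Prod.snd x.2⟩)
      map_add' := fun x y => rfl
      map_smul' := fun r x => rfl
      invFun := fun x => ⟨(x.1.1, x.2.1), Prod.ext x.1.2 x.2.2⟩
      left_inv := fun x => rfl
      right_inv := fun x => rfl }

theorem fxd_glue [FiniteDimensional F V] (h₀ : W₀ ≃ₗ[F] W₀) (h₁ : W₁ ≃ₗ[F] W₁) :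
    fxd (glue hc h₀ h₁) = fxd h₀ + fxd h₁ := by
  unfold fxd
  rw [← finrank_ker_prod]
  refine LinearEquiv.finrank_eq ?_
  refine (LinearEquiv.ofSubmodules (Submodule.prodEquivOfIsCompl W₀ W₁ hc) _ _ ?_).symm
  ext v
  rw [Submodule.mem_map, mem_ker_sub_id]
  constructor
  · rintro ⟨⟨x, y⟩, hxy, rfl⟩
    rw [LinearMap.ker_prodMap, Submodule.mem_prod, mem_ker_sub_id, mem_ker_sub_id] at hxy
    show glue hc h₀ h₁ ((x : V) + y) = (x : V) + y
    rw [glue_add, hxy.1, hxy.2]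
  · intro hv
    obtain ⟨x, y, rfl⟩ := exists_eq_add hc v
    refine ⟨(x, y), ?_, rfl⟩
    rw [glue_add] at hv
    have h1 : Submodule.prodEquivOfIsCompl W₀ W₁ hc (h₀ x, h₁ y) =
        Submodule.prodEquivOfIsCompl W₀ W₁ hc (x, y) := hv
    have h2 := (Submodule.prodEquivOfIsCompl W₀ W₁ hc).injective h1
    rw [LinearMap.ker_prodMap, Submodule.mem_prod, mem_ker_sub_id, mem_ker_sub_id]
    exact ⟨congrArg Prod.fst h2, congrArg Prod.snd h2⟩

end Glue

/-! ### Powers and conjugation -/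

theorem apply_pow_mem {g : V ≃ₗ[F] V} {W : Submodule F V} (h : ∀ v ∈ W, g v ∈ W) (k : ℕ) :
    ∀ v ∈ W, (g ^ k) v ∈ W := by
  induction k with
  | zero => intro v hv; exact hv
  | succ k ih => intro v hv; rw [pow_succ]; exact ih _ (h v hv)

theorem restr_pow (g : V ≃ₗ[F] V) (W : Submodule F V) (h : ∀ v ∈ W, g v ∈ W)
    (h' : ∀ v ∈ W, g.symm v ∈ W) (k : ℕ) (v : W) :
    (((restr g W h h') ^ k) v : V) = (g ^ k) v := by
  induction k generalizing v with
  | zero => rfl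
  | succ k ih =>
    rw [pow_succ, pow_succ]
    exact ih (restr g W h h' v)

variable (Q : QuadraticForm F V)

/-- the restriction of a quadratic form to a subspace -/
def qr (W : Submodule F V) : QuadraticForm F W := Q.comp W.subtype

theorem qr_apply (W : Submodule F V) (x : W) : qr Q W x = Q x := rfl

theorem polar_qr (W : Submodule F V) (x y : W) : polar (qr Q W) x y = polar Q x y := rfl

variable {Q}

theorem nondeg_qr (hQ : Nondeg Q) {W₀ W₁ : Submodule F V} (hc : IsCompl W₀ W₁)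
    (hort : ∀ x ∈ W₀, ∀ y ∈ W₁, polar Q x y = 0) : Nondeg (qr Q W₀) := by
  intro x hx
  apply Subtype.ext
  apply hQ
  intro v
  obtain ⟨a, b, rfl⟩ := exists_eq_add hc v
  rw [QuadraticMap.polar_add_right, hort x x.2 b b.2, add_zero]
  exact hx a

theorem restr_mem_O {g : V ≃ₗ[F] V} (hg : g ∈ O Q) {W : Submodule F V} (h : ∀ v ∈ W, g v ∈ W)
    (h' : ∀ v ∈ W, g.symm v ∈ W) : restr g W h h' ∈ O (qr Q W) := fun v => hg v

theorem glue_mem_O {W₀ W₁ : Submodule F V} (hc : IsCompl W₀ W₁)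
    (hort : ∀ x ∈ W₀, ∀ y ∈ W₁, polar Q x y = 0) {h₀ : W₀ ≃ₗ[F] W₀} {h₁ : W₁ ≃ₗ[F] W₁}
    (h0 : h₀ ∈ O (qr Q W₀)) (h1 : h₁ ∈ O (qr Q W₁)) : glue hc h₀ h₁ ∈ O Q := by
  intro v
  obtain ⟨x, y, rfl⟩ := exists_eq_add hc v
  rw [glue_add, Q_add, Q_add, hort x x.2 y y.2, hort _ (h₀ x).2 _ (h₁ y).2]
  have e0 := h0 x
  have e1 := h1 y
  rw [qr_apply, qr_apply] at e0 e1
  rw [e0, e1]

/-- conjugation, elementwise: `h g h⁻¹ = g⁻¹` iff `g (h (g v)) = h v` -/
theorem conj_iff {g h : V ≃ₗ[F] V} : h * g * h⁻¹ = g⁻¹ ↔ ∀ v, g (h (g v)) = h v := by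
  constructor
  · intro e v
    have h1 : g * h * g = h := by
      have : h * g = g⁻¹ * h := by rw [← e]; group
      calc g * h * g = g * (h * g) := by group
        _ = g * (g⁻¹ * h) := by rw [this]
        _ = h := by group
    exact LinearEquiv.congr_fun h1 v
  · intro e
    have h1 : g * h * g = h := LinearEquiv.ext e
    calc h * g * h⁻¹ = g⁻¹ * (g * h * g) * h⁻¹ := by group
      _ = g⁻¹ := by rw [h1]; group

theorem inv_pow_of {g h : V ≃ₗ[F] V} (e : h * g * h⁻¹ = g⁻¹) (k : ℕ) :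
    h * g ^ k * h⁻¹ = (g ^ k)⁻¹ := by
  rw [← conj_pow, e, inv_pow]

section Split

variable [FiniteDimensional F V]

/-- the fixed space of an element of finite order prime to the characteristic has an invariant
complement -/
theorem isCompl_ker_range (c : V ≃ₗ[F] V) {m : ℕ} (hm : (m : F) ≠ 0) (hc : c ^ m = 1) :
    IsCompl (LinearMap.ker ((c : V →ₗ[F] V) - LinearMap.id))
      (LinearMap.range ((c : V →ₗ[F] V) - LinearMap.id)) := by
  have hdim := LinearMap.finrank_range_add_finrank_ker ((c : V →ₗ[F] V) - LinearMap.id)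
  rw [Submodule.isCompl_iff_disjoint _ _ (by omega), Submodule.disjoint_def]
  rintro v hv ⟨w, hw⟩
  rw [mem_ker_sub_id] at hv
  have hw' : c w = w + v := by
    rw [← hw]
    show c w = w + (c w - w)
    abel
  have h1 : ∀ k : ℕ, (c ^ k) w = w + k • v := by
    intro k
    induction k with
    | zero => simp
    | succ k ih =>
      rw [pow_succ']
      show c ((c ^ k) w) = _
      rw [ih, map_add, map_nsmul, hw', hv, succ_nsmul]
      abel
  have h2 := h1 m
  rw [hc] at h2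
  have h3 : m • v = 0 := by
    have : w = w + m • v := h2
    exact left_eq_add.1 this
  rw [← Nat.cast_smul_eq_nsmul F] at h3
  exact (smul_eq_zero.1 h3).resolve_left hm

omit [FiniteDimensional F V] in
theorem polar_ker_range {c : V ≃ₗ[F] V} (hcQ : c ∈ O Q) {x y : V}
    (hx : x ∈ LinearMap.ker ((c : V →ₗ[F] V) - LinearMap.id))
    (hy : y ∈ LinearMap.range ((c : V →ₗ[F] V) - LinearMap.id)) : polar Q x y = 0 := by
  obtain ⟨w, rfl⟩ := hy
  rw [mem_ker_sub_id] at hx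
  show polar Q x (c w - w) = 0
  rw [QuadraticMap.polar_sub_right]
  nth_rewrite 1 [← hx]
  rw [polar_map hcQ, sub_self]

theorem even_finrank_of_nondeg [CharP F 2] (hQ : Nondeg Q) : ∃ n : ℕ, finrank F V = 2 * n := by
  obtain ⟨m, hm⟩ := Cfsg.Agent.ClassicalGeometry.TwoFamilies.exists_finrank_eq_ker_add
    (polarBilin Q) (fun x => by
      show polar Q x x = 0
      rw [polar_self', CharTwo.two_eq_zero, zero_mul])
  have hker : LinearMap.ker (polarBilin Q) = ⊥ := by
    rw [eq_bot_iff]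
    intro x hx
    rw [LinearMap.mem_ker] at hx
    exact hQ x fun y => LinearMap.congr_fun hx y
  rw [hker, finrank_bot, zero_add] at hm
  exact ⟨m, by rw [hm]; ring⟩

/-- **Inverting isometries with the right Dickson invariant** -/
theorem exists_inv [Finite F] [CharP F 2] (hQ : Nondeg Q) {n : ℕ} (hn : finrank F V = 2 * n)
    (huni : ∀ (W : Submodule F V) (n₀ : ℕ), Nondeg (qr Q W) → finrank F W = 2 * n₀ →
      ∀ p ∈ O (qr Q W), ∀ a : ℕ, p ^ 2 ^ a = 1 →
      ∃ h ∈ O (qr Q W), h * p * h⁻¹ = p⁻¹ ∧ Even (fxd h + n₀))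
    (hreal : ∀ (W : Submodule F V), Nondeg (qr Q W) → ∀ g ∈ O (qr Q W),
      ∃ h ∈ O (qr Q W), h * g * h⁻¹ = g⁻¹)
    {g : V ≃ₗ[F] V} (hg : g ∈ O Q) :
    ∃ h ∈ O Q, h * g * h⁻¹ = g⁻¹ ∧ Even (fxd h + n) := by
  have hfinV : Finite V := Module.finite_of_finite F
  have hfinE : Finite (V ≃ₗ[F] V) :=
    Finite.of_injective (fun e : V ≃ₗ[F] V => (e : V → V)) DFunLike.coe_injective
  have hN : orderOf g ≠ 0 := (orderOf_pos g).ne'
  obtain ⟨a, m, hmodd, hNm⟩ := Nat.exists_eq_two_pow_mul_odd hN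
  set c := g ^ 2 ^ a with hcdef
  have hcm : c ^ m = 1 := by rw [hcdef, ← pow_mul, ← hNm, pow_orderOf_eq_one]
  have hmF : (m : F) ≠ 0 := by
    intro h0
    rw [CharP.cast_eq_zero_iff F 2] at h0
    exact (Nat.not_even_iff_odd.2 hmodd) (even_iff_two_dvd.2 h0)
  have hcO : c ∈ O Q := Subgroup.pow_mem _ hg _
  have hcomm : ∀ v, g (c v) = c (g v) := by
    intro v
    have : g * c = c * g := by rw [hcdef, ← pow_succ, ← pow_succ']
    exact LinearEquiv.congr_fun this v
  have hcomm' : ∀ v, g.symm (c v) = c (g.symm v) := by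
    intro v
    rw [LinearEquiv.symm_apply_eq, hcomm, LinearEquiv.apply_symm_apply]
  set W₀ := LinearMap.ker ((c : V →ₗ[F] V) - LinearMap.id) with hW₀
  set W₁ := LinearMap.range ((c : V →ₗ[F] V) - LinearMap.id) with hW₁
  have hcompl : IsCompl W₀ W₁ := isCompl_ker_range c hmF hcm
  have hort : ∀ x ∈ W₀, ∀ y ∈ W₁, polar Q x y = 0 := fun x hx y hy => polar_ker_range hcO hx hy
  have hort' : ∀ x ∈ W₁, ∀ y ∈ W₀, polar Q x y = 0 := fun x hx y hy => by
    rw [polar_comm]; exact hort y hy x hx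
  have hg0 : ∀ v ∈ W₀, g v ∈ W₀ := by
    intro v hv
    rw [hW₀, mem_ker_sub_id] at hv ⊢
    rw [← hcomm, hv]
  have hg0' : ∀ v ∈ W₀, g.symm v ∈ W₀ := by
    intro v hv
    rw [hW₀, mem_ker_sub_id] at hv ⊢
    rw [← hcomm', hv]
  have hg1 : ∀ v ∈ W₁, g v ∈ W₁ := by
    rintro v ⟨w, rfl⟩
    refine ⟨g w, ?_⟩
    show c (g w) - g w = g (c w - w)
    rw [map_sub, hcomm]
  have hg1' : ∀ v ∈ W₁, g.symm v ∈ W₁ := by
    rintro v ⟨w, rfl⟩
    refine ⟨g.symm w, ?_⟩
    show c (g.symm w) - g.symm w = g.symm (c w - w)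
    rw [map_sub, hcomm']
  set g₀ := restr g W₀ hg0 hg0' with hg₀
  set g₁ := restr g W₁ hg1 hg1' with hg₁
  have hQ0 : Nondeg (qr Q W₀) := nondeg_qr hQ hcompl hort
  have hQ1 : Nondeg (qr Q W₁) := nondeg_qr hQ hcompl.symm hort'
  obtain ⟨n₀, hn₀⟩ := even_finrank_of_nondeg hQ0
  obtain ⟨n₁, hn₁⟩ := even_finrank_of_nondeg hQ1
  have hnn : n = n₀ + n₁ := by
    have := Submodule.finrank_add_eq_of_isCompl hcompl
    omega
  obtain ⟨h₀, h0O, h0inv, h0D⟩ := huni W₀ n₀ hQ0 hn₀ g₀ (restr_mem_O hg hg0 hg0') a (by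
    apply LinearEquiv.ext
    intro v
    apply Subtype.ext
    rw [restr_pow]
    have hv : c (v : V) = v := mem_ker_sub_id.1 v.2
    exact hv)
  obtain ⟨h₁, h1O, h1inv⟩ := hreal W₁ hQ1 g₁ (restr_mem_O hg hg1 hg1')
  have h1D : Even (fxd h₁ + n₁) := by
    have hpow := inv_pow_of h1inv (2 ^ a)
    have hval : ∀ v : W₁, (((g₁ ^ 2 ^ a) v : W₁) : V) = c v := fun v => restr_pow g W₁ hg1 hg1' _ v
    refine FSFree.even_fix (polarBilin (qr Q W₁)) (fun x y => polar_comm _ _ _)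
      (fun x hx => hQ1 x hx) (g₁ ^ 2 ^ a) h₁ hmF ?_ ?_ ?_ ?_ (conj_iff.1 hpow) hn₁
    · rw [← pow_mul, ← hNm]
      apply LinearEquiv.ext
      intro v
      apply Subtype.ext
      rw [restr_pow, pow_orderOf_eq_one]
      rfl
    · intro v hv
      -- `c² v = v`, `c` of odd order
      have h1 : c (c v) = v := by
        have h2 := congrArg Subtype.val hv
        rw [hval, hval] at h2
        exact h2
      have h3 : ∀ k : ℕ, (c ^ (2 * k)) (v : V) = v := by
        intro k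
        induction k with
        | zero => rfl
        | succ k ih =>
          rw [mul_add, pow_add]
          show (c ^ (2 * k)) ((c ^ (2 * 1)) (v : V)) = v
          have : (c ^ (2 * 1)) (v : V) = v := h1
          rw [this, ih]
      obtain ⟨k, hk⟩ := hmodd
      have h4 : c v = v := by
        have h5 : (c ^ m) (v : V) = c (v : V) := by
          rw [hk, pow_succ']
          show c ((c ^ (2 * k)) (v : V)) = c v
          rw [h3]
        rw [← h5, hcm]
        rfl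
      have h5 : (v : V) ∈ W₀ ⊓ W₁ := ⟨mem_ker_sub_id.2 h4, v.2⟩
      rw [hcompl.inf_eq_bot, Submodule.mem_bot] at h5
      exact Subtype.ext h5
    · intro x y
      exact polar_map (Subgroup.pow_mem _ (restr_mem_O hg hg1 hg1') _) x y
    · intro x y
      exact polar_map h1O x y
  refine ⟨glue hcompl h₀ h₁, glue_mem_O hcompl hort h0O h1O, ?_, ?_⟩
  · rw [conj_iff]
    intro v
    obtain ⟨x, y, rfl⟩ := exists_eq_add hcompl v
    have e0 := conj_iff.1 h0inv x
    have e1 := conj_iff.1 h1inv y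
    have e2 : g ((x : V) + y) = (g₀ x : V) + g₁ y := map_add g _ _
    rw [e2, glue_add, map_add, glue_add]
    have e3 : g (h₀ (g₀ x) : V) = (h₀ x : V) := congrArg Subtype.val e0
    have e4 : g (h₁ (g₁ y) : V) = (h₁ y : V) := congrArg Subtype.val e1
    rw [e3, e4]
  · rw [fxd_glue, hnn]
    have : fxd h₀ + fxd h₁ + (n₀ + n₁) = (fxd h₀ + n₀) + (fxd h₁ + n₁) := by ring
    rw [this]
    exact h0D.add h1D

end Split

end Cfsg.Agent.H646.FSGlue
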