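import Cfsg.Agent.H592.FSSplit
import Cfsg.Agent.S0188
import Cfsg.Agent.CharDeep.PowerDegrees

/-!
# Indicators of subgroups of index two

If all irreducible characters of `G` have indicator `1`, `H` has index two in `G` and all elements of
`H` are real in `H`, then all irreducible characters of `H` have indicator `1`.
-/

set_option autoImplicit false

namespace Cfsg.Agent.H646.FSIndexTwo

open Cfsg Cfsg.Agent.Characters.Core Cfsg.Agent.H592.FSPar
open scoped ComplexConjugate

theorem fs_outer {G : Type*} [Group G] [Finite G] {H : Type*} [Group H] [Finite H]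
    (φ : G → ℂ) (ψ : H → ℂ) : fs (fun x : G × H => φ x.1 * ψ x.2) = fs φ * fs ψ := by
  have := Fintype.ofFinite G
  have := Fintype.ofFinite H
  rw [fs_eq_sum, fs_eq_sum, fs_eq_sum, Nat.card_prod, Fintype.sum_prod_type]
  have h1 : ∀ g : G, ∑ h : H, φ ((g, h) * (g, h)).1 * ψ ((g, h) * (g, h)).2 =
      φ (g * g) * ∑ h : H, ψ (h * h) := by
    intro g
    rw [Finset.mul_sum]
    rfl
  rw [Finset.sum_congr rfl fun g _ => h1 g, ← Finset.sum_mul]
  push_cast
  rw [mul_inv]
  ring

/-- A real constituent of multiplicity one of the restriction of a character of indicator one has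
indicator one. -/
theorem fs_eq_one_of_mult_one {G : Type*} [Group G] [Fintype G] {H : Type*} [Group H] [Fintype H]
    (f : H →* G) {χ : G → ℂ} (hχ : IsIrrCharacter G χ) (hχ1 : fs χ = 1)
    {ψ : H → ℂ} (hψ : IsIrrCharacter H ψ) (hreal : ∀ h, (ψ h).im = 0)
    (hmult : classInner (fun h => χ (f h)) ψ = 1) : fs ψ = 1 := by
  rcases (fs_irr hψ).1 with h | h | h
  · obtain ⟨s, hs⟩ := (fs_irr hψ).2.1 h
    exact absurd (hreal s) hs
  · exact h
  exfalso
  have h1 : fs (fun x : G × H => χ x.1 * ψ x.2) = -1 := by rw [fs_outer, hχ1, h, one_mul]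
  have h2 := Cfsg.Agent.S0188.isIrr_outer hχ hψ
  have h3 : fs (1 : H → ℂ) = 1 := by
    rw [fs_eq_sum]
    simp
  obtain ⟨k, hk⟩ := even_mult (f.prod (MonoidHom.id H)) h2 h1 (isIrr_one (G := H)) h3
  have h4 : classInner (fun h => χ (f h)) ψ =
      classInner (fun h => (fun x : G × H => χ x.1 * ψ x.2) (f.prod (MonoidHom.id H) h)) 1 := by
    rw [classInner_def, classInner_def]
    congr 1
    refine Finset.sum_congr rfl fun g _ => ?_
    rw [Complex.conj_eq_iff_im.2 (hreal g)]
    simp
  rw [← h4, hmult] at hk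
  have h5 : (1 : ℕ) = 2 * k := by exact_mod_cast hk
  omega

theorem inner_restrict_le {G : Type*} [Group G] [Fintype G] (H : Subgroup G) [Fintype H]
    {χ : G → ℂ} (hχ : IsIrrCharacter G χ) :
    (classInner (fun h : H => χ h) (fun h : H => χ h)).re ≤ H.index := by
  have h1 := classInner_irr_self hχ
  rw [classInner_def] at h1 ⊢
  have hn : ∀ z : ℂ, z * conj z = ((Complex.normSq z : ℝ) : ℂ) := Complex.mul_conj
  have h2 : ∑ g : G, Complex.normSq (χ g) = (Nat.card G : ℝ) := by
    have h3 : (Nat.card G : ℂ) ≠ 0 := Nat.cast_ne_zero.2 Nat.card_pos.ne'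
    have h4 : ∑ g : G, χ g * conj (χ g) = (Nat.card G : ℂ) := by
      field_simp at h1
      exact h1
    rw [Finset.sum_congr rfl fun g _ => hn (χ g), ← Complex.ofReal_sum] at h4
    exact_mod_cast h4
  have h5 : ∑ h : H, Complex.normSq (χ h) ≤ (Nat.card G : ℝ) := by
    rw [← h2]
    calc ∑ h : H, Complex.normSq (χ h) = ∑ g ∈ Finset.univ.map ⟨(Subtype.val : H → G), Subtype.val_injective⟩,
        Complex.normSq (χ g) := by rw [Finset.sum_map]; rfl
      _ ≤ ∑ g : G, Complex.normSq (χ g) :=
        Finset.sum_le_sum_of_subset_of_nonneg (Finset.subset_univ _)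
          fun _ _ _ => Complex.normSq_nonneg _
  rw [Finset.sum_congr rfl fun (g : H) _ => hn (χ g), ← Complex.ofReal_sum]
  have h6 : ((Nat.card H : ℂ)⁻¹ * ((∑ h : H, Complex.normSq (χ h) : ℝ) : ℂ)).re =
      (Nat.card H : ℝ)⁻¹ * ∑ h : H, Complex.normSq (χ h) := by
    rw [← Complex.ofReal_natCast, ← Complex.ofReal_inv, ← Complex.ofReal_mul, Complex.ofReal_re]
  rw [h6]
  have h7 : (0 : ℝ) < Nat.card H := by exact_mod_cast Nat.card_pos
  rw [inv_mul_le_iff₀ h7]
  refine h5.trans (le_of_eq ?_)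
  rw [← H.card_mul_index]
  push_cast
  ring

/-- In a group of index two each multiplicity is at most one. -/
theorem mult_le_one {G : Type*} [Group G] [Fintype G] (H : Subgroup G) [Fintype H]
    (hH : H.index = 2) {χ : G → ℂ} (hχ : IsIrrCharacter G χ) {ψ : H → ℂ} (hψ : IsIrrCharacter H ψ)
    (hne : classInner (fun h : H => χ h) ψ ≠ 0) : classInner (fun h : H => χ h) ψ = 1 := by
  classical
  have := finite_irr (G := H)
  have := Fintype.ofFinite (IrrCharacter H)
  have hres : IsCharacter H (fun h : H => χ h) := isCharacter_comp H.subtype (isIrr_isCharacter hχ)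
  have h1 := classInner_eq_sum (isCharacter_isClassFunction hres) (isCharacter_isClassFunction hres)
  obtain ⟨k, hk⟩ := classInner_isNat hres (isIrr_isCharacter hψ)
  have h2 := inner_restrict_le H hχ
  rw [h1, hH, Complex.re_sum] at h2
  have h3 : (k : ℝ) ^ 2 ≤ 2 := by
    refine le_trans ?_ h2
    refine le_trans (le_of_eq ?_) (Finset.single_le_sum (fun φ _ => ?_)
      (Finset.mem_univ (⟨ψ, hψ⟩ : IrrCharacter H)))
    · show (k : ℝ) ^ 2 = (classInner (fun h : H => χ h) ψ *
        conj (classInner (fun h : H => χ h) ψ)).re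
      rw [hk, Complex.conj_natCast, ← Nat.cast_mul, Complex.natCast_re]
      push_cast
      ring
    · rw [Complex.mul_conj, Complex.ofReal_re]
      exact Complex.normSq_nonneg _
  have h4 : k ^ 2 ≤ 2 := by exact_mod_cast h3
  have h5 : k ≠ 0 := by
    rintro rfl
    rw [Nat.cast_zero] at hk
    exact hne hk
  have h6 : k = 1 := by
    have : k < 2 := by
      by_contra h
      push Not at h
      have := Nat.pow_le_pow_left h 2
      omega
    omega
  rw [hk, h6, Nat.cast_one]

/-- **Indicators and subgroups of index two.** -/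
theorem fs_index_two {G : Type*} [Group G] [Finite G] (H : Subgroup G) (hH : H.index = 2)
    (hG : ∀ χ : G → ℂ, IsIrrCharacter G χ → fs χ = 1) (hreal : ∀ h : H, IsConj h h⁻¹)
    {ψ : H → ℂ} (hψ : IsIrrCharacter H ψ) : fs ψ = 1 := by
  have := Fintype.ofFinite G
  have := Fintype.ofFinite H
  obtain ⟨χ, hχ, hne⟩ := Cfsg.Agent.CharDeep.PowerDegrees.exists_irr_over H hψ
  refine fs_eq_one_of_mult_one H.subtype hχ (hG χ hχ) hψ ?_ (mult_le_one H hH hχ hψ hne)
  intro h
  have h1 : ψ h = ψ h⁻¹ := by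
    obtain ⟨x, hx⟩ := isConj_iff.1 (hreal h)
    rw [← hx]
    exact (isIrr_isClassFunction hψ h x).symm
  rw [isCharacter_apply_inv (isIrr_isCharacter hψ)] at h1
  exact Complex.conj_eq_iff_im.1 h1.symm

end Cfsg.Agent.H646.FSIndexTwo
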