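import Cfsg.Agent.H955.FSDefs
import Cfsg.Agent.H646.FSGlue
import Cfsg.Agent.H646.FSIndexTwo
import Cfsg.Agent.LieClassical.OrthForms
import Cfsg.Agent.LieClassical.OrthFinite
import Cfsg.Agent.ClassicalGeometry.OrthDickson
import Cfsg.Agent.Characters.GaloisIrr

/-!
# Indicators of the commutator subgroups of orthogonal groups in dimension `4 m`, characteristic two
-/

set_option autoImplicit false
set_option linter.unusedSectionVars false

universe u

namespace Cfsg.Agent.H646.FSOmega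

open Cfsg QuadraticMap Module
open Cfsg.Agent.LieClassical.OrthCore Cfsg.Agent.LieClassical.OrthForms
open Cfsg.Agent.LieClassical.OrthFinite
open Cfsg.Agent.H592.FSPar Cfsg.Agent.H646.FSGlue Cfsg.Agent.H646.FSIndexTwo
open Cfsg.Agent.H955.FS
open Cfsg.Agent.Characters.Core

theorem fs_eq_one {G : Type u} [Group G] (h : FSGood False G) {χ : G → ℂ}
    (hχ : IsIrrCharacter G χ) : fs χ = 1 := by
  rcases h χ hχ with h1 | h1
  · exact h1
  · exact absurd h1.1 id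

theorem isConj_inv {G : Type u} [Group G] [Finite G] (h : FSGood False G) (g : G) :
    IsConj g g⁻¹ := by
  refine Cfsg.Agent.Characters.GaloisIrr.isConj_of_forall_irr fun χ hχ => ?_
  have h1 := fs_eq_one h hχ
  have h2 := real_of_fs hχ (by rw [h1]; exact one_ne_zero) g
  rw [isCharacter_apply_inv (isIrr_isCharacter hχ)]
  exact (Complex.conj_eq_iff_im.2 h2).symm

/-- Unipotent isometries are inverted by isometries with the right Dickson invariant. -/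
def Uni : Prop :=
  ∀ (F V : Type u) [Field F] [Finite F] [CharP F 2] [AddCommGroup V] [Module F V]
    [FiniteDimensional F V] (Q : QuadraticForm F V), Nondeg Q → ∀ n : ℕ, finrank F V = 2 * n →
    ∀ p ∈ O Q, ∀ a : ℕ, p ^ 2 ^ a = 1 →
    ∃ h ∈ O Q, h * p * h⁻¹ = p⁻¹ ∧
      (finrank F (LinearMap.ker ((h : V →ₗ[F] V) - LinearMap.id)) + n) % 2 = 0

theorem exists_inv' (hT0 : ∀ n, T0.{u} n) (hU : Uni.{u}) {F V : Type u} [Field F] [Finite F]
    [CharP F 2] [AddCommGroup V] [Module F V] [FiniteDimensional F V] (Q : QuadraticForm F V)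
    (hQ : Nondeg Q) {n : ℕ} (hn : finrank F V = 2 * n) {g : V ≃ₗ[F] V} (hg : g ∈ O Q) :
    ∃ h ∈ O Q, h * g * h⁻¹ = g⁻¹ ∧ Even (fxd h + n) := by
  refine FSGlue.exists_inv hQ hn ?_ ?_ hg
  · intro W n₀ hW hn₀ p hp a hpa
    obtain ⟨h, h1, h2, h3⟩ := hU F W (qr Q W) hW n₀ hn₀ p hp a hpa
    exact ⟨h, h1, h2, Nat.even_iff.2 h3⟩
  · intro W hW g hg
    obtain ⟨n₁, hn₁⟩ := even_finrank_of_nondeg hW
    have hfinW : Finite W := Module.finite_of_finite F
    have hfinE : Finite (W ≃ₗ[F] W) :=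
      Finite.of_injective (fun e : W ≃ₗ[F] W => (e : W → W)) DFunLike.coe_injective
    obtain ⟨h, hh⟩ := isConj_iff.1 (isConj_inv (hT0 n₁ F W (qr Q W) hW hn₁) ⟨g, hg⟩)
    exact ⟨h, h.2, congrArg Subtype.val hh⟩

section Matrix

variable {F : Type u} [Field F] [Finite F] [CharP F 2] {ι : Type} [Fintype ι] [DecidableEq ι]
  (Q : QuadraticForm F (ι → F))

theorem nondegenerate (hQ : Nondeg Q) : (polarBilin Q).Nondegenerate :=
  ⟨hQ, fun y hy => hQ y fun x => by rw [polar_comm]; exact hy x⟩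

theorem fixSp_eq (g : Cfsg.isometryGroup F ⇑Q) :
    finrank F (Cfsg.Agent.ClassicalGeometry.OrthCharTwo.fixSp g) = fxd (isometryEquiv Q g : (ι → F) ≃ₗ[F] (ι → F)) := by
  have h : Cfsg.Agent.ClassicalGeometry.OrthCharTwo.fixSp g =
      LinearMap.ker (((isometryEquiv Q g : (ι → F) ≃ₗ[F] (ι → F)) : (ι → F) →ₗ[F] (ι → F)) -
        LinearMap.id) := by
    ext v
    rw [mem_ker_sub_id]
    exact Iff.rfl
  rw [h]
  rfl

theorem mem_commutator (hQ : Nondeg Q) {m : ℕ} (hm : 2 ≤ m) (hι : Fintype.card ι = 4 * m)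
    (g : Cfsg.isometryGroup F ⇑Q)
    (hg : Even (fxd (isometryEquiv Q g : (ι → F) ≃ₗ[F] (ι → F)))) :
    g ∈ commutator (Cfsg.isometryGroup F ⇑Q) := by
  have hnd := nondegenerate Q hQ
  have h4 : (∃ θ : F, θ ≠ 0 ∧ θ ≠ 1) ∨ Fintype.card ι ≠ 4 := Or.inr (by omega)
  have : Nonempty ι := Fintype.card_pos_iff.1 (by omega)
  have h2 : (2 : F) = 0 := CharTwo.two_eq_zero
  have hidx := Cfsg.Agent.ClassicalGeometry.OrthDickson.index_commutator_two Q h2 hnd h4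
  have hd : Cfsg.Agent.ClassicalGeometry.OrthDickson.dsign Q g = 1 := by
    rw [Cfsg.Agent.ClassicalGeometry.OrthDickson.dsign_def, fixSp_eq, hι]
    exact (hg.add (by rw [Nat.even_iff]; omega)).neg_one_pow
  obtain ⟨u, hu⟩ : ∃ u, Q u ≠ 0 := by
    by_contra hcon
    push Not at hcon
    obtain ⟨i⟩ := ‹Nonempty ι›
    have h1 : (Pi.single i (1 : F) : ι → F) = 0 := by
      apply hQ
      intro y
      rw [polar, hcon, hcon, hcon]
      ring
    have h3 := congrFun h1 i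
    simp at h3
  by_contra hcon
  have hr := Cfsg.Agent.ClassicalGeometry.OrthDickson.refl_notMem_commutator Q hnd h4 u hu
  have h5 := (Subgroup.mul_mem_iff_of_index_two hidx (a := g)
    (b := Cfsg.Agent.ClassicalGeometry.Reflection.reflIso Q u hu)).2
      (by constructor <;> intro h; exact absurd h hcon; exact absurd h hr)
  have h6 := Cfsg.Agent.ClassicalGeometry.OrthDickson.dsign_eq_one_of_mem_commutator Q hnd h4 _ h5
  rw [Cfsg.Agent.ClassicalGeometry.OrthDickson.dsign_mul_of_gen Q hnd h4, hd,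
    Cfsg.Agent.ClassicalGeometry.OrthDickson.dsign_refl Q hnd] at h6
  exact absurd h6 (by decide)

theorem omega_real (hT0 : ∀ n, T0.{u} n) (hU : Uni.{u}) (hQ : Nondeg Q) {m : ℕ} (hm : 2 ≤ m)
    (hι : Fintype.card ι = 4 * m) (g : commutator (Cfsg.isometryGroup F ⇑Q)) :
    IsConj g g⁻¹ := by
  have hn : finrank F (ι → F) = 2 * (2 * m) := by
    rw [Module.finrank_fintype_fun_eq_card, hι]
    ring
  obtain ⟨h, hO, hinv, hev⟩ := exists_inv' hT0 hU Q hQ hn (isometryEquiv Q g).2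
  let H : Cfsg.isometryGroup F ⇑Q := (isometryEquiv Q).symm ⟨h, hO⟩
  have hH : isometryEquiv Q H = ⟨h, hO⟩ := (isometryEquiv Q).apply_symm_apply _
  have hH1 : H * (g : Cfsg.isometryGroup F ⇑Q) * H⁻¹ = (g : Cfsg.isometryGroup F ⇑Q)⁻¹ := by
    apply (isometryEquiv Q).injective
    rw [map_mul, map_mul, map_inv, map_inv, hH]
    exact Subtype.ext hinv
  have hH2 : H ∈ commutator (Cfsg.isometryGroup F ⇑Q) := by
    refine mem_commutator Q hQ hm hι H ?_
    rw [hH]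
    show Even (fxd h)
    rw [Nat.even_iff] at hev ⊢
    omega
  exact isConj_iff.2 ⟨⟨H, hH2⟩, Subtype.ext hH1⟩

theorem isometryGroup_fs (hT0 : ∀ n, T0.{u} n) (hQ : Nondeg Q) {n : ℕ}
    (hι : Fintype.card ι = 2 * n) {χ : Cfsg.isometryGroup F ⇑Q → ℂ}
    (hχ : IsIrrCharacter (Cfsg.isometryGroup F ⇑Q) χ) : fs χ = 1 := by
  have hn : finrank F (ι → F) = 2 * n := by
    rw [Module.finrank_fintype_fun_eq_card, hι]
  have h1 := hT0 n F (ι → F) Q hQ hn
  have h2 := fs_eq_one h1 (isIrr_comp (isometryEquiv Q).symm.toMonoidHom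
    (isometryEquiv Q).symm.surjective hχ)
  rw [← fs_comp (isometryEquiv Q).symm χ]
  exact h2

theorem omega_fs (hT0 : ∀ n, T0.{u} n) (hU : Uni.{u}) (hQ : Nondeg Q) {m : ℕ} (hm : 2 ≤ m)
    (hι : Fintype.card ι = 4 * m) {χ : commutator (Cfsg.isometryGroup F ⇑Q) → ℂ}
    (hχ : IsIrrCharacter (commutator (Cfsg.isometryGroup F ⇑Q)) χ) : fs χ = 1 := by
  have hnd := nondegenerate Q hQ
  have h4 : (∃ θ : F, θ ≠ 0 ∧ θ ≠ 1) ∨ Fintype.card ι ≠ 4 := Or.inr (by omega)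
  have : Nonempty ι := Fintype.card_pos_iff.1 (by omega)
  have h2 : (2 : F) = 0 := CharTwo.two_eq_zero
  have hidx := Cfsg.Agent.ClassicalGeometry.OrthDickson.index_commutator_two Q h2 hnd h4
  exact fs_index_two _ hidx (fun χ hχ => isometryGroup_fs Q hT0 hQ
    (show Fintype.card ι = 2 * (2 * m) by omega) hχ) (omega_real Q hT0 hU hQ hm hι) hχ

end Matrix

/-- **S4973** from the indicators of the full orthogonal groups. -/
theorem s4973_of (hT0 : ∀ n, T0.{u} n) (hU : Uni.{u}) {F : Type u} [Field F] [Fintype F]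
    [CharP F 2] (m : ℕ) (hm : 2 ≤ m) :
    (∀ χ : Cfsg.IrrCharacter ↥(Cfsg.Omega F (Cfsg.quadFormPlus (2 * m) F)), (Nat.card ↥(Cfsg.Omega F (Cfsg.quadFormPlus (2 * m) F)) : ℂ)⁻¹ * ∑ᶠ s : ↥(Cfsg.Omega F (Cfsg.quadFormPlus (2 * m) F)), (χ : ↥(Cfsg.Omega F (Cfsg.quadFormPlus (2 * m) F)) → ℂ) (s * s) = 1) ∧ (∀ a b : F, (∀ z₁ z₂ : F, z₁ ^ 2 + a * z₁ * z₂ + b * z₂ ^ 2 = 0 → z₁ = 0 ∧ z₂ = 0) → ∀ χ : Cfsg.IrrCharacter ↥(Cfsg.Omega F (Cfsg.quadFormMinus (2 * m - 1) F a b)), (Nat.card ↥(Cfsg.Omega F (Cfsg.quadFormMinus (2 * m - 1) F a b)) : ℂ)⁻¹ * ∑ᶠ s : ↥(Cfsg.Omega F (Cfsg.quadFormMinus (2 * m - 1) F a b)), (χ : ↥(Cfsg.Omega F (Cfsg.quadFormMinus (2 * m - 1) F a b)) → ℂ) (s * s) = 1) := by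
  constructor
  · rw [← coe_plusForm]
    intro χ
    refine omega_fs (plusForm (2 * m) F) hT0 hU (nondeg_plusForm (2 * m) F) hm ?_ χ.2
    rw [Fintype.card_sum, Fintype.card_fin]
    ring
  · intro a b hab
    rw [← coe_minusForm]
    intro χ
    refine omega_fs (minusForm (2 * m - 1) F a b) hT0 hU (nondeg_minusForm (2 * m - 1) F a b hab)
      hm ?_ χ.2
    rw [Fintype.card_sum, Fintype.card_sum, Fintype.card_fin, Fintype.card_fin]
    omega

/-- **S4972** from the induction. -/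
theorem s4972_of (hT0 : ∀ n, T0.{u} n) {F : Type u} [Field F] [Fintype F] [CharP F 2] (n : ℕ)
    (hn : 1 ≤ n) :
    (∀ χ : Cfsg.IrrCharacter ↥(Cfsg.isometryGroup F (Cfsg.quadFormPlus n F)), (Nat.card ↥(Cfsg.isometryGroup F (Cfsg.quadFormPlus n F)) : ℂ)⁻¹ * ∑ᶠ s : ↥(Cfsg.isometryGroup F (Cfsg.quadFormPlus n F)), (χ : ↥(Cfsg.isometryGroup F (Cfsg.quadFormPlus n F)) → ℂ) (s * s) = 1) ∧ (∀ a b : F, (∀ z₁ z₂ : F, z₁ ^ 2 + a * z₁ * z₂ + b * z₂ ^ 2 = 0 → z₁ = 0 ∧ z₂ = 0) → ∀ χ : Cfsg.IrrCharacter ↥(Cfsg.isometryGroup F (Cfsg.quadFormMinus (n - 1) F a b)), (Nat.card ↥(Cfsg.isometryGroup F (Cfsg.quadFormMinus (n - 1) F a b)) : ℂ)⁻¹ * ∑ᶠ s : ↥(Cfsg.isometryGroup F (Cfsg.quadFormMinus (n - 1) F a b)), (χ : ↥(Cfsg.isometryGroup F (Cfsg.quadFormMinus (n - 1) F a b)) → ℂ) (s * s) = 1) := by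
  constructor
  · rw [← coe_plusForm]
    intro χ
    refine isometryGroup_fs (n := n) (plusForm n F) hT0 (nondeg_plusForm n F) ?_ χ.2
    rw [Fintype.card_sum, Fintype.card_fin]
    ring
  · intro a b hab
    rw [← coe_minusForm]
    intro χ
    refine isometryGroup_fs (n := n) (minusForm (n - 1) F a b) hT0 (nondeg_minusForm (n - 1) F a b hab)
      ?_ χ.2
    rw [Fintype.card_sum, Fintype.card_sum, Fintype.card_fin, Fintype.card_fin]
    omega

end Cfsg.Agent.H646.FSOmega
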