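import Mathlib
import Cfsg.Agent.Lib.PGroupFixedVector
import Cfsg.Agent.Blocks.OrbitSum

/-!
# Direct summands of permutation modules of `p`-groups

`P` is a finite `p`-group acting on the finite set `X`, `k` is a field of characteristic `p` and
`E` is a `P`-equivariant idempotent matrix indexed by `X`, that is, a direct summand of the
permutation module `kX`.

* `exists_orbit`: if `E ≠ 0` then there is `y₀` such that `E` is injective on the functions
  supported on the orbit of `y₀`, and `x'` with the same stabilizer as `y₀` and `E x' y₀ ≠ 0`;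
* `exists_conj_le`: if all subgroups `T` with a `T`-fixed vector of the summand not vanishing at
  some `T`-fixed point have order at most `N`, the rank is at most `|P|/N` and `T₀` is such a
  subgroup of order `N`, then all such subgroups are conjugate to subgroups of `T₀`.
-/

set_option autoImplicit false
set_option linter.unusedSectionVars false

namespace Cfsg.Agent.H646.PermModule

variable {k : Type*} [Field k] {P X : Type*} [Group P] [MulAction P X]

/-- The permutation representation on functions. -/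
def permRep (k : Type*) [Field k] (P X : Type*) [Group P] [MulAction P X] :
    Representation k P (X → k) where
  toFun g := LinearMap.funLeft k k (fun x : X => g⁻¹ • x)
  map_one' := by
    ext v x
    simp [LinearMap.funLeft_apply]
  map_mul' g h := by
    ext v x
    simp [LinearMap.funLeft_apply, mul_smul]

theorem permRep_apply (g : P) (v : X → k) (x : X) : permRep k P X g v x = v (g⁻¹ • x) := rfl

variable [Fintype X]

/-- Equivariant matrices. -/
def Equi (P : Type*) [Group P] [MulAction P X] (E : Matrix X X k) : Prop :=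
  ∀ (g : P) (x y : X), E (g • x) (g • y) = E x y

theorem mulVec_permRep {E : Matrix X X k} (hE : Equi P E) (g : P) (v : X → k) :
    E.mulVec (permRep k P X g v) = permRep k P X g (E.mulVec v) := by
  funext x
  rw [permRep_apply]
  simp only [Matrix.mulVec, dotProduct]
  rw [← Equiv.sum_comp (MulAction.toPerm g : Equiv.Perm X)]
  refine Finset.sum_congr rfl fun y _ => ?_
  rw [MulAction.toPerm_apply, permRep_apply, inv_smul_smul]
  congr 1
  rw [← hE g⁻¹ x (g • y), inv_smul_smul]

/-- A sum of a function invariant under a `p`-group reduces to the fixed points. -/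
theorem sum_eq_sum_fixed {p : ℕ} [Fact p.Prime] [CharP k p] (T : Subgroup P) (hT : IsPGroup p T)
    (f : X → k) (hf : ∀ t ∈ T, ∀ y, f (t • y) = f y)
    [DecidablePred fun y : X => ∀ t ∈ T, t • y = y] :
    ∑ y, f y = ∑ y with ∀ t ∈ T, t • y = y, f y := by
  classical
  obtain ⟨a, ha⟩ := Blocks.OrbitSum.sum_eq_sum_fixed_add_smul (P := T) (Ω := X) hT f
    (fun u ω => hf u u.2 ω)
  rw [ha, nsmul_eq_mul, CharP.cast_eq_zero, zero_mul, add_zero]
  refine Finset.sum_congr ?_ fun _ _ => rfl
  ext y
  simp only [Finset.mem_filter, Finset.mem_univ, true_and, MulAction.mem_fixedPoints]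
  exact ⟨fun h t ht => h ⟨t, ht⟩, fun h t => h t t.2⟩

variable [Finite P] {p : ℕ} [Fact p.Prime] [CharP k p]

theorem exists_orbit [DecidableEq X] (hP : IsPGroup p P) {E : Matrix X X k} (hE : Equi P E)
    (hEE : E * E = E) (hE0 : E ≠ 0) : ∃ x' y₀ : X, E x' y₀ ≠ 0 ∧
      MulAction.stabilizer P x' = MulAction.stabilizer P y₀ ∧
      ∀ w : X → k, (∀ y, y ∉ MulAction.orbit P y₀ → w y = 0) → E.mulVec w = 0 → w = 0 := by
  classical
  -- a fixed vector
  obtain ⟨v, hv, hv0, hvfix⟩ := Lib.PGroupFixedVector.exists_mem_ne_zero_fixed_rep hP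
    (permRep k P X) (LinearMap.range E.mulVecLin) (by
      rintro g _ ⟨w, rfl⟩
      refine ⟨permRep k P X g w, ?_⟩
      rw [Matrix.mulVecLin_apply, Matrix.mulVecLin_apply, mulVec_permRep hE]) (by
      intro h0
      apply hE0
      rw [LinearMap.range_eq_bot] at h0
      ext x y
      have := congrFun (LinearMap.congr_fun h0 (Pi.single y 1)) x
      rw [Matrix.mulVecLin_apply, Matrix.mulVec_single_one] at this
      exact this)
  have hEv : E.mulVec v = v := by
    obtain ⟨w, rfl⟩ := hv
    rw [Matrix.mulVecLin_apply, Matrix.mulVec_mulVec, hEE]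
  have hvinv : ∀ (g : P) (x : X), v (g • x) = v x := by
    intro g x
    have := congrFun (hvfix g⁻¹) x
    rw [permRep_apply, inv_inv] at this
    exact this
  obtain ⟨x₀, hx₀⟩ := Function.ne_iff.mp hv0
  obtain ⟨x', hx', hmax⟩ := Finset.exists_max_image (Finset.univ.filter fun x => v x ≠ 0)
    (fun x => Nat.card (MulAction.stabilizer P x)) ⟨x₀, by simpa using hx₀⟩
  rw [Finset.mem_filter] at hx'
  let R := MulAction.stabilizer P x'
  have hRp : IsPGroup p R := hP.to_subgroup R
  have hmax' : ∀ y, (∀ t ∈ R, t • y = y) → v y ≠ 0 → MulAction.stabilizer P y = R := by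
    intro y hy hvy
    refine (Subgroup.eq_of_le_of_card_ge ?_ (hmax y (by simpa using hvy))).symm
    intro t ht
    exact hy t ht
  have h1 : v x' = ∑ y with ∀ t ∈ R, t • y = y, E x' y * v y := by
    conv_lhs => rw [← hEv]
    rw [Matrix.mulVec, dotProduct]
    refine sum_eq_sum_fixed R hRp _ fun t ht y => ?_
    rw [hvinv, ← hE t x' y, show t • x' = x' from ht]
  rw [← Finset.sum_fiberwise_of_maps_to (t := (Finset.univ : Finset (Finset X)))
    (g := fun y => (MulAction.orbit P y).toFinset) (fun _ _ => Finset.mem_univ _)] at h1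
  obtain ⟨O, -, hO⟩ := Finset.exists_ne_zero_of_sum_ne_zero (h1 ▸ hx'.2)
  obtain ⟨y₀, hy₀, hy₀'⟩ := Finset.exists_ne_zero_of_sum_ne_zero hO
  simp only [Finset.mem_filter, Finset.mem_univ, true_and] at hy₀
  have hE₀ : E x' y₀ ≠ 0 := left_ne_zero_of_mul hy₀'
  have hvy₀ : v y₀ ≠ 0 := right_ne_zero_of_mul hy₀'
  have hmemO : ∀ y, (MulAction.orbit P y).toFinset = O ↔ y ∈ MulAction.orbit P y₀ := by
    intro y
    rw [← hy₀.2, Set.toFinset_inj]
    exact MulAction.orbit_eq_iff
  have hsum : ∑ y with (∀ t ∈ R, t • y = y), (if y ∈ MulAction.orbit P y₀ then E x' y else 0)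
      ≠ 0 := by
    intro h0
    apply hO
    have h2 : ∀ y ∈ (Finset.univ.filter fun y : X => ∀ t ∈ R, t • y = y).filter
        (fun y => (MulAction.orbit P y).toFinset = O), E x' y * v y = E x' y * v y₀ := by
      intro y hy
      rw [Finset.mem_filter, hmemO] at hy
      obtain ⟨g, rfl⟩ := hy.2
      rw [hvinv]
    rw [Finset.sum_congr rfl h2, ← Finset.sum_mul]
    rw [← Finset.sum_filter] at h0
    have h3 : (Finset.univ.filter fun y : X => ∀ t ∈ R, t • y = y).filter
        (fun y => (MulAction.orbit P y).toFinset = O) =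
        (Finset.univ.filter fun y : X => ∀ t ∈ R, t • y = y).filter
        (fun y => y ∈ MulAction.orbit P y₀) := by
      refine Finset.filter_congr fun y _ => ?_
      exact hmemO y
    rw [h3, h0, zero_mul]
  refine ⟨x', y₀, hE₀, (hmax' y₀ hy₀.1 hvy₀).symm, ?_⟩
  intro w hw hEw
  by_contra hw0
  let W : Submodule k (X → k) :=
    { carrier := {w | (∀ y, y ∉ MulAction.orbit P y₀ → w y = 0) ∧ E.mulVec w = 0}
      add_mem' := by
        rintro a b ⟨ha, ha'⟩ ⟨hb, hb'⟩
        refine ⟨fun y hy => ?_, ?_⟩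
        · rw [Pi.add_apply, ha y hy, hb y hy, add_zero]
        · rw [Matrix.mulVec_add, ha', hb', add_zero]
      zero_mem' := ⟨fun _ _ => rfl, Matrix.mulVec_zero E⟩
      smul_mem' := by
        rintro c a ⟨ha, ha'⟩
        refine ⟨fun y hy => ?_, ?_⟩
        · rw [Pi.smul_apply, ha y hy, smul_zero]
        · rw [Matrix.mulVec_smul, ha', smul_zero] }
  obtain ⟨w₀, ⟨hw₁, hw₂⟩, hw₃, hw₄⟩ := Lib.PGroupFixedVector.exists_mem_ne_zero_fixed_rep hP
    (permRep k P X) W (by
      rintro g a ⟨ha, ha'⟩
      refine ⟨fun y hy => ?_, ?_⟩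
      · rw [permRep_apply]
        refine ha _ fun hy' => hy ?_
        have := MulAction.mem_orbit_of_mem_orbit g hy'
        rwa [smul_inv_smul] at this
      · rw [mulVec_permRep hE, ha', map_zero]) (by
      intro h0
      exact hw0 ((Submodule.eq_bot_iff W).mp h0 w ⟨hw, hEw⟩))
  have hwinv : ∀ (g : P) (x : X), w₀ (g • x) = w₀ x := by
    intro g x
    have := congrFun (hw₄ g⁻¹) x
    rw [permRep_apply, inv_inv] at this
    exact this
  have hc : w₀ y₀ ≠ 0 := by
    intro h0
    apply hw₃
    funext y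
    by_cases hy : y ∈ MulAction.orbit P y₀
    · obtain ⟨g, rfl⟩ := hy
      rw [hwinv, h0]
      rfl
    · exact hw₁ y hy
  have h5 : ∑ y with (∀ t ∈ R, t • y = y), E x' y * w₀ y = 0 := by
    rw [← sum_eq_sum_fixed R hRp (fun y => E x' y * w₀ y) fun t ht y => ?_]
    · exact congrFun hw₂ x'
    · rw [hwinv, ← hE t x' y, show t • x' = x' from ht]
  apply hsum
  have h6 : ∀ y, E x' y * w₀ y = (if y ∈ MulAction.orbit P y₀ then E x' y else 0) * w₀ y₀ := by
    intro y
    by_cases hy : y ∈ MulAction.orbit P y₀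
    · rw [if_pos hy]
      obtain ⟨g, rfl⟩ := hy
      rw [hwinv]
    · rw [if_neg hy, hw₁ y hy, mul_zero, zero_mul]
  rw [Finset.sum_congr rfl fun y _ => h6 y, ← Finset.sum_mul] at h5
  exact (mul_eq_zero.mp h5).resolve_right hc

/-- Extension by zero from a subset. -/
noncomputable def ext0 (k : Type*) [Field k] (O : Set X) : (O → k) →ₗ[k] (X → k) :=
  Function.ExtendByZero.linearMap k (Subtype.val : O → X)

theorem ext0_mem (O : Set X) (w : O → k) (x : O) : ext0 k O w (x : X) = w x :=
  Function.Injective.extend_apply Subtype.val_injective w (0 : X → k) x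

theorem ext0_notMem (O : Set X) (w : O → k) {x : X} (hx : x ∉ O) : ext0 k O w x = 0 := by
  refine Function.extend_apply' w (0 : X → k) x ?_
  rintro ⟨y, rfl⟩
  exact hx y.2

theorem card_orbit_mul (y₀ : X) : Nat.card (MulAction.orbit P y₀) *
    Nat.card (MulAction.stabilizer P y₀) = Nat.card P := by
  classical
  have := Fintype.ofFinite P
  rw [Nat.card_eq_fintype_card, Nat.card_eq_fintype_card, Nat.card_eq_fintype_card]
  exact MulAction.card_orbit_mul_card_stabilizer_eq_card_group P y₀

theorem exists_conj_le [DecidableEq X] (hP : IsPGroup p P) {E : Matrix X X k} (hE : Equi P E)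
    (hEE : E * E = E) {N : ℕ}
    (hbound : ∀ (T : Subgroup P) (v : X → k) (x : X), E.mulVec v = v →
      (∀ t ∈ T, ∀ y, v (t • y) = v y) → (∀ t ∈ T, t • x = x) → v x ≠ 0 → Nat.card T ≤ N)
    (hrank : E.rank * N ≤ Nat.card P) {T₀ : Subgroup P} (hT₀ : Nat.card T₀ = N)
    {v₀ : X → k} {x₀ : X} (hv₀ : E.mulVec v₀ = v₀) (hv₀T : ∀ t ∈ T₀, ∀ y, v₀ (t • y) = v₀ y)
    (hx₀ : ∀ t ∈ T₀, t • x₀ = x₀) (hvx₀ : v₀ x₀ ≠ 0)
    {T : Subgroup P} {v : X → k} {x : X} (hv : E.mulVec v = v)
    (hvT : ∀ t ∈ T, ∀ y, v (t • y) = v y) (hx : ∀ t ∈ T, t • x = x) (hvx : v x ≠ 0) :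
    ∃ g : P, ∀ t ∈ T, g⁻¹ * t * g ∈ T₀ := by
  classical
  have hE0 : E ≠ 0 := by
    rintro rfl
    rw [Matrix.zero_mulVec] at hv₀
    rw [← hv₀] at hvx₀
    exact hvx₀ rfl
  obtain ⟨x', y₀, hne, hstab, hinj⟩ := exists_orbit hP hE hEE hE0
  let R := MulAction.stabilizer P y₀
  have hRN : Nat.card R ≤ N := by
    refine hbound R (E.mulVec (Pi.single y₀ 1)) x' ?_ ?_ ?_ ?_
    · rw [Matrix.mulVec_mulVec, hEE]
    · intro t ht y
      rw [Matrix.mulVec_single_one]
      show E (t • y) y₀ = E y y₀
      conv_lhs => rw [← show t • y₀ = y₀ from ht]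
      exact hE t y y₀
    · intro t ht
      have ht' : t ∈ MulAction.stabilizer P x' := hstab ▸ ht
      exact ht'
    · rw [Matrix.mulVec_single_one]
      exact hne
  let O := MulAction.orbit P y₀
  have hcardO : Nat.card O * Nat.card R = Nat.card P := card_orbit_mul y₀
  let Ψ : (O → k) →ₗ[k] (X → k) := E.mulVecLin ∘ₗ ext0 k O
  have hΨinj : Function.Injective Ψ := by
    rw [← LinearMap.ker_eq_bot, LinearMap.ker_eq_bot']
    intro w hw
    have h1 : ext0 k O w = 0 := by
      refine hinj _ (fun y hy => ext0_notMem O w hy) ?_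
      exact hw
    funext y
    rw [← ext0_mem O w y, h1]
    rfl
  have hle : LinearMap.range Ψ ≤ LinearMap.range E.mulVecLin := by
    rintro _ ⟨w, rfl⟩
    exact ⟨_, rfl⟩
  have hRpos : 0 < Nat.card R := Nat.card_pos
  have hfin : E.rank ≤ Nat.card O := by
    have h1 : E.rank * Nat.card R ≤ Nat.card O * Nat.card R := by
      rw [hcardO]
      exact (Nat.mul_le_mul_left _ hRN).trans hrank
    exact Nat.le_of_mul_le_mul_right h1 hRpos
  have hrange : LinearMap.range Ψ = LinearMap.range E.mulVecLin := by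
    refine Submodule.eq_of_le_of_finrank_le hle ?_
    rw [LinearMap.finrank_range_of_inj hΨinj, Module.finrank_fintype_fun_eq_card,
      ← Nat.card_eq_fintype_card]
    exact hfin
  -- every fixed vector of the summand not vanishing at a fixed point sees a point of the orbit
  have key : ∀ (T : Subgroup P) (v : X → k) (x : X), E.mulVec v = v →
      (∀ t ∈ T, ∀ y, v (t • y) = v y) → (∀ t ∈ T, t • x = x) → v x ≠ 0 →
      ∃ y ∈ O, ∀ t ∈ T, t • y = y := by
    intro T v x hv hvT hx hvx
    by_contra hcon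
    push Not at hcon
    have h1 : v ∈ LinearMap.range Ψ := by
      rw [hrange]
      exact ⟨v, hv⟩
    obtain ⟨w', hw'⟩ := h1
    set w := ext0 k O w' with hw
    have hEw : E.mulVec w = v := hw'
    have hwO : ∀ y, y ∉ O → w y = 0 := fun y hy => ext0_notMem O w' hy
    have hwT : ∀ t ∈ T, ∀ y, w (t • y) = w y := by
      intro t ht y
      have h2 : permRep k P X t⁻¹ w - w = 0 := by
        refine hinj _ (fun z hz => ?_) ?_
        · rw [Pi.sub_apply, permRep_apply, inv_inv, hwO z hz, hwO (t • z), sub_zero]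
          intro hz'
          apply hz
          have := MulAction.mem_orbit_of_mem_orbit t⁻¹ hz'
          rwa [inv_smul_smul] at this
        · rw [Matrix.mulVec_sub, mulVec_permRep hE, hEw]
          funext z
          rw [Pi.sub_apply, permRep_apply, inv_inv, hvT t ht z, sub_self]
          rfl
      have h3 := congrFun h2 y
      rw [Pi.sub_apply, permRep_apply, inv_inv] at h3
      exact sub_eq_zero.mp h3
    apply hvx
    rw [← hEw, Matrix.mulVec, dotProduct, sum_eq_sum_fixed T (hP.to_subgroup T) _ fun t ht y => ?_]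
    · refine Finset.sum_eq_zero fun y hy => ?_
      rw [Finset.mem_filter] at hy
      rw [hwO y, mul_zero]
      intro hyO
      obtain ⟨t, ht, hne⟩ := hcon y hyO
      exact hne (hy.2 t ht)
    · rw [hwT t ht]
      conv_lhs => rw [← hx t ht]
      rw [hE]
  obtain ⟨y₁, ⟨g₁, rfl⟩, hy₁'⟩ := key T₀ v₀ x₀ hv₀ hv₀T hx₀ hvx₀
  obtain ⟨y₂, ⟨g₂, rfl⟩, hy₂'⟩ := key T v x hv hvT hx hvx
  have hstab₁ : MulAction.stabilizer P (g₁ • y₀) = T₀ := by
    refine (Subgroup.eq_of_le_of_card_ge (fun t ht => hy₁' t ht) ?_).symm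
    have h1 := card_orbit_mul (P := P) (g₁ • y₀)
    have h2 : MulAction.orbit P (g₁ • y₀) = O :=
      MulAction.orbit_eq_iff.mpr (MulAction.mem_orbit y₀ g₁)
    rw [h2, ← hcardO] at h1
    have : Nonempty O := ⟨⟨y₀, MulAction.mem_orbit_self y₀⟩⟩
    have h3 := Nat.eq_of_mul_eq_mul_left (Nat.card_pos (α := O)) h1
    rw [h3, hT₀]
    exact hRN
  refine ⟨g₂ * g₁⁻¹, fun t ht => ?_⟩
  rw [← hstab₁, MulAction.mem_stabilizer_iff]
  have h1 := hy₂' t ht
  simp only [mul_inv_rev, inv_inv, mul_smul, inv_smul_smul]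
  simp only at h1
  rw [h1, inv_smul_smul]

end Cfsg.Agent.H646.PermModule
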