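import Mathlib
import Cfsg.Agent.H645.Idem

/-!
# Primitive idempotents of finite-dimensional algebras

`K` is an algebraically closed field, `A` a finite-dimensional `K`-algebra.

* `IsPrim e` : `e` is a primitive idempotent;
* `Eqv e f` : the idempotents `e` and `f` are equivalent;
* `exists_decomp` : an idempotent is a sum of orthogonal primitive idempotents;
* `exists_eqv` : a primitive idempotent below such a sum is equivalent to one of its terms;
* `exists_maximal`, `eqv_of_equiv` : the simple module of a primitive idempotent.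
-/

set_option autoImplicit false

namespace Cfsg.Agent.H646.PrimIdem

open Polynomial Module

/-- Primitive idempotents. -/
structure IsPrim {A : Type*} [Ring A] (e : A) : Prop where
  idem : e * e = e
  ne : e ≠ 0
  prim : ∀ x : A, x * x = x → e * x = x → x * e = x → x = 0 ∨ x = e

/-- Equivalence of idempotents. -/
def Eqv {A : Type*} [Ring A] (e f : A) : Prop :=
  ∃ x y : A, e * x = x ∧ x * f = x ∧ f * y = y ∧ y * e = y ∧ x * y = e ∧ y * x = f

section Eqv

variable {A : Type*} [Ring A] {e f g : A}

theorem Eqv.refl (he : e * e = e) : Eqv e e := ⟨e, e, he, he, he, he, he, he⟩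

theorem Eqv.symm (h : Eqv e f) : Eqv f e := by
  obtain ⟨x, y, h1, h2, h3, h4, h5, h6⟩ := h
  exact ⟨y, x, h3, h4, h1, h2, h6, h5⟩

theorem Eqv.trans (h : Eqv e f) (h' : Eqv f g) : Eqv e g := by
  obtain ⟨x, y, h1, h2, h3, h4, h5, h6⟩ := h
  obtain ⟨x', y', k1, k2, k3, k4, k5, k6⟩ := h'
  refine ⟨x * x', y' * y, ?_, ?_, ?_, ?_, ?_, ?_⟩
  · rw [← mul_assoc, h1]
  · rw [mul_assoc, k2]
  · rw [← mul_assoc, k3]
  · rw [mul_assoc, h4]
  · calc x * x' * (y' * y) = x * (x' * y') * y := by simp only [mul_assoc]
      _ = e := by rw [k5, h2, h5]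
  · calc y' * y * (x * x') = y' * (y * x) * x' := by simp only [mul_assoc]
      _ = g := by rw [h6, k4, k6]

/-- Two elements with a product equal to `e` give an equivalence with a primitive idempotent. -/
theorem eqv_of_mul (he : e * e = e) (hne : e ≠ 0) (hf : IsPrim f) {x y : A} (h1 : e * x = x)
    (h2 : x * f = x) (h3 : f * y = y) (h4 : y * e = y) (h5 : x * y = e) : Eqv e f := by
  refine ⟨x, y, h1, h2, h3, h4, h5, ?_⟩
  have e1 : y * x * (y * x) = y * x := by
    calc y * x * (y * x) = y * (x * y) * x := by simp only [mul_assoc]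
      _ = y * x := by rw [h5, h4]
  rcases hf.prim (y * x) e1 (by rw [← mul_assoc, h3]) (by rw [mul_assoc, h2]) with h | h
  · exfalso
    apply hne
    calc e = (x * y) * (x * y) := by rw [h5, he]
      _ = x * (y * x) * y := by simp only [mul_assoc]
      _ = 0 := by rw [h, mul_zero, zero_mul]
  · exact h

end Eqv

variable {K : Type*} [Field K] [IsAlgClosed K] {A : Type*} [Ring A] [Algebra K A]
  [Module.Finite K A]

omit [IsAlgClosed K] in
theorem sys_id [IsAlgClosed K] : Cfsg.Agent.H645.Idem.Sys (RingHom.id K) where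
  surj := fun x => ⟨x, rfl⟩
  unit := fun r hr => isUnit_iff_ne_zero.2 hr
  split := by
    intro f hf
    have hsplit := IsAlgClosed.splits f
    have hprod : f = (f.roots.map fun z => X - C z).prod := by
      have := hsplit.eq_prod_roots
      rwa [hf.leadingCoeff, C_1, one_mul] at this
    set l := f.roots.toList with hl
    refine ⟨l.length, fun i => l.get i, ?_⟩
    conv_lhs => rw [hprod]
    rw [← Multiset.coe_toList f.roots, Multiset.map_coe, Multiset.prod_coe, ← hl]
    conv_lhs => rw [← List.ofFn_get l]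
    rw [List.map_ofFn, List.prod_ofFn]
    rfl

omit [IsAlgClosed K] [Module.Finite K A] in
theorem red_id : Cfsg.Agent.H645.Idem.Red (RingHom.id K) (RingHom.id A) where
  surj := fun x => ⟨x, rfl⟩
  smul := by
    intro r x hr
    rw [RingHom.id_apply] at hr
    rw [hr, zero_smul, map_zero]
  ker := by
    intro x hx
    rw [RingHom.id_apply] at hx
    rw [hx]
    exact Submodule.zero_mem _

/-- Elements of a primitive corner are nilpotent or invertible. -/
theorem nilp_or_unit (K : Type*) [Field K] [IsAlgClosed K] {A : Type*} [Ring A] [Algebra K A]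
    [Module.Finite K A] {e : A} (he : IsPrim e) {x : A} (h1 : e * x = x) (h2 : x * e = x) :
    (∃ n : ℕ, x ^ n = 0) ∨ ∃ y, e * y = y ∧ y * e = y ∧ x * y = e ∧ y * x = e := by
  obtain ⟨E, α, hE1, hE2, m, hm⟩ := Cfsg.Agent.H645.Idem.exists_fitting (R := K) (A := A) sys_id
    red_id x
  rw [RingHom.id_apply] at hm
  have hcommE : ∀ q : K[X], e * aeval x q = aeval x q * e := by
    intro q
    have h5 : aeval x q ∈ Algebra.adjoin K {x} := aeval_mem_adjoin_singleton K _
    have := Algebra.commute_of_mem_adjoin_of_forall_mem_commute (R := K) (s := {x})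
      (a := e) h5 (by
        rintro b hb
        rw [Set.mem_singleton_iff] at hb
        rw [hb]
        change e * x = x * e
        rw [h1, h2])
    exact this
  have hcommx : ∀ q : K[X], x * aeval x q = aeval x q * x := by
    intro q
    have : aeval x (X * q) = aeval x (q * X) := by rw [mul_comm]
    rwa [map_mul, map_mul, aeval_X] at this
  have hxm : ∀ n : ℕ, e * x ^ (n + 1) = x ^ (n + 1) := by
    intro n
    rw [pow_succ', ← mul_assoc, h1]
  have f1 : e * aeval x E * (e * aeval x E) = e * aeval x E := by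
    calc e * aeval x E * (e * aeval x E) = e * (aeval x E * e) * aeval x E := by
          simp only [mul_assoc]
      _ = e * aeval x E := by
        rw [← hcommE, ← mul_assoc, he.idem, mul_assoc, hE1]
  rcases he.prim (e * aeval x E) f1 (by rw [← mul_assoc, he.idem])
    (by rw [mul_assoc, ← hcommE, ← mul_assoc, he.idem]) with h | h
  · left
    refine ⟨m + 1, ?_⟩
    have h3 : x ^ m = x ^ m * aeval x E := by
      rwa [mul_sub, mul_one, sub_eq_zero] at hm
    have h5 : x * aeval x E = 0 := by
      calc x * aeval x E = x * e * aeval x E := by rw [h2]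
        _ = 0 := by rw [mul_assoc, h, mul_zero]
    rw [pow_succ, h3, mul_assoc, ← hcommx, h5, mul_zero]
  · right
    have h3 : e * aeval x α * x = e := by
      calc e * aeval x α * x = aeval x α * (e * x) := by rw [hcommE, mul_assoc]
        _ = aeval x α * x * e := by rw [h1, mul_assoc, h2]
        _ = aeval x α * x * (e * aeval x E) := by rw [h]
        _ = aeval x α * (x * e) * aeval x E := by simp only [mul_assoc]
        _ = aeval x α * (e * x) * aeval x E := by rw [h1, h2]
        _ = e * (aeval x α * x * aeval x E) := by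
          rw [← mul_assoc (aeval x α) e, ← hcommE]
          simp only [mul_assoc]
        _ = e := by rw [hE2, h]
    refine ⟨e * aeval x α, ?_, ?_, ?_, h3⟩
    · rw [← mul_assoc, he.idem]
    · rw [mul_assoc, ← hcommE, ← mul_assoc, he.idem]
    · rw [← mul_assoc, h2, hcommx]
      calc aeval x α * x = aeval x α * (e * x) := by rw [h1]
        _ = e * aeval x α * x := by rw [← mul_assoc, ← hcommE]
        _ = e := h3

theorem not_nilp_of_left {A : Type*} [Ring A] {e : A} (hne : e ≠ 0)
    {x y : A} (h1 : e * x = x) (h : y * x = e) (n : ℕ) : x ^ n ≠ 0 := by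
  intro hn
  apply hne
  have key : ∀ k : ℕ, y ^ k * e * x ^ k = e ∨ k = 0 := by
    intro k
    induction k with
    | zero => right; rfl
    | succ k ih =>
      left
      rcases ih with ih | ih
      · calc y ^ (k + 1) * e * x ^ (k + 1) = y ^ k * (y * (e * x)) * x ^ k := by
              rw [pow_succ, pow_succ']; simp only [mul_assoc]
          _ = e := by rw [h1, h, ih]
      · subst ih
        rw [zero_add, pow_one, pow_one, mul_assoc, h1, h]
  rcases key n with h3 | h3
  · rw [← h3, hn, mul_zero]
  · subst h3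
    rw [pow_zero] at hn
    rw [← mul_one e, hn, mul_zero]

/-- A left inverse exists iff the element is not nilpotent. -/
theorem exists_left_iff (K : Type*) [Field K] [IsAlgClosed K] {A : Type*} [Ring A] [Algebra K A]
    [Module.Finite K A] {e : A} (he : IsPrim e) {x : A} (h1 : e * x = x) (h2 : x * e = x) :
    (∃ y, e * y = y ∧ y * x = e) ↔ ∀ n : ℕ, x ^ n ≠ 0 := by
  constructor
  · rintro ⟨y, -, hy⟩ n
    exact not_nilp_of_left he.ne h1 hy n
  · intro h
    rcases nilp_or_unit K he h1 h2 with ⟨n, hn⟩ | ⟨y, hy1, -, -, hy⟩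
    · exact absurd hn (h n)
    · exact ⟨y, hy1, hy⟩

/-- A sum of nilpotent elements of a primitive corner is nilpotent. -/
theorem exists_of_sum (K : Type*) [Field K] [IsAlgClosed K] {A : Type*} [Ring A] [Algebra K A]
    [Module.Finite K A] {e : A} (he : IsPrim e) {ι : Type*} (s : Finset ι) :
    ∀ (x : ι → A) (_ : ∀ i, e * x i = x i) (_ : ∀ i, x i * e = x i) (y : A) (_ : e * y = y)
      (_ : y * ∑ i ∈ s, x i = e), ∃ i ∈ s, ∃ z, e * z = z ∧ z * x i = e := by
  classical
  induction s using Finset.induction_on with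
  | empty =>
    intro x _ _ y _ h
    rw [Finset.sum_empty, mul_zero] at h
    exact absurd h.symm he.ne
  | insert a s ha ih =>
    intro x h1 h2 y hy h
    rw [Finset.sum_insert ha, mul_add] at h
    by_cases hu : ∃ z, e * z = z ∧ z * (y * x a) = e
    · obtain ⟨z, hz1, hz⟩ := hu
      exact ⟨a, Finset.mem_insert_self a s, z * y, by rw [← mul_assoc, hz1], by
        rw [mul_assoc, hz]⟩
    · have e1 : e * (y * x a) = y * x a := by rw [← mul_assoc, hy]
      have e2 : y * x a * e = y * x a := by rw [mul_assoc, h2]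
      rw [exists_left_iff K he e1 e2] at hu
      push Not at hu
      obtain ⟨n, hn⟩ := hu
      set w := y * x a with hw
      have hs : y * ∑ i ∈ s, x i = e - w := by rw [← h]; abel
      -- the geometric series
      have hgeo : (e * ∑ i ∈ Finset.range n, w ^ i) * (e - w) = e := by
        have h3 : (∑ i ∈ Finset.range n, w ^ i) * (1 - w) = 1 := by
          rw [geom_sum_mul_neg, hn, sub_zero]
        have h4 : e - w = (1 - w) * e := by rw [sub_mul, one_mul, e2]
        rw [h4, mul_assoc, ← mul_assoc (∑ i ∈ Finset.range n, w ^ i), h3, one_mul, he.idem]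
      obtain ⟨i, hi, z, hz1, hz2⟩ := ih x h1 h2 (e * (∑ i ∈ Finset.range n, w ^ i) * y) (by
        rw [← mul_assoc, ← mul_assoc, he.idem]) (by rw [mul_assoc, hs, hgeo])
      exact ⟨i, Finset.mem_insert_of_mem hi, z, hz1, hz2⟩

/-- **Exchange**: a primitive idempotent below a sum of orthogonal primitive idempotents is
equivalent to one of them. -/
theorem exists_eqv (K : Type*) [Field K] [IsAlgClosed K] {A : Type*} [Ring A] [Algebra K A]
    [Module.Finite K A] {e : A} (he : IsPrim e) {ι : Type*} [Fintype ι] {f : ι → A}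
    (hf : ∀ i, IsPrim (f i)) (h : e * ∑ i, f i = e) : ∃ i, Eqv e (f i) := by
  obtain ⟨i, -, z, hz1, hz⟩ := exists_of_sum K he Finset.univ (fun i => e * f i * e)
    (fun i => by rw [← mul_assoc, ← mul_assoc, he.idem])
    (fun i => by rw [mul_assoc, he.idem]) e he.idem (by
      rw [← Finset.sum_mul, ← Finset.mul_sum, h, he.idem, he.idem])
  refine ⟨i, eqv_of_mul he.idem he.ne (hf i) (x := z * (e * f i)) (y := f i * e) ?_ ?_ ?_ ?_ ?_⟩
  · rw [← mul_assoc, hz1]
  · rw [mul_assoc, mul_assoc, (hf i).idem]
  · rw [← mul_assoc, (hf i).idem]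
  · rw [mul_assoc, he.idem]
  · calc z * (e * f i) * (f i * e) = z * (e * (f i * f i) * e) := by simp only [mul_assoc]
      _ = e := by rw [(hf i).idem, hz]

/-- An idempotent is a sum of orthogonal primitive idempotents. -/
theorem exists_decomp (K : Type*) [Field K] {A : Type*} [Ring A] [Algebra K A]
    [Module.Finite K A] : ∀ (n : ℕ) (f : A) (_ : f * f = f)
      (_ : finrank K (LinearMap.range (LinearMap.mulLeft K f)) ≤ n),
      ∃ (ι : Type) (_ : Fintype ι) (e : ι → A), (∀ i, IsPrim (e i)) ∧
        (∀ i j, i ≠ j → e i * e j = 0) ∧ ∑ i, e i = f := by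
  intro n
  induction n using Nat.strong_induction_on with
  | _ n ih =>
  intro f hf hn
  by_cases h0 : f = 0
  · exact ⟨Empty, inferInstance, fun i => i.elim, fun i => i.elim, fun i => i.elim, by
      rw [h0]; rfl⟩
  by_cases hp : IsPrim f
  · exact ⟨Unit, inferInstance, fun _ => f, fun _ => hp, fun i j hij => absurd rfl hij, by simp⟩
  · have hex : ∃ x : A, x * x = x ∧ f * x = x ∧ x * f = x ∧ x ≠ 0 ∧ x ≠ f := by
      by_contra hcon
      apply hp
      refine ⟨hf, h0, fun x h1 h2 h3 => ?_⟩
      by_contra h4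
      push Not at h4
      exact hcon ⟨x, h1, h2, h3, h4.1, h4.2⟩
    obtain ⟨x, h1, h2, h3, h4, h5⟩ := hex
    have key : ∀ z : A, z * z = z → f * z = z → z * f = z → z ≠ f →
        finrank K (LinearMap.range (LinearMap.mulLeft K z)) <
          finrank K (LinearMap.range (LinearMap.mulLeft K f)) := by
      intro z k1 k2 k3 k4
      apply Submodule.finrank_lt_finrank_of_lt
      refine lt_of_le_of_ne ?_ ?_
      · rintro _ ⟨a, rfl⟩
        exact ⟨z * a, by
          rw [LinearMap.mulLeft_apply, LinearMap.mulLeft_apply, ← mul_assoc, k2]⟩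
      · intro hcon
        have h6 : f ∈ LinearMap.range (LinearMap.mulLeft K z) := by
          rw [hcon]
          exact ⟨1, by rw [LinearMap.mulLeft_apply, mul_one]⟩
        obtain ⟨a, ha⟩ := h6
        rw [LinearMap.mulLeft_apply] at ha
        apply k4
        rw [← k3, ← ha, ← mul_assoc, k1]
    obtain ⟨ι, _, e, he, ho, hs⟩ := ih _ (lt_of_lt_of_le (key x h1 h2 h3 h5) hn) x h1 le_rfl
    have hy1 : (f - x) * (f - x) = f - x := by
      rw [sub_mul, mul_sub, mul_sub, hf, h2, h3, h1, sub_self, sub_zero]
    obtain ⟨ι', _, e', he', ho', hs'⟩ := ih _ (lt_of_lt_of_le (key (f - x) hy1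
      (by rw [mul_sub, hf, h2]) (by rw [sub_mul, hf, h3])
      (fun h => h4 (by rwa [sub_eq_self] at h))) hn) (f - x) hy1 le_rfl
    have hxe : ∀ {κ : Type} [Fintype κ] (u : κ → A) (_ : ∀ i, IsPrim (u i))
        (_ : ∀ i j, i ≠ j → u i * u j = 0) (i : κ), u i * (∑ j, u j) = u i ∧
          (∑ j, u j) * u i = u i := by
      intro κ _ u hu1 hu2 i
      constructor
      · rw [Finset.mul_sum, Finset.sum_eq_single i, (hu1 i).idem]
        · exact fun j _ hj => hu2 i j hj.symm
        · exact fun h => absurd (Finset.mem_univ i) h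
      · rw [Finset.sum_mul, Finset.sum_eq_single i, (hu1 i).idem]
        · exact fun j _ hj => hu2 j i hj
        · exact fun h => absurd (Finset.mem_univ i) h
    have hxy : x * (f - x) = 0 := by rw [mul_sub, h3, h1, sub_self]
    have hyx : (f - x) * x = 0 := by rw [sub_mul, h2, h1, sub_self]
    refine ⟨ι ⊕ ι', inferInstance, Sum.elim e e', ?_, ?_, ?_⟩
    · rintro (i | i)
      · exact he i
      · exact he' i
    · rintro (i | i) (j | j) hij
      · exact ho i j fun h => hij (by rw [h])
      · show e i * e' j = 0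
        rw [← (hxe e he ho i).1, ← (hxe e' he' ho' j).2, hs, hs', mul_assoc, ← mul_assoc x, hxy,
          zero_mul, mul_zero]
      · show e' i * e j = 0
        rw [← (hxe e' he' ho' i).1, ← (hxe e he ho j).2, hs, hs', mul_assoc, ← mul_assoc (f - x),
          hyx, zero_mul, mul_zero]
      · exact ho' i j fun h => hij (by rw [h])
    · rw [Fintype.sum_sum_type]
      simp only [Sum.elim_inl, Sum.elim_inr]
      rw [hs, hs']
      abel

/-- The maximal left ideal of a primitive idempotent. -/
theorem exists_maximal {A : Type*} [Ring A] {e : A} (he : IsPrim e) :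
    ∃ L : Submodule A A, IsSimpleModule A (A ⧸ L) ∧ 1 - e ∈ L ∧ e ∉ L := by
  have h1 : Ideal.span {1 - e} ≠ ⊤ := by
    intro h
    have h2 : (1 : A) ∈ Ideal.span {1 - e} := by rw [h]; exact Submodule.mem_top
    obtain ⟨a, ha⟩ := Ideal.mem_span_singleton'.1 h2
    apply he.ne
    calc e = 1 * e := (one_mul e).symm
      _ = a * (1 - e) * e := by rw [ha]
      _ = 0 := by rw [mul_assoc, sub_mul, one_mul, he.idem, sub_self, mul_zero]
  obtain ⟨L, hL, hle⟩ := Ideal.exists_le_maximal _ h1
  have h2 : 1 - e ∈ L := hle (Ideal.subset_span rfl)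
  refine ⟨L, ?_, h2, fun h3 => ?_⟩
  · rw [isSimpleModule_iff_isCoatom]
    exact hL.out
  · apply hL.ne_top
    rw [Ideal.eq_top_iff_one]
    have := L.add_mem h2 h3
    rwa [sub_add_cancel] at this

/-- Isomorphic simple modules belong to equivalent primitive idempotents. -/
theorem eqv_of_equiv (K : Type*) [Field K] [IsAlgClosed K] {A : Type*} [Ring A] [Algebra K A]
    [Module.Finite K A] {e f : A} (he : IsPrim e) (hf : IsPrim f) {L L' : Submodule A A}
    (hL : IsSimpleModule A (A ⧸ L)) (h1 : 1 - e ∈ L) (h2 : e ∉ L) (h1' : 1 - f ∈ L')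
    (h2' : f ∉ L') (φ : (A ⧸ L) ≃ₗ[A] (A ⧸ L')) : Eqv e f := by
  set v : A ⧸ L := Submodule.Quotient.mk 1 with hv
  set v' : A ⧸ L' := Submodule.Quotient.mk 1 with hv'
  have hev : e • v = v := by
    rw [hv, ← Submodule.Quotient.mk_smul, smul_eq_mul, mul_one, eq_comm, Submodule.Quotient.eq]
    exact h1
  have hfv' : f • v' = v' := by
    rw [hv', ← Submodule.Quotient.mk_smul, smul_eq_mul, mul_one, eq_comm, Submodule.Quotient.eq]
    exact h1'
  have hv0 : v ≠ 0 := by
    intro h
    rw [hv, Submodule.Quotient.mk_eq_zero] at h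
    exact h2 (by simpa using L.smul_mem e h)
  have hv0' : v' ≠ 0 := by
    intro h
    rw [hv', Submodule.Quotient.mk_eq_zero] at h
    exact h2' (by simpa using L'.smul_mem f h)
  set u : A ⧸ L := φ.symm v' with hu
  have hu0 : u ≠ 0 := by
    intro h
    apply hv0'
    rw [← φ.apply_symm_apply v', ← hu, h, map_zero]
  have hfu : f • u = u := by rw [hu, ← map_smul, hfv']
  -- `u = a v` and `v = b u`
  obtain ⟨a, ha⟩ : ∃ a : A, a • v = u := by
    obtain ⟨a, ha⟩ := Submodule.Quotient.mk_surjective L u
    exact ⟨a, by rw [← ha, hv, ← Submodule.Quotient.mk_smul, smul_eq_mul, mul_one]⟩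
  obtain ⟨b, hb⟩ : ∃ b : A, b • u = v := by
    have h3 : Submodule.span A {u} = ⊤ := by
      rcases hL.eq_bot_or_eq_top (Submodule.span A {u}) with h | h
      · rw [Submodule.span_singleton_eq_bot] at h
        exact absurd h hu0
      · exact h
    have h4 : v ∈ Submodule.span A {u} := by rw [h3]; exact Submodule.mem_top
    exact Submodule.mem_span_singleton.1 h4
  -- `x = e b f`, `y = f a e`
  set x := e * b * f with hx
  set y := f * a * e with hy
  have hyv : y • v = u := by rw [hy, mul_smul, mul_smul, hev, ha, hfu]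
  have hxu : x • u = v := by rw [hx, mul_smul, mul_smul, hfu, hb, hev]
  have hxy : (x * y) • v = v := by rw [mul_smul, hyv, hxu]
  have e1' : e * x = x := by rw [hx, ← mul_assoc, ← mul_assoc, he.idem]
  have e2' : y * e = y := by rw [hy, mul_assoc, he.idem]
  have e1 : e * (x * y) = x * y := by rw [← mul_assoc, e1']
  have e2 : x * y * e = x * y := by rw [mul_assoc, e2']
  have hnn : ∀ n : ℕ, (x * y) ^ n ≠ 0 := by
    intro n hn
    apply hv0
    have : ∀ k : ℕ, (x * y) ^ k • v = v := by
      intro k
      induction k with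
      | zero => rw [pow_zero, one_smul]
      | succ k ih => rw [pow_succ, mul_smul, hxy, ih]
    rw [← this n, hn, zero_smul]
  obtain ⟨z, hz1, hz⟩ := (exists_left_iff K he e1 e2).2 hnn
  refine eqv_of_mul he.idem he.ne hf (x := z * x) (y := y) ?_ ?_ ?_ ?_ ?_
  · rw [← mul_assoc, hz1]
  · rw [hx, mul_assoc, mul_assoc _ f f, hf.idem]
  · rw [hy, ← mul_assoc, ← mul_assoc, hf.idem]
  · rw [hy, mul_assoc, he.idem]
  · rw [mul_assoc, hz]

end Cfsg.Agent.H646.PrimIdem
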