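import Cfsg.Agent.H645.IdemSys
import Cfsg.Agent.H646.PrimIdem
import Cfsg.Agent.H646.RankIdem
import Cfsg.Agent.H646.RankTrace
import Cfsg.Agent.H646.ProjLat
import Cfsg.Agent.H653.RankBound
import Cfsg.Agent.Characters.CCBasic

/-!
# Projective indecomposable characters of a block

`val χ a` is the value of `χ` on the element `a` of the group algebra over the local ring.

* `exists_pims` : representatives `e i` of the classes of primitive idempotents of a block; there
  are `l(B)` of them and the vectors `(val χ (e i))_χ` are linearly independent;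
* `exists_int_of_vanish` : generalized characters in `B` vanishing off the `p`-regular elements are
  integral combinations of these.
-/

set_option autoImplicit false
set_option linter.unusedSectionVars false

namespace Cfsg.Agent.H646.Pims

open Cfsg Module
open Cfsg.Agent.H644 Cfsg.Agent.H645.IdemSys Cfsg.Agent.H645.Idem Cfsg.Agent.H646.PrimIdem
open Cfsg.Agent.Blocks.Central Cfsg.Agent.Blocks.Local Cfsg.Agent.Blocks.Osima
open Cfsg.Agent.H646.RankTrace Cfsg.Agent.H646.RegInner
open scoped ComplexConjugate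

universe u

variable {G : Type u} [Group G] [Finite G] {p : ℕ} {M : Ideal AlgInt} [M.IsPrime]

omit [Finite G] in
theorem chExt_mul_comm' {χ : G → ℂ} (hχ : IsClassFunction G χ) (x y : MonoidAlgebra ℂ G) :
    chExt χ (x * y) = chExt χ (y * x) := by
  induction x using MonoidAlgebra.induction_linear with
  | zero => rw [zero_mul, mul_zero]
  | add a b ha hb => rw [add_mul, mul_add, map_add, map_add, ha, hb]
  | single g c =>
    induction y using MonoidAlgebra.induction_linear with
    | zero => rw [zero_mul, mul_zero]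
    | add a b ha hb => rw [add_mul, mul_add, map_add, map_add, ha, hb]
    | single h d =>
      rw [MonoidAlgebra.single_mul_single, MonoidAlgebra.single_mul_single, chExt_single,
        chExt_single, mul_comm d c]
      congr 1
      have := hχ (g * h) h
      rw [← this]
      congr 1
      group

/-- The value of a function on an element of the group algebra over the local ring. -/
noncomputable def val (χ : G → ℂ) (a : MonoidAlgebra (localRing M) G) : ℂ :=
  chExt χ (mapC M G a)

omit [Finite G] in
theorem val_def (χ : G → ℂ) (a : MonoidAlgebra (localRing M) G) :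
    val χ a = chExt χ (mapC M G a) := rfl

theorem val_apply [Fintype G] (χ : G → ℂ) (a : MonoidAlgebra (localRing M) G) :
    val χ a = ∑ g, (a.coeff g : ℂ) * χ g := by
  rw [val_def, chExt_apply]
  simp only [coeff_mapC]

theorem val_zero (χ : G → ℂ) : val χ (0 : MonoidAlgebra (localRing M) G) = 0 := by
  rw [val_def, map_zero, map_zero]

theorem val_add (χ : G → ℂ) (a b : MonoidAlgebra (localRing M) G) :
    val χ (a + b) = val χ a + val χ b := by
  rw [val_def, map_add, map_add]; rfl

theorem val_sum (χ : G → ℂ) {ι : Type*} (s : Finset ι) (a : ι → MonoidAlgebra (localRing M) G) :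
    val χ (∑ i ∈ s, a i) = ∑ i ∈ s, val χ (a i) := by
  rw [val_def, map_sum, map_sum]; rfl

theorem val_mul_comm {χ : G → ℂ} (hχ : IsClassFunction G χ)
    (a b : MonoidAlgebra (localRing M) G) : val χ (a * b) = val χ (b * a) := by
  rw [val_def, val_def, map_mul (mapC M G), map_mul (mapC M G), chExt_mul_comm' hχ]

theorem val_one (χ : G → ℂ) : val χ (1 : MonoidAlgebra (localRing M) G) = χ 1 := by
  rw [val_def, map_one, chExt_one]

theorem val_eq_of_eqv {χ : G → ℂ} (hχ : IsClassFunction G χ)
    {e f : MonoidAlgebra (localRing M) G} (he : e * e = e) (hf : f * f = f)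
    (h : Eqv (mapR M G e) (mapR M G f)) : val χ e = val χ f := by
  obtain ⟨x, y, h1, h2, h3, h4, h5, h6⟩ := h
  obtain ⟨x', y', -, -, -, -, k5, k6, -⟩ := exists_conj sys redMap he hf (x := x) (y := y)
    (by rw [h1, h2]) (by rw [h3, h4]) h5 h6
  rw [← k5, ← k6, val_mul_comm hχ]

/-- The value of a character on an idempotent is a natural number. -/
theorem exists_nat_val {χ : G → ℂ} (hχ : IsCharacter G χ)
    {e : MonoidAlgebra (localRing M) G} (he : e * e = e) : ∃ n : ℕ, val χ e = n := by
  classical
  obtain ⟨n, ρ, rfl⟩ := hχ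
  have h1 := trace_asAlgebraHom ρ (mapC M G e)
  have h2 : IsIdempotentElem (ρ.asAlgebraHom (mapC M G e)) := by
    unfold IsIdempotentElem
    rw [← map_mul, ← map_mul, he]
  have h3 := (LinearMap.IsIdempotentElem.isProj_range _ h2).trace
  exact ⟨_, by rw [val_def, ← h1, h3]⟩

/-- The block idempotent over the local ring. -/
noncomputable def blockR (hM : IsPModular p M) {B : Set (IrrCharacter G)} (hB : IsUnion M B) :
    MonoidAlgebra (localRing M) G :=
  ofR fun g => ⟨blockCoeff B g, memLocalRing_blockCoeff hM hB g⟩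

theorem mapC_blockR (hM : IsPModular p M) {B : Set (IrrCharacter G)} (hB : IsUnion M B) :
    mapC M G (blockR hM hB) = irrIdem B := by
  apply Cfsg.Agent.H645.IdemSys.ext_coeff
  intro g
  rw [coeff_mapC, blockR, coeff_ofR, coeff_irrIdem]

theorem mapR_blockR (hM : IsPModular p M) {B : Set (IrrCharacter G)} (hB : IsUnion M B) :
    mapR M G (blockR hM hB) = idem M B := by
  rw [mapR_eq_toK, mapC_blockR]
  rfl

theorem blockR_mul_self (hM : IsPModular p M) {B : Set (IrrCharacter G)} (hB : IsUnion M B) :
    blockR hM hB * blockR hM hB = blockR hM hB := by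
  apply mapC_injective
  rw [map_mul, mapC_blockR, irrIdem_mul_self]

theorem blockR_comm (hM : IsPModular p M) {B : Set (IrrCharacter G)} (hB : IsUnion M B)
    (a : MonoidAlgebra (localRing M) G) : blockR hM hB * a = a * blockR hM hB := by
  apply mapC_injective
  rw [map_mul, map_mul, mapC_blockR]
  exact (Subalgebra.mem_center_iff.1 (irrIdem_mem_center B) _).symm

theorem val_blockR_of_mem (hM : IsPModular p M) {B : Set (IrrCharacter G)} (hB : IsUnion M B)
    {χ : IrrCharacter G} (hχ : χ ∈ B) (a : MonoidAlgebra (localRing M) G) :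
    val (χ : G → ℂ) (blockR hM hB * a) = val (χ : G → ℂ) a := by
  rw [val_def, map_mul, mapC_blockR, chExt_mul χ.2 (irrIdem_mem_center B),
    omegaL_irrIdem_of_mem hχ, one_mul]
  rfl

theorem val_blockR_of_notMem (hM : IsPModular p M) {B : Set (IrrCharacter G)} (hB : IsUnion M B)
    {χ : IrrCharacter G} (hχ : χ ∉ B) (a : MonoidAlgebra (localRing M) G) :
    val (χ : G → ℂ) (blockR hM hB * a) = 0 := by
  rw [val_def, map_mul, mapC_blockR, chExt_mul χ.2 (irrIdem_mem_center B),
    omegaL_irrIdem_of_notMem hχ, zero_mul]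

omit [Finite G] in
theorem isAlgClosed (hM : IsPModular p M) : IsAlgClosed (ResField M) :=
  have := isMaximal_of_isPModular hM
  Cfsg.Agent.Blocks.CyclicAssembly.isAlgClosed_resField

/-- Decomposition of an idempotent over the local ring. -/
theorem exists_decompR {f : MonoidAlgebra (localRing M) G} (hf : f * f = f) :
    ∃ (n : ℕ) (e : Fin n → MonoidAlgebra (localRing M) G), (∀ i, e i * e i = e i) ∧
      (∀ i j, i ≠ j → e i * e j = 0) ∧ ∑ i, e i = f ∧ ∀ i, IsPrim (mapR M G (e i)) := by
  classical
  have h1 : mapR M G f * mapR M G f = mapR M G f := by rw [← map_mul, hf]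
  obtain ⟨ι, _, b, hb, ho, hs⟩ := exists_decomp (ResField M) _ (mapR M G f) h1 le_rfl
  let E := Fintype.equivFin ι
  obtain ⟨e, he, heo, hes, her⟩ := exists_lift_family (n := Fintype.card ι) sys redMap hf
    (fun i => b (E.symm i)) (fun i => (hb _).idem)
    (fun i j hij => ho _ _ fun h => hij (E.symm.injective h)) (by
      rw [← hs]
      exact Equiv.sum_comp E.symm b)
  exact ⟨_, e, he, heo, hes, fun i => by rw [her]; exact hb _⟩

theorem mul_of_sum {A : Type*} [Ring A] {n : ℕ} {e : Fin n → A} {f : A} (he : ∀ i, e i * e i = e i)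
    (ho : ∀ i j, i ≠ j → e i * e j = 0) (hs : ∑ i, e i = f) (i : Fin n) :
    f * e i = e i ∧ e i * f = e i := by
  rw [← hs, Finset.sum_mul, Finset.mul_sum]
  constructor
  · rw [Finset.sum_eq_single i (fun j _ hj => ho j i hj) (fun h => absurd (Finset.mem_univ i) h),
      he]
  · rw [Finset.sum_eq_single i (fun j _ hj => ho i j hj.symm)
      (fun h => absurd (Finset.mem_univ i) h), he]

theorem val_add_left (χ ψ : G → ℂ) (a : MonoidAlgebra (localRing M) G) :
    val (χ + ψ) a = val χ a + val ψ a := by
  have := Fintype.ofFinite G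
  rw [val_apply, val_apply, val_apply, ← Finset.sum_add_distrib]
  exact Finset.sum_congr rfl fun g _ => by rw [Pi.add_apply, mul_add]

theorem val_smul_left (c : ℂ) (χ : G → ℂ) (a : MonoidAlgebra (localRing M) G) :
    val (c • χ) a = c * val χ a := by
  have := Fintype.ofFinite G
  rw [val_apply, val_apply, Finset.mul_sum]
  exact Finset.sum_congr rfl fun g _ => by rw [Pi.smul_apply, smul_eq_mul]; ring

theorem val_zero_left (a : MonoidAlgebra (localRing M) G) : val (0 : G → ℂ) a = 0 := by
  have := Fintype.ofFinite G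
  rw [val_apply]
  exact Finset.sum_eq_zero fun g _ => by rw [Pi.zero_apply, mul_zero]

theorem val_sum_left {ι : Type*} (s : Finset ι) (χ : ι → G → ℂ)
    (a : MonoidAlgebra (localRing M) G) : val (∑ i ∈ s, χ i) a = ∑ i ∈ s, val (χ i) a := by
  classical
  induction s using Finset.induction_on with
  | empty => rw [Finset.sum_empty, Finset.sum_empty, val_zero_left]
  | insert i s hi ih => rw [Finset.sum_insert hi, Finset.sum_insert hi, val_add_left, ih]

/-- The idempotent of a linear character of a `p'`-subgroup. -/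
noncomputable def linR (hM : IsPModular p M) (H : Subgroup G)
    (hH : ¬ p ∣ Nat.card H) (lam : H →* ℂˣ) : MonoidAlgebra (localRing M) G :=
  open scoped Classical in
  ofR fun g => if h : g ∈ H then ⟨(Nat.card H : ℂ)⁻¹ * ((lam ⟨g, h⟩)⁻¹ : ℂˣ), by
    refine memLocalRing_mul (memLocalRing_inv_natCast hM hH) (memLocalRing_of_isIntegral ?_)
    have h1 : ((lam ⟨g, h⟩)⁻¹ : ℂˣ) ^ Nat.card H = 1 := by
      rw [inv_pow, ← map_pow, pow_card_eq_one', map_one, inv_one]
    have h2 : (((lam ⟨g, h⟩)⁻¹ : ℂˣ) : ℂ) ^ Nat.card H = 1 := by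
      rw [← Units.val_pow_eq_pow_val, h1, Units.val_one]
    exact IsIntegral.of_pow (Nat.card_pos) (by rw [h2]; exact isIntegral_one)⟩ else 0

theorem coeff_linR_of_mem (hM : IsPModular p M) (H : Subgroup G)
    (hH : ¬ p ∣ Nat.card H) (lam : H →* ℂˣ) {g : G} (hg : g ∈ H) :
    (((linR hM H hH lam).coeff g : localRing M) : ℂ) =
      (Nat.card H : ℂ)⁻¹ * ((lam ⟨g, hg⟩)⁻¹ : ℂˣ) := by
  rw [linR, coeff_ofR, dif_pos hg]

theorem coeff_linR_of_notMem (hM : IsPModular p M) (H : Subgroup G)
    (hH : ¬ p ∣ Nat.card H) (lam : H →* ℂˣ) {g : G} (hg : g ∉ H) :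
    (((linR hM H hH lam).coeff g : localRing M) : ℂ) = 0 := by
  rw [linR, coeff_ofR, dif_neg hg]
  rfl

theorem linR_mul_self (hM : IsPModular p M) (H : Subgroup G)
    (hH : ¬ p ∣ Nat.card H) (lam : H →* ℂˣ) :
    linR hM H hH lam * linR hM H hH lam = linR hM H hH lam := by
  classical
  have := Fintype.ofFinite G
  have hc : (Nat.card H : ℂ) ≠ 0 := Nat.cast_ne_zero.2 Nat.card_pos.ne'
  apply mapC_injective
  rw [map_mul]
  apply Cfsg.Agent.H645.IdemSys.ext_coeff
  intro g
  rw [H644.coeff_mul_eq_sum]
  simp only [coeff_mapC]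
  rw [← Finset.sum_subset (Finset.subset_univ (Finset.univ.filter fun g : G => g ∈ H)) (by
    intro a _ ha
    rw [coeff_linR_of_notMem hM H hH lam (by simpa using ha), zero_mul])]
  by_cases hg : g ∈ H
  · have h1 : ∀ a ∈ Finset.univ.filter (fun g : G => g ∈ H),
        (((linR hM H hH lam).coeff a : localRing M) : ℂ) *
          ((linR hM H hH lam).coeff (a⁻¹ * g) : localRing M) =
        (Nat.card H : ℂ)⁻¹ * (Nat.card H : ℂ)⁻¹ * ((lam ⟨g, hg⟩)⁻¹ : ℂˣ) := by
      intro a ha
      have ha' : a ∈ H := by simpa using ha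
      have hag : a⁻¹ * g ∈ H := H.mul_mem (H.inv_mem ha') hg
      rw [coeff_linR_of_mem hM H hH lam ha', coeff_linR_of_mem hM H hH lam hag]
      have h2 : (⟨g, hg⟩ : H) = ⟨a, ha'⟩ * ⟨a⁻¹ * g, hag⟩ := by
        apply Subtype.ext
        simp
      rw [h2, map_mul, mul_inv, Units.val_mul]
      ring
    rw [Finset.sum_congr rfl h1, Finset.sum_const, coeff_linR_of_mem hM H hH lam hg, nsmul_eq_mul]
    have h3 : (Finset.univ.filter (fun g : G => g ∈ H)).card = Nat.card H := by
      rw [Nat.card_eq_fintype_card, Fintype.card_subtype]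
    rw [h3]
    field_simp
  · rw [coeff_linR_of_notMem hM H hH lam hg]
    refine Finset.sum_eq_zero fun a ha => ?_
    have ha' : a ∈ H := by simpa using ha
    rw [coeff_linR_of_notMem hM H hH lam (g := a⁻¹ * g) (fun h => hg (by
      have := H.mul_mem ha' h
      rwa [mul_inv_cancel_left] at this)), mul_zero]

theorem val_linR (hM : IsPModular p M) (H : Subgroup G) [Fintype H]
    (hH : ¬ p ∣ Nat.card H) (lam : H →* ℂˣ) (χ : G → ℂ) :
    val χ (linR hM H hH lam) = (Nat.card H : ℂ)⁻¹ * ∑ h : H, χ h * ((lam h)⁻¹ : ℂˣ) := by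
  classical
  have := Fintype.ofFinite G
  rw [val_apply, ← Finset.sum_subset (Finset.subset_univ (Finset.univ.filter fun g : G => g ∈ H))
    (by
      intro a _ ha
      rw [coeff_linR_of_notMem hM H hH lam (by simpa using ha), zero_mul]),
    Finset.sum_subtype (p := fun g : G => g ∈ H) _ (by simp), Finset.mul_sum]
  refine Finset.sum_congr rfl fun h _ => ?_
  rw [coeff_linR_of_mem hM H hH lam h.2]
  ring

theorem conj_units_of_pow {z : ℂˣ} {n : ℕ} (hn : n ≠ 0) (hz : z ^ n = 1) :
    conj (z : ℂ) = ((z⁻¹ : ℂˣ) : ℂ) := by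
  have h1 : ((z : ℂ)) ^ n = 1 := by rw [← Units.val_pow_eq_pow_val, hz, Units.val_one]
  have h2 : ‖(z : ℂ)‖ = 1 := Complex.norm_eq_one_of_pow_eq_one h1 hn
  rw [Units.val_inv_eq_inv_val, Complex.inv_def, Complex.normSq_eq_norm_sq, h2]
  simp

theorem val_linR_eq_classInner (hM : IsPModular p M) (H : Subgroup G) [Fintype H]
    (hH : ¬ p ∣ Nat.card H) (lam : H →* ℂˣ) (χ : G → ℂ) :
    val χ (linR hM H hH lam) = classInner (fun h : H => χ h) (fun h : H => (lam h : ℂ)) := by
  rw [val_linR]
  show _ = (Nat.card H : ℂ)⁻¹ * ∑ h : H, χ h * conj (lam h : ℂ)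
  congr 1
  refine Finset.sum_congr rfl fun h _ => ?_
  rw [conj_units_of_pow (n := Nat.card H) Nat.card_pos.ne' (by
    rw [← map_pow, pow_card_eq_one', map_one])]

section Block

variable (hM : IsPModular p M) {B : Set (IrrCharacter G)} (hB : IsPBlock M B)

omit [M.IsPrime] in
include hM hB in
theorem mem_span_of_mem_regSpan [Fact p.Prime] {f : G → ℂ} (hf : f ∈ regSpan p B) :
    f ∈ Submodule.span ℂ ((fun χ : IrrCharacter G => (χ : G → ℂ)) '' B) := by
  classical
  have := Fintype.ofFinite G
  have : Finite (IrrCharacter G) := Characters.Core.finite_irr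
  have := Fintype.ofFinite (IrrCharacter G)
  refine Submodule.span_induction ?_ (Submodule.zero_mem _)
    (fun a b _ _ ha hb => Submodule.add_mem _ ha hb)
    (fun c a _ ha => Submodule.smul_mem _ _ ha) hf
  rintro _ ⟨χ, hχ, rfl⟩
  show pRegularPart p (χ : G → ℂ) ∈ _
  rw [pRegularPart_eq_sum hM hB hχ]
  refine Submodule.sum_mem _ fun ψ hψ => Submodule.smul_mem _ _ ?_
  exact Submodule.subset_span ⟨ψ, (Finset.mem_filter.1 hψ).2, rfl⟩

omit [Finite G] in
theorem isClassFunction_of_span {f : G → ℂ}
    (hf : f ∈ Submodule.span ℂ ((fun χ : IrrCharacter G => (χ : G → ℂ)) '' B)) :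
    IsClassFunction G f := by
  refine Submodule.span_induction ?_ ?_ ?_ ?_ hf
  · rintro _ ⟨χ, -, rfl⟩
    exact Blocks.Basic.irr_isClassFunction χ.2
  · intro g h; rfl
  · intro a b _ _ ha hb g h
    rw [Pi.add_apply, Pi.add_apply, ha, hb]
  · intro c a _ ha g h
    rw [Pi.smul_apply, Pi.smul_apply, ha]

include hM in
theorem val_blockR_of_span (hBu : IsUnion M B) {f : G → ℂ}
    (hf : f ∈ Submodule.span ℂ ((fun χ : IrrCharacter G => (χ : G → ℂ)) '' B))
    (a : MonoidAlgebra (localRing M) G) : val f (blockR hM hBu * a) = val f a := by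
  refine Submodule.span_induction ?_ ?_ ?_ ?_ hf
  · rintro _ ⟨χ, hχ, rfl⟩
    exact val_blockR_of_mem hM hBu hχ a
  · rw [val_zero_left, val_zero_left]
  · intro x y _ _ hx hy
    rw [val_add_left, val_add_left, hx, hy]
  · intro c x _ hx
    rw [val_smul_left, val_smul_left, hx]

omit [Finite G] in
theorem eq_zero_of_mem_regSpan {f : G → ℂ} (hf : f ∈ regSpan p B) {g : G}
    (hg : ¬ IsPRegular p g) : f g = 0 := by
  refine Submodule.span_induction ?_ ?_ ?_ ?_ hf
  · rintro _ ⟨χ, -, rfl⟩
    exact pRegularPart_of_dvd (not_not.mp hg)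
  · rfl
  · intro x y _ _ hx hy
    rw [Pi.add_apply, hx, hy, add_zero]
  · intro c x _ hx
    rw [Pi.smul_apply, hx, smul_zero]

include hM hB in
/-- An element of the span of the `p`-regular parts with vanishing values on the idempotents of the
block is zero. -/
theorem eq_zero_of_val [Fact p.Prime] (hBu : IsUnion M B) {f : G → ℂ} (hf : f ∈ regSpan p B)
    (h : ∀ e : MonoidAlgebra (localRing M) G, e * e = e → blockR hM hBu * e = e → val f e = 0) :
    f = 0 := by
  classical
  have := Fintype.ofFinite G
  have hspan := mem_span_of_mem_regSpan hM hB hf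
  have hcl := isClassFunction_of_span hspan
  funext g
  by_cases hg : IsPRegular p g
  · have hcard : ¬ p ∣ Nat.card (Subgroup.zpowers g) := by
      rw [Nat.card_zpowers]
      exact hg
    have hcommH : ∀ a b : Subgroup.zpowers g, a * b = b * a := fun a b => mul_comm' a b
    have h1 : (fun x : Subgroup.zpowers g => f x) = (0 : Subgroup.zpowers g → ℂ) := by
      refine Characters.Core.classFunction_eq_zero (fun a b => by
        show f ((b * a * b⁻¹ : Subgroup.zpowers g) : G) = f a
        rw [hcommH b a, mul_inv_cancel_right]) ?_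
      intro χ hχ
      obtain ⟨lam, rfl⟩ := Characters.CCBasic.exists_hom_of_comm hcommH hχ
      rw [← val_linR_eq_classInner hM _ hcard lam, ← val_blockR_of_span hM hBu hspan]
      refine h _ ?_ ?_
      · rw [← mul_assoc, mul_assoc (blockR hM hBu), ← blockR_comm, ← mul_assoc, blockR_mul_self,
          mul_assoc, linR_mul_self]
      · rw [← mul_assoc, blockR_mul_self]
    exact congrFun h1 ⟨g, Subgroup.mem_zpowers g⟩
  · exact eq_zero_of_mem_regSpan hf hg


theorem sum_comp_eq {ι κ : Type*} [Fintype ι] [Fintype κ] [DecidableEq κ] (h : ι → κ) (F : κ → ℂ) :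
    ∑ i, F (h i) = ∑ q, ((Finset.univ.filter fun i => h i = q).card : ℂ) * F q := by
  rw [← Finset.sum_fiberwise Finset.univ h]
  refine Finset.sum_congr rfl fun q _ => ?_
  rw [← nsmul_eq_mul, ← Finset.sum_const]
  exact Finset.sum_congr rfl fun i hi => by rw [(Finset.mem_filter.1 hi).2]

include hM hB in
/-- **Projective indecomposable characters of a block.** -/
theorem exists_pims [Fact p.Prime] (hBu : IsUnion M B) :
    ∃ (ι : Type) (_ : Fintype ι) (e : ι → MonoidAlgebra (localRing M) G) (n : ι → ℕ),
      (∀ i, e i * e i = e i) ∧ (∀ i, IsPrim (mapR M G (e i))) ∧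
      (∀ i, blockR hM hBu * e i = e i) ∧ (∀ i, 0 < n i) ∧
      (∀ f : MonoidAlgebra (localRing M) G, f * f = f → blockR hM hBu * f = f →
        ∃ m : ι → ℕ, ∀ χ : G → ℂ, IsClassFunction G χ → val χ f = ∑ i, (m i : ℂ) * val χ (e i)) ∧
      (∀ χ : G → ℂ, IsClassFunction G χ → val χ (blockR hM hBu) = ∑ i, (n i : ℂ) * val χ (e i)) ∧
      Fintype.card ι = blockRank p B ∧
      LinearIndependent ℂ (fun (i : ι) (χ : IrrCharacter G) => val (χ : G → ℂ) (e i)) := by
  classical
  have halg := isAlgClosed hM
  obtain ⟨n, e, he, ho, hs, hp⟩ := exists_decompR (blockR_mul_self hM hBu)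
  have hble : ∀ i, blockR hM hBu * e i = e i := fun i => (mul_of_sum he ho hs i).1
  let st : Setoid (Fin n) :=
    { r := fun i j => Eqv (mapR M G (e i)) (mapR M G (e j))
      iseqv := ⟨fun i => Eqv.refl (hp i).idem, fun h => h.symm, fun h h' => h.trans h'⟩ }
  have hout : ∀ i : Fin n, Eqv (mapR M G (e i)) (mapR M G (e (Quotient.mk st i).out)) := by
    intro i
    exact (Quotient.exact (Quotient.out_eq (Quotient.mk st i))).symm
  have hval : ∀ χ : G → ℂ, IsClassFunction G χ → ∀ i : Fin n,
      val χ (e i) = val χ (e (Quotient.mk st i).out) := fun χ hχ i =>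
    val_eq_of_eqv hχ (he _) (he _) (hout i)
  let Q := Quotient st
  have hFQ : Fintype Q := Fintype.ofFinite Q
  -- completeness
  have hcomp : ∀ f : MonoidAlgebra (localRing M) G, f * f = f → blockR hM hBu * f = f →
      ∃ m : Q → ℕ, ∀ χ : G → ℂ, IsClassFunction G χ →
        val χ f = ∑ q, (m q : ℂ) * val χ (e q.out) := by
    intro f hf hbf
    obtain ⟨k, f', hf', hof, hsf, hpf⟩ := exists_decompR hf
    have hex : ∀ j, ∃ i, Eqv (mapR M G (f' j)) (mapR M G (e i)) := by
      intro j
      refine exists_eqv (ResField M) (hpf j) hp ?_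
      rw [← map_sum, hs, ← map_mul, ← blockR_comm]
      congr 1
      rw [← (mul_of_sum hf' hof hsf j).1, ← mul_assoc, hbf]
    choose h hh using hex
    refine ⟨fun q => (Finset.univ.filter fun j => Quotient.mk st (h j) = q).card, fun χ hχ => ?_⟩
    rw [← hsf, val_sum, ← sum_comp_eq (fun j => Quotient.mk st (h j)) fun q => val χ (e q.out)]
    refine Finset.sum_congr rfl fun j _ => ?_
    rw [val_eq_of_eqv hχ (hf' j) (he (h j)) (hh j), hval χ hχ]
  -- the upper bound
  have hle : Fintype.card Q ≤ blockRank p B := by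
    rw [← Nat.card_eq_fintype_card]
    have hL := fun q : Q => exists_maximal (hp q.out)
    choose L hL1 hL2 hL3 using hL
    refine Cfsg.Agent.H653.RankBound.card_le_blockRank_of_simple hM hB L hL1 ?_ ?_
    · intro q w
      obtain ⟨a, rfl⟩ := Submodule.Quotient.mk_surjective _ w
      rw [← Submodule.Quotient.mk_smul, Submodule.Quotient.eq, smul_eq_mul]
      have h1 : idem M B * mapR M G (e q.out) = mapR M G (e q.out) := by
        rw [← mapR_blockR hM hBu, ← map_mul, hble]
      have h2 : idem M B * a - a = (a * (idem M B - 1)) * (1 - mapR M G (e q.out)) := by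
        rw [mul_sub, mul_one, mul_sub, mul_one, sub_mul, mul_assoc a, h1,
          isCls_comm (isCls_idem B) a]
        abel
      rw [h2]
      exact (L q).smul_mem _ (hL2 q)
    · intro q q' hqq
      refine ⟨fun φ => hqq ?_⟩
      have h1 := eqv_of_equiv (ResField M) (hp q.out) (hp q'.out) (hL1 q) (hL2 q) (hL3 q)
        (hL2 q') (hL3 q') φ
      rw [← Quotient.out_eq q, ← Quotient.out_eq q']
      exact Quotient.sound h1
  -- the values on the span of the regular parts
  let T : regSpan p B →ₗ[ℂ] (Q → ℂ) :=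
    { toFun := fun f q => val (f : G → ℂ) (e q.out)
      map_add' := fun f f' => by funext q; exact val_add_left _ _ _
      map_smul' := fun c f => by funext q; exact val_smul_left _ _ _ }
  have hTinj : Function.Injective T := by
    rw [injective_iff_map_eq_zero]
    intro f hf
    apply Subtype.ext
    refine eq_zero_of_val hM hB hBu f.2 fun e' he' hbe' => ?_
    obtain ⟨m, hm⟩ := hcomp e' he' hbe'
    rw [hm _ (isClassFunction_of_span (mem_span_of_mem_regSpan hM hB f.2))]
    refine Finset.sum_eq_zero fun q _ => ?_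
    have : val (f : G → ℂ) (e q.out) = 0 := congrFun hf q
    rw [this, mul_zero]
  have hge : blockRank p B ≤ Fintype.card Q := by
    have := LinearMap.finrank_le_finrank_of_injective hTinj
    rwa [Module.finrank_fintype_fun_eq_card] at this
  have hcard : Fintype.card Q = blockRank p B := le_antisymm hle hge
  have hTsurj : Function.Surjective T := by
    rw [← LinearMap.injective_iff_surjective_of_finrank_eq_finrank]
    · exact hTinj
    · rw [Module.finrank_fintype_fun_eq_card, hcard]
      rfl
  have hlin : LinearIndependent ℂ (fun (q : Q) (χ : IrrCharacter G) => val (χ : G → ℂ) (e q.out)) := by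
    rw [Fintype.linearIndependent_iff]
    intro c hc q₀
    have h1 : ∀ χ : IrrCharacter G, ∑ q, c q * val (χ : G → ℂ) (e q.out) = 0 := by
      intro χ
      have := congrFun hc χ
      rw [Finset.sum_apply] at this
      simpa using this
    have h2 : ∀ f ∈ Submodule.span ℂ ((fun χ : IrrCharacter G => (χ : G → ℂ)) '' B),
        ∑ q, c q * val f (e q.out) = 0 := by
      intro f hf
      refine Submodule.span_induction ?_ ?_ ?_ ?_ hf
      · rintro _ ⟨χ, -, rfl⟩
        exact h1 χ
      · exact Finset.sum_eq_zero fun q _ => by rw [val_zero_left, mul_zero]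
      · intro x y _ _ hx hy
        simp only [val_add_left, mul_add, Finset.sum_add_distrib, hx, hy, add_zero]
      · intro d x _ hx
        have : ∀ q : Q, c q * val (d • x) (e q.out) = d * (c q * val x (e q.out)) := by
          intro q
          rw [val_smul_left]
          ring
        rw [Finset.sum_congr rfl fun q _ => this q, ← Finset.mul_sum, hx, mul_zero]
    obtain ⟨f, hf⟩ := hTsurj (Pi.single q₀ 1)
    have h3 := h2 f (mem_span_of_mem_regSpan hM hB f.2)
    have h4 : ∀ q : Q, val (f : G → ℂ) (e q.out) = (Pi.single q₀ (1 : ℂ) : Q → ℂ) q :=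
      fun q => congrFun hf q
    simp only [h4] at h3
    rw [Finset.sum_eq_single q₀ (fun q _ hq => by rw [Pi.single_eq_of_ne hq, mul_zero])
      (fun h => absurd (Finset.mem_univ _) h), Pi.single_eq_same, mul_one] at h3
    exact h3
  refine ⟨Q, hFQ, fun q => e q.out, fun q => (Finset.univ.filter fun i =>
    Quotient.mk st i = q).card, fun q => he _, fun q => hp _, fun q => hble _, fun q => ?_, hcomp,
    fun χ hχ => ?_, hcard, hlin⟩
  · exact Finset.card_pos.2 ⟨q.out, Finset.mem_filter.2 ⟨Finset.mem_univ _, Quotient.out_eq q⟩⟩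
  · rw [← hs, val_sum, ← sum_comp_eq (fun j => Quotient.mk st j) fun q => val χ (e q.out)]
    exact Finset.sum_congr rfl fun j _ => hval χ hχ j

theorem val_eq_zero_of_notMem (hM : IsPModular p M) (hBu : IsUnion M B)
    {e : MonoidAlgebra (localRing M) G} (he : blockR hM hBu * e = e) {χ : IrrCharacter G}
    (hχ : χ ∉ B) : val (χ : G → ℂ) e = 0 := by
  rw [← he, val_blockR_of_notMem hM hBu hχ]

/-- Generalized characters in `B` vanishing off the `p`-regular elements are integral combinations
of the projective indecomposable characters. -/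
theorem exists_int_of_vanish [Fintype G] [Fact p.Prime] (hM : IsPModular p M) (hBu : IsUnion M B)
    {ι : Type*} [Fintype ι] {e : ι → MonoidAlgebra (localRing M) G}
    (heB : ∀ i, blockR hM hBu * e i = e i)
    (hcomp : ∀ f : MonoidAlgebra (localRing M) G, f * f = f → blockR hM hBu * f = f →
      ∃ m : ι → ℕ, ∀ χ : G → ℂ, IsClassFunction G χ → val χ f = ∑ i, (m i : ℂ) * val χ (e i))
    {θ : G → ℂ} (hθ : IsGeneralizedCharacter G θ) (h0 : ∀ g, ¬ IsPRegular p g → θ g = 0)
    (hθB : ∀ χ : IrrCharacter G, χ ∉ B → classInner θ (χ : G → ℂ) = 0) :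
    ∃ a : ι → ℤ, ∀ χ : IrrCharacter G,
      classInner θ (χ : G → ℂ) = ∑ i, (a i : ℂ) * val (χ : G → ℂ) (e i) := by
  classical
  have key : ∀ u ∈ AddSubgroup.closure (Cfsg.Agent.H646.ProjLat.linInd p G),
      ∃ a : ι → ℤ, ∀ χ : IrrCharacter G, χ ∈ B →
        classInner u (χ : G → ℂ) = ∑ i, (a i : ℂ) * val (χ : G → ℂ) (e i) := by
    intro u hu
    induction hu using AddSubgroup.closure_induction with
    | mem x hx =>
      obtain ⟨H, lam, hH, rfl⟩ := hx
      have := Fintype.ofFinite H
      obtain ⟨m, hm⟩ := hcomp (blockR hM hBu * linR hM H hH lam) (by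
        rw [← mul_assoc, mul_assoc (blockR hM hBu), ← blockR_comm, ← mul_assoc, blockR_mul_self,
          mul_assoc, linR_mul_self]) (by rw [← mul_assoc, blockR_mul_self])
      refine ⟨fun i => m i, fun χ hχ => ?_⟩
      have hcl := Blocks.Basic.irr_isClassFunction χ.2
      have h1 := hm _ hcl
      rw [val_blockR_of_mem hM hBu hχ] at h1
      obtain ⟨k, hk⟩ := exists_nat_val (Blocks.Basic.irr_isCharacter χ.2)
        (linR_mul_self hM H hH lam)
      rw [Characters.Brauer.classInner_indFun H inferInstance _ _ hcl,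
        ← Characters.Core.classInner_conj_symm, ← val_linR_eq_classInner hM H hH lam, hk,
        Complex.conj_natCast, ← hk, h1]
      push_cast
      rfl
    | zero =>
      refine ⟨0, fun χ _ => ?_⟩
      rw [Characters.Core.classInner_zero_left]
      simp
    | add x y _ _ hx hy =>
      obtain ⟨a, ha⟩ := hx
      obtain ⟨b, hb⟩ := hy
      refine ⟨a + b, fun χ hχ => ?_⟩
      rw [Characters.Core.classInner_add_left, ha χ hχ, hb χ hχ, ← Finset.sum_add_distrib]
      refine Finset.sum_congr rfl fun i _ => ?_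
      rw [Pi.add_apply]
      push_cast
      ring
    | neg x _ hx =>
      obtain ⟨a, ha⟩ := hx
      refine ⟨-a, fun χ hχ => ?_⟩
      have : classInner (-x) (χ : G → ℂ) = - classInner x (χ : G → ℂ) := by
        rw [← neg_one_smul ℂ x, Characters.Core.classInner_smul_left, neg_one_mul]
      rw [this, ha χ hχ, ← Finset.sum_neg_distrib]
      refine Finset.sum_congr rfl fun i _ => ?_
      rw [Pi.neg_apply]
      push_cast
      ring
  obtain ⟨a, ha⟩ := key θ (Cfsg.Agent.H646.ProjLat.mem_closure_of_vanish p hθ h0)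
  refine ⟨a, fun χ => ?_⟩
  by_cases hχ : χ ∈ B
  · exact ha χ hχ
  · rw [hθB χ hχ]
    symm
    exact Finset.sum_eq_zero fun i _ => by rw [val_eq_zero_of_notMem hM hBu (heB i) hχ, mul_zero]

end Block

end Cfsg.Agent.H646.Pims
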