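import Mathlib
import Cfsg.Prelude.Def_BrauerPairs
import Cfsg.Agent.H649.Transport

/-!
# Blocks of a subgroup `C`, seen inside an intermediate subgroup `T`

`subE h e`: the set `e` of irreducible characters of `C ≤ T` as characters of `C.subgroupOf T`.
-/

set_option autoImplicit false

namespace Cfsg.Agent.H646.SubT

open Cfsg
open Cfsg.Agent.H649

universe u

variable {G : Type u} [Group G] {C T : Subgroup G} {M : Ideal AlgInt}

/-- The characters of `C ≤ T` as characters of `C.subgroupOf T`. -/
def subE (h : C ≤ T) (e : Set (IrrCharacter C)) : Set (IrrCharacter (C.subgroupOf T)) :=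
  blkMap (Subgroup.subgroupOfEquivOfLe h).symm e

theorem isPBlock_subE (h : C ≤ T) {e : Set (IrrCharacter C)} (he : IsPBlock M e) :
    IsPBlock M (subE h e) := isPBlock_blkMap he

theorem subgroupBlockCoeff_subE (h : C ≤ T) (e : Set (IrrCharacter C)) (t : T) :
    subgroupBlockCoeff (C.subgroupOf T) (subE h e) t = subgroupBlockCoeff C e (t : G) := by
  unfold subgroupBlockCoeff
  by_cases ht : (t : G) ∈ C
  · have ht' : t ∈ C.subgroupOf T := ht
    rw [dif_pos ht, dif_pos ht']
    unfold subE
    rw [blockCoeff_blkMap']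
    rfl
  · have ht' : t ∉ C.subgroupOf T := ht
    rw [dif_neg ht, dif_neg ht']

theorem stabilizesBlock_subE (h : C ≤ T) {e : Set (IrrCharacter C)} {t : T}
    (hst : StabilizesBlock C e (t : G)) : StabilizesBlock (C.subgroupOf T) (subE h e) t := by
  refine ⟨?_, ?_⟩
  · rw [Subgroup.mem_normalizer_iff]
    intro x
    exact Subgroup.mem_normalizer_iff.mp hst.1 (x : G)
  · rintro _ ⟨θ, hθ, rfl⟩
    obtain ⟨θ', hθ', h'⟩ := hst.2 θ hθ
    refine ⟨irrMap (Subgroup.subgroupOfEquivOfLe h).symm θ', ⟨θ', hθ', rfl⟩, ?_⟩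
    intro k k' hk
    rw [irrMap_apply, irrMap_apply]
    refine h' _ _ ?_
    have := congrArg (fun z : T => (z : G)) hk
    simpa using this

end Cfsg.Agent.H646.SubT
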